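import Cfsg.Agent.ODD.C2.OmD_m3
import Cfsg.Agent.Nodes.TypeD
import Cfsg.Agent.ClassicalGeometry.OrthDickson
import Cfsg.Agent.LieClassical.OrthForms
import Cfsg.Agent.H390.PslSpec
import Cfsg.Agent.DL.Tw.Gr
import Cfsg.Agent.ODD.Red.Cl_m3
import Cfsg.Agent.ODD.C2.MnDat_m3
import Cfsg.Agent.ODD.C2.Desc
import Cfsg.Agent.DL.Ex.Fin_m3
import Cfsg.Agent.Nodes.SimplyLaced
import Cfsg.Agent.ChevalleyStructure.StBasic
import Cfsg.Agent.S1054
import Cfsg.Agent.S1077
import Cfsg.Agent.S1097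
import Cfsg.Agent.ODD.PW.Rows_m3
import Cfsg.Agent.Tits.Gate
import Cfsg.Agent.Nodes.NormalForm
import Cfsg.Agent.Nodes.LeviDec
import Cfsg.Agent.ODD.AH.Main_m3
import Cfsg.Agent.Classification.BSW.Theta
import Cfsg.Agent.Nodes.Coroot
import Cfsg.Agent.H670.SL2Vals
import Cfsg.Agent.H992.HT.Trace
import Cfsg.Agent.ODD.Cov.Lin
import Cfsg.Agent.H69.OQ.InMinus_m3
import Cfsg.Agent.H694.EB.StarBD
import Cfsg.Agent.Mrg.Omega.EH3.Kf.InL_m3
import Cfsg.Agent.ODD.Exc.U43
import Cfsg.Agent.H61.SUCross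
import Cfsg.Agent.H346.Pw.TwoU
import Cfsg.Agent.FastGrp
import Cfsg.Agent.Prune
set_option linter.all false

section
prune_inst 0x7fb0e9f909a801dedfff7fbfa6d7cdfd90a90fffa4def9cb3fe021af0b9f03008945218589e000fe0ec2421410287803fd7eeeffe06bdc7ffffd5ff41ffbee4fe5f6b100519080240f300ff603f0778a6f3fffffffffffffffffffffffffffbeffbffbfeffff

-- part: ODD/C2/OmFin
section
prune_inst 0xd14043614fe2100000040580012002d1270000b210400c008405004004c8e04804a08020112000115a02804d00310028010000a0020000000a0004000118008000c08200e0c90008c00010000080410000000000000000000000000000000000004010000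
set_option linter.all false
open scoped Cfsg.Agent.FastGrp

-- part: ODD/C2/OmG
section
/-!
# The algebraic group of type `D` in characteristic two is the kernel of the Dickson sign (helper1)

`QD k n` : the split form on `Fin n × Bool → k`; `IsD m` : the weights of the natural module; **`IsD.mem_G`**.
-/

set_option autoImplicit false
set_option linter.unusedSectionVars false

namespace Cfsg.Agent.ODD.C2.Om

open CoxeterSystem Cfsg.Agent.ChevalleyStructure.CoxeterGeom Cfsg.Agent.Tits.Roots Matrix Cfsg.Agent.DL QuadraticMap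
open Cfsg.Agent.ClassicalGeometry.Reflection Cfsg.Agent.ClassicalGeometry.OrthCharTwo
  Cfsg.Agent.ClassicalGeometry.OrthDickson
open Cfsg.Agent.Nodes Cfsg.Agent.Nodes.TypeC

section Form

variable (k : Type) [Field k] (n : ℕ)

/-- the split quadratic form -/
def QD : QuadraticForm k (Fin n × Bool → k) :=
  ∑ i : Fin n, QuadraticMap.linMulLin (LinearMap.proj (i, true)) (LinearMap.proj (i, false))

variable {k n}

theorem QD_apply (v : Fin n × Bool → k) : QD k n v = ∑ i, v (i, true) * v (i, false) := by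
  simp only [QD, _root_.sum_apply, _root_.QuadraticMap.linMulLin_apply, _root_.LinearMap.coe_proj, _root_.Function.eval]

theorem polar_QD (u v : Fin n × Bool → k) :
    polar (QD k n) u v = ∑ i, (u (i, true) * v (i, false) + u (i, false) * v (i, true)) := by
  simp only [polar, QD_apply, Pi.add_apply, ← Finset.sum_sub_distrib]
  exact Finset.sum_congr rfl fun i _ => by ring

theorem polar_single (u : Fin n × Bool → k) (b : Fin n × Bool) (c : k) :
    polar (QD k n) u (Pi.single b c) = u (ng b) * c := by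
  obtain ⟨j, s⟩ := b
  rw [polar_QD, Finset.sum_eq_single j (fun i _ hi => by simp [hi]) (by simp only [_root_.Finset.mem_univ, _root_.not_true_eq_false, _root_.IsEmpty.forall_iff])]
  cases s <;> simp [ng]

theorem QD_single (b : Fin n × Bool) (c : k) : QD k n (Pi.single b c) = 0 := by
  obtain ⟨j, s⟩ := b
  rw [QD_apply]
  exact Finset.sum_eq_zero fun i _ => by cases s <;> simp

theorem QD_nondeg : (polarBilin (QD k n)).Nondegenerate := by
  have h : ∀ x : Fin n × Bool → k, (∀ y, polar (QD k n) x y = 0) → x = 0 := fun x hx => funext fun b => by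
    have := hx (Pi.single (ng b) 1)
    rwa [polar_single, ng_ng, mul_one] at this
  exact ⟨h, fun x hx => h x fun y => (polar_comm _ _ _).trans (hx y)⟩

/-- the action of the root elements -/
def ac (y z : Fin n × Bool) (u : k) (v : Fin n × Bool → k) : Fin n × Bool → k :=
  v + Pi.single y (u * v (ng z)) + Pi.single z (u * v (ng y))

theorem QD_ac [CharP k 2] {y z : Fin n × Bool} (h : y.1 ≠ z.1) (u : k) (v : Fin n × Bool → k) :
    QD k n (ac y z u v) = QD k n v := by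
  have h1 : ng z ≠ y := fun e => h (by rw [← e]; rfl)
  rw [ac, map_add', map_add', QD_single, QD_single, polar_single, polar_single, Pi.add_apply, Pi.single_eq_of_ne h1]
  linear_combination (u * v (ng y) * v (ng z)) * (CharTwo.two_eq_zero (R := k))

theorem st_iff {y z b c : Fin n × Bool} (h : y.1 ≠ z.1) :
    wt b = wt c + (wt y + wt z) ↔ (b = y ∧ c = ng z) ∨ (b = z ∧ c = ng y) := by
  have h1 : wt b = wt c + (wt y + wt z) ↔ wt b + wt (ng c) = wt y + wt z := by
    rw [wt_ng, ← sub_eq_add_neg, sub_eq_iff_eq_add']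
  rw [h1]
  constructor
  · intro e
    have h2 : Ok b (ng c) := by
      by_cases h3 : b.1 = c.1
      · refine Or.inr ?_
        obtain ⟨i, s⟩ := b
        obtain ⟨j, t⟩ := c
        obtain rfl : i = j := h3
        by_cases h4 : s = t
        · subst h4
          rw [wt_ng, add_neg_cancel] at e
          have h5 := congrFun e y.1
          rw [Pi.add_apply, wt_apply, wt_apply, if_pos rfl, if_neg h] at h5
          split_ifs at h5 <;> simp at h5
        · cases s <;> cases t <;> simp_all only [ng, _root_.ne_eq, _root_.left_eq_add, _root_.Bool.not_true, _root_.not_true_eq_false, _root_.Bool.false_eq_true, _root_.not_false_eq_true, _root_.Bool.not_false, _root_.Bool.true_eq_false]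
      · exact Or.inl h3
    rcases wt_add_eq h2 (Or.inl h) e with ⟨h3, h4⟩ | ⟨h3, h4⟩
    · exact Or.inl ⟨h3, by rw [← h4, ng_ng]⟩
    · exact Or.inr ⟨h3, by rw [← h4, ng_ng]⟩
  · rintro (⟨rfl, rfl⟩ | ⟨rfl, rfl⟩)
    · rw [ng_ng]
    · rw [ng_ng, add_comm]

theorem chr_wt_true (i : Fin n) (c : Fin n → kˣ) : chr (wt (i, true)) c = c i := chr_single i c

theorem chr_wt_false (i : Fin n) (c : Fin n → kˣ) : chr (wt (i, false)) c = (c i)⁻¹ := by
  rw [show ((i, false) : Fin n × Bool) = ng (i, true) from rfl, wt_ng, chr_neg, chr_wt_true]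

/-- the vector `e_l + f_l` -/
def v0 (k : Type) [Field k] (l : Fin n) : Fin n × Bool → k := Pi.single (l, true) 1 + Pi.single (l, false) 1

theorem QD_v0 (l : Fin n) : QD k n (v0 k l) = 1 := by
  rw [v0, map_add', QD_single, QD_single, polar_single]
  simp [ng]

theorem QD_v0_ne (l : Fin n) : QD k n (v0 k l) ≠ 0 := by rw [QD_v0]; exact one_ne_zero

theorem pm_mulVec (π : Equiv.Perm (Fin n × Bool)) (v : Fin n × Bool → k) (b : Fin n × Bool) :
    ((pm k π : Matrix _ _ k) *ᵥ v) (π b) = v b := by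
  rw [mulVec, dotProduct, Finset.sum_eq_single b (fun c _ hc => by
    rw [pm_apply, if_neg (fun e => hc (π.injective e).symm), zero_mul]) (by simp only [_root_.Finset.mem_univ, _root_.not_true_eq_false, _root_.mul_eq_zero, _root_.IsEmpty.forall_iff]), pm_apply, if_pos rfl, one_mul]

theorem refl_v0 [CharP k 2] (l : Fin n) :
    reflGL (QD k n) (v0 k l) (QD_v0_ne l) = pm k (Equiv.swap (l, true) (l, false)) := by
  refine Units.ext (Matrix.mulVec_injective (funext fun v => funext fun b => ?_))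
  obtain ⟨b, rfl⟩ := (Equiv.swap ((l, true) : Fin n × Bool) (l, false)).surjective b
  have h2 := CharTwo.two_eq_zero (R := k)
  rw [pm_mulVec, coe_reflGL, reflectionMatrix_mulVec, QD_v0, polar_comm, v0, polar_add_right, polar_single, polar_single]
  by_cases h : b = (l, true)
  · subst h
    simp [ng]
    linear_combination (-v (l, true)) * h2
  by_cases h' : b = (l, false)
  · subst h'
    simp [ng]
    linear_combination (-v (l, false)) * h2
  · rw [Equiv.swap_apply_of_ne_of_ne h h']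
    simp [h, h']

end Form

variable {n : ℕ} {k : Type} [Field k] [CharP k 2]

/-- the weights are those of the natural module of type `D` -/
structure IsD (m : Mn (TypeD.A n) (Fin (n + 2)) (Fin (n + 2) × Bool)) : Prop where
  μ : ∀ a, m.μ a = wt a
  wt : ∀ x, m.wt x = TypeD.ee x

namespace IsD

variable {m : Mn (TypeD.A n) (Fin (n + 2)) (Fin (n + 2) × Bool)} (H : IsD m)
  {W : Type} [Group W] [Finite W] {cs : CoxeterSystem (TypeD.M n) W}

include H

theorem x_mulVec {a : Fin (n + 2) → ℤ} (ha : IsRoot cs (TypeD.isCartan n) a) {y z : Fin (n + 2) × Bool} (h : y.1 ≠ z.1)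
    (e : TypeD.ee a = TypeC.wt y + TypeC.wt z) (u : k) (v : Fin (n + 2) × Bool → k) :
    (m.x k a u : Matrix _ _ k) *ᵥ v = ac y z u v := by
  funext b
  have h1 : ∀ c, m.St a b c ↔ (b = y ∧ c = ng z) ∨ (b = z ∧ c = ng y) := fun c => by
    rw [Mn.St, H.μ, H.μ, H.wt, e, st_iff h]
  have h2 : y ≠ z := fun e => h (by rw [e])
  simp only [mulVec, dotProduct, m.x_apply ha, h1, add_mul, Finset.sum_add_distrib, ite_mul, one_mul, zero_mul,
    Finset.sum_ite_eq, Finset.mem_univ, if_true, ac, Pi.add_apply, add_assoc, add_right_inj]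
  by_cases h3 : b = y
  · subst h3
    simp [h2]
  by_cases h4 : b = z
  · subst h4
    simp [h3]
  · simp [h3, h4]

theorem τ_mulVec (c : Fin (n + 2) → kˣ) (v : Fin (n + 2) × Bool → k) (b : Fin (n + 2) × Bool) :
    ((m.τ k c : Matrix _ _ k) *ᵥ v) b = (chr (TypeC.wt b) c : kˣ) * v b := by
  rw [m.coe_τ, mulVec_diagonal, H.μ]

theorem τ_iso (c : Fin (n + 2) → kˣ) : m.τ k c ∈ isometryGroup k (QD k (n + 2)) :=
  (mem_isometryGroup_iff _ _).2 fun v => by
    rw [QD_apply, QD_apply]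
    refine Finset.sum_congr rfl fun i _ => ?_
    rw [H.τ_mulVec, H.τ_mulVec, chr_wt_true, chr_wt_false]
    linear_combination (v (i, true) * v (i, false)) * (c i).mul_inv

theorem x_iso {a : Fin (n + 2) → ℤ} (ha : IsRoot cs (TypeD.isCartan n) a) (u : k) :
    m.x k a u ∈ isometryGroup k (QD k (n + 2)) := by
  obtain ⟨y, z, h, e⟩ := TypeD.exists_of_isRoot cs ha
  exact (mem_isometryGroup_iff _ _).2 fun v => by rw [H.x_mulVec ha h e, QD_ac h]

theorem G_le_iso : m.G k cs (TypeD.isCartan n) ≤ isometryGroup k (QD k (n + 2)) :=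
  m.G_le H.τ_iso fun _ ha => H.x_iso ha

theorem exists_ac {y z : Fin (n + 2) × Bool} (h : y.1 ≠ z.1) (u : k) :
    ∃ g ∈ m.G k cs (TypeD.isCartan n), ∀ v, (g : Matrix _ _ k) *ᵥ v = ac y z u v := by
  obtain ⟨a, ha, e⟩ := TypeD.rt_of_ok (cs := cs) h
  exact ⟨_, m.x_mem_G ha u, H.x_mulVec ha h e u⟩

variable [IsAlgClosed k]

omit H in
theorem theta0 : ∃ θ : k, θ ≠ 0 ∧ θ ≠ 1 := by
  classical
  obtain ⟨θ, h⟩ := Infinite.exists_notMem_finset ({0, 1} : Finset k)
  exact ⟨θ, by simpa only [_root_.ne_eq, _root_.Finset.mem_insert, _root_.Finset.mem_singleton, _root_.not_or] using h⟩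

omit H in
theorem theta : (∃ θ : k, θ ≠ 0 ∧ θ ≠ 1) ∨ Fintype.card (Fin (n + 2) × Bool) ≠ 4 := Or.inl theta0

theorem dsign_G {y : GL (Fin (n + 2) × Bool) k} (hy : y ∈ m.G k cs (TypeD.isCartan n)) :
    dsign (QD k (n + 2)) ⟨y, H.G_le_iso hy⟩ = 1 := by
  have h1 : m.G k cs (TypeD.isCartan n) ≤ (dsignHom (QD k (n + 2)) QD_nondeg theta).ker.map (Subgroup.subtype _) := by
    refine m.G_le (fun c => ⟨⟨_, H.τ_iso c⟩, ?_, rfl⟩) fun a ha u => ⟨⟨_, H.x_iso ha u⟩, ?_, rfl⟩
    · have h2 : ∀ i, ∃ d : kˣ, d * d = c i := fun i => by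
        obtain ⟨d, hd⟩ := IsAlgClosed.exists_eq_mul_self (c i : k)
        exact ⟨Units.mk0 d fun h => (c i).ne_zero (by rw [hd, h, mul_zero]), Units.ext hd.symm⟩
      choose d hd using h2
      have h3 : (⟨_, H.τ_iso c⟩ : isometryGroup k (QD k (n + 2))) = ⟨_, H.τ_iso d⟩ * ⟨_, H.τ_iso d⟩ :=
        Subtype.ext ((congrArg (m.τ k) (funext hd).symm).trans (map_mul _ d d))
      rw [SetLike.mem_coe, MonoidHom.mem_ker, h3, map_mul, Int.units_mul_self]
    · obtain ⟨θ, h⟩ := theta0 (k := k)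
      obtain ⟨c, hc⟩ := chr_surj (k := k) (m := m.wt a) (fun e => ha.ne_zero (TypeD.ee_injective (by
        rw [← H.wt, ← H.wt, e, map_zero]))) (Units.mk0 θ h.1)
      have h2 : (⟨_, H.x_iso ha u⟩ : isometryGroup k (QD k (n + 2))) = ⟨_, H.τ_iso c⟩ * ⟨_, H.x_iso ha (u / (θ - 1))⟩ *
          ⟨_, H.τ_iso c⟩⁻¹ * ⟨_, H.x_iso ha (u / (θ - 1))⟩⁻¹ := Subtype.ext (by
        show _ = m.τ k c * m.x k a _ * (m.τ k c)⁻¹ * (m.x k a _)⁻¹
        rw [m.τ_x ha, ← m.x_neg ha, ← m.x_add, hc, Units.val_mk0]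
        refine congrArg (m.x k a) ?_
        have := sub_ne_zero.2 h.2
        field_simp
        ring)
      rw [SetLike.mem_coe, MonoidHom.mem_ker, h2, map_mul, map_mul, map_mul, map_inv, map_inv, mul_inv_cancel_comm,
        mul_inv_cancel]
  obtain ⟨z, hz, rfl⟩ := h1 hy
  exact hz

/-- transitivity on the non-singular lines -/
theorem exists_v0 (l : Fin (n + 2)) (v : Fin (n + 2) × Bool → k) (hv : QD k (n + 2) v ≠ 0) :
    ∃ g ∈ m.G k cs (TypeD.isCartan n), ∃ c : k, (g : Matrix _ _ k) *ᵥ v = c • v0 k l := by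
  have key : ∀ (S : Finset (Fin (n + 2) × Bool)) (v : Fin (n + 2) × Bool → k), QD k (n + 2) v ≠ 0 → v (l, true) ≠ 0 →
      (∀ b, b.1 ≠ l → b ∉ S → v b = 0) →
      ∃ g ∈ m.G k cs (TypeD.isCartan n), ∃ c : k, (g : Matrix _ _ k) *ᵥ v = c • v0 k l := by
    intro S
    induction S using Finset.induction_on with
    | empty =>
      intro v h1 h2 h3
      rw [QD_apply, Finset.sum_eq_single l (fun i _ hi => by rw [h3 (i, true) hi (by simp), zero_mul]) (by simp)] at h1
      obtain ⟨t, ht⟩ := IsAlgClosed.exists_eq_mul_self (v (l, false) / v (l, true))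
      have h4 : t ≠ 0 := fun h => div_ne_zero (right_ne_zero_of_mul h1) h2 (by rw [ht, h, mul_zero])
      refine ⟨_, m.τ_mem_G fun _ => Units.mk0 t h4, t * v (l, true), funext fun b => ?_⟩
      rw [H.τ_mulVec]
      by_cases h5 : b.1 = l
      · obtain ⟨j, s⟩ := b
        obtain rfl : j = l := h5
        cases s
        · rw [chr_wt_false]
          simp only [v0, Units.val_inv_eq_inv_val, Units.val_mk0, Pi.smul_apply, Pi.add_apply, Pi.single_eq_same,
            Pi.single_eq_of_ne (show ((j, false) : Fin (n + 2) × Bool) ≠ (j, true) by simp), smul_eq_mul]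
          rw [div_eq_iff h2] at ht
          rw [ht]
          field_simp
          ring
        · rw [chr_wt_true]
          simp [v0]
      · have h6 : b ≠ (l, true) := fun e => h5 (by rw [e])
        have h7 : b ≠ (l, false) := fun e => h5 (by rw [e])
        rw [h3 b h5 (by simp)]
        simp [v0, h6, h7]
    | insert w S _ ih =>
      intro v h1 h2 h3
      by_cases h4 : w.1 = l
      · exact ih v h1 h2 fun b hb hS => h3 b hb (by
          rw [Finset.mem_insert, not_or]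
          exact ⟨fun e => hb (by rw [e, h4]), hS⟩)
      obtain ⟨g, hg, e⟩ := H.exists_ac (cs := cs) (y := w) (z := (l, false)) h4 (-(v w / v (l, true)))
      have h5 : w ≠ (l, true) := fun e => h4 (by rw [e])
      have h6 : w ≠ (l, false) := fun e => h4 (by rw [e])
      obtain ⟨g', hg', c, e'⟩ := ih (ac w (l, false) (-(v w / v (l, true))) v) (by rwa [QD_ac h4])
        (by simpa [ac, h5.symm] using h2) fun b hb hS => by
          have h7 : b ≠ (l, false) := fun e => hb (by rw [e])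
          by_cases h8 : b = w
          · subst h8
            simp [ac, h7, ng, h2]
          · simp [ac, h7, h8, h3 b hb (by simp [h8, hS])]
      exact ⟨g' * g, mul_mem hg' hg, c, by rw [Units.val_mul, ← mulVec_mulVec, e, e']⟩
  by_cases h1 : v (l, true) = 0
  · obtain ⟨w, h2, h3⟩ : ∃ w : Fin (n + 2) × Bool, w.1 ≠ l ∧ v w ≠ 0 := by
      by_contra h
      push Not at h
      refine hv ?_
      rw [QD_apply]
      refine Finset.sum_eq_zero fun i _ => ?_
      by_cases hi : i = l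
      · rw [hi, h1, zero_mul]
      · rw [h (i, true) hi, zero_mul]
    have h4 : ((l, true) : Fin (n + 2) × Bool).1 ≠ (ng w).1 := h2.symm
    obtain ⟨g, hg, e⟩ := H.exists_ac (cs := cs) (k := k) h4 1
    have h5 : (l, true) ≠ ng w := fun e => h4 (by rw [e])
    obtain ⟨g', hg', c, e'⟩ := key Finset.univ (ac (l, true) (ng w) 1 v) (by rwa [QD_ac h4])
      (by simpa [ac, h1, h5] using h3) (by simp)
    exact ⟨g' * g, mul_mem hg' hg, c, by rw [Units.val_mul, ← mulVec_mulVec, e, e']⟩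
  · exact key Finset.univ v hv h1 (by simp)

/-- **the algebraic group is the kernel of the Dickson sign** -/
theorem mem_G {l : Fin (n + 2)} {g : (Fin (n + 2) → ℤ) → Fin (n + 2) → ℤ} {B : Matrix (Fin (n + 2)) (Fin (n + 2)) ℤ}
    (S : m.Sy cs (TypeD.isCartan n) (MulAut.conj (pm k (Equiv.swap (l, true) (l, false)))) g B)
    (y : isometryGroup k (QD k (n + 2))) : y.1 ∈ m.G k cs (TypeD.isCartan n) ↔ dsign (QD k (n + 2)) y = 1 := by
  refine ⟨fun h => H.dsign_G h, fun h => ?_⟩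
  set r := reflIso (QD k (n + 2)) (v0 k l) (QD_v0_ne l) with hr
  set K := (m.G k cs (TypeD.isCartan n)).subgroupOf (isometryGroup k (QD k (n + 2)))
  have h1 : ∀ z ∈ K, r * z * r⁻¹ ∈ K := fun z hz => by
    have h2 : m.G k cs (TypeD.isCartan n) ≤ (m.G k cs (TypeD.isCartan n)).comap
        (MulAut.conj (pm k (Equiv.swap (l, true) (l, false)))).toMonoidHom :=
      m.G_le (fun c => by
        show MulAut.conj _ _ ∈ m.G k cs (TypeD.isCartan n)
        rw [S.τ]
        exact m.τ_mem_G _) fun a ha u => by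
        show MulAut.conj _ _ ∈ m.G k cs (TypeD.isCartan n)
        rw [S.x a ha]
        exact m.x_mem_G (S.root a ha) _
    have h3 := h2 hz
    rw [← refl_v0] at h3
    exact h3
  have h2 : y ∈ K ∨ y * r⁻¹ ∈ K := by
    refine isometry_induction _ QD_nondeg theta (fun y => y ∈ K ∨ y * r⁻¹ ∈ K) (Or.inl (one_mem _)) (fun v hv z hz => ?_) y
    obtain ⟨t, ht, c, e⟩ := H.exists_v0 (cs := cs) l v hv
    set t' : isometryGroup k (QD k (n + 2)) := ⟨t, H.G_le_iso ht⟩
    have ht' : t' ∈ K := ht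
    have h3 : QD k (n + 2) (c • v0 k l) ≠ 0 := by
      rw [← e, (mem_isometryGroup_iff _ _).1 t'.2]
      exact hv
    have h4 : t' * reflIso _ v hv * t'⁻¹ = r := by
      rw [conj_reflIso _ v hv t' (e ▸ h3), hr, ← refl_smul _ _ (QD_v0_ne l) c
        (fun h => h3 (by rw [h, zero_smul, QuadraticMap.map_zero])) h3]
      congr 1
    have h5 : reflIso _ v hv = t'⁻¹ * r * t' := by rw [← h4]; group
    have h6 : r * r = 1 := reflIso_mul_self _ _ _
    rw [h5]
    rcases hz with hz | hz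
    · exact Or.inr (by simpa only [mul_assoc] using mul_mem (inv_mem ht') (h1 _ (mul_mem ht' hz)))
    · refine Or.inl ?_
      have h7 := mul_mem (inv_mem ht') (h1 _ (mul_mem ht' hz))
      rwa [show t'⁻¹ * (r * (t' * (z * r⁻¹)) * r⁻¹) = t'⁻¹ * r * t' * z * (r * r)⁻¹ by group, h6, inv_one, mul_one] at h7
  refine h2.elim id fun h3 => ?_
  have h4 : dsign _ (y * r⁻¹) = 1 := H.dsign_G h3
  rw [dsign_mul_of_gen _ QD_nondeg theta, h, hr, reflIso_inv, dsign_refl _ QD_nondeg] at h4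
  exact absurd h4 (by decide)

end IsD

end Cfsg.Agent.ODD.C2.Om
end

-- part: ODD/C2/OmE
section
/-!
# `Ω^±` in characteristic two as `G^F` (helper1)

`Tw f Q0 e r` : a base change of the form `Q0` over `F` to the split form; `Tw.emb`; **`IsD.embP`**, **`IsD.embM`**.
-/

set_option autoImplicit false
set_option linter.unusedSectionVars false
set_option linter.unnecessarySeqFocus false

namespace Cfsg.Agent.ODD.C2.Om

open CoxeterSystem Cfsg.Agent.ChevalleyStructure.CoxeterGeom Cfsg.Agent.Tits.Roots Matrix Cfsg.Agent.DL QuadraticMap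
open Cfsg.Agent.ClassicalGeometry.Reflection Cfsg.Agent.ClassicalGeometry.OrthCharTwo
  Cfsg.Agent.ClassicalGeometry.OrthDickson Cfsg.Agent.LieClassical.OrthForms Cfsg.Agent.LieClassical.OrthCore
open Cfsg.Agent.Nodes Cfsg.Agent.Nodes.TypeC Cfsg.Agent.LangThm

variable {ι : Type} [Fintype ι] [DecidableEq ι] {F : Type} [Field F] {k : Type} [Field k] [CharP k 2] {d : ℕ}

theorem nondeg_of {Q : QuadraticForm F (ι → F)} (h : Nondeg Q) : (polarBilin Q).Nondegenerate :=
  ⟨h, fun x hx => h x fun y => (polar_comm _ _ _).trans (hx y)⟩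

theorem mem_comm_iff [Finite F] [Nonempty ι] {Q : QuadraticForm F (ι → F)} (h2 : (2 : F) = 0)
    (hQ : (polarBilin Q).Nondegenerate) (h : (∃ θ : F, θ ≠ 0 ∧ θ ≠ 1) ∨ Fintype.card ι ≠ 4) (g : isometryGroup F Q) :
    g ∈ commutator (isometryGroup F Q) ↔ dsign Q g = 1 := by
  refine isometry_induction Q hQ h (fun g => g ∈ commutator (isometryGroup F Q) ↔ dsign Q g = 1)
    ⟨fun _ => dsign_one Q, fun _ => one_mem _⟩ (fun v hv g hg => ?_) g
  rw [Subgroup.mul_mem_iff_of_index_two (index_commutator_two Q h2 hQ h), dsign_refl_mul Q hQ, hg]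
  have h1 := refl_notMem_commutator Q hQ h v hv
  rcases Int.units_eq_one_or (dsign Q g) with e | e <;> simp [h1, e]

/-- a base change to the split form which turns the Frobenius map into `r ∘ Frob` -/
structure Tw (f : F →+* k) (Q0 : QuadraticForm F (ι → F)) (e : ℕ) (r : GL (Fin d × Bool) k) where
  P : Matrix (Fin d × Bool) ι k
  P' : Matrix ι (Fin d × Bool) k
  h1 : P * P' = 1
  h2 : P' * P = 1
  form : ∀ v : ι → F, QD k d (P *ᵥ (f ∘ v)) = f (Q0 v)
  fr : r.val * P.map (iterateFrobenius k 2 e) = P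

namespace Tw

variable {f : F →+* k} {Q0 : QuadraticForm F (ι → F)} {e : ℕ} {r : GL (Fin d × Bool) k} (T : Tw f Q0 e r)

theorem conj_mul (A B : Matrix ι ι F) :
    T.P * A.map f * T.P' * (T.P * B.map f * T.P') = T.P * (A * B).map f * T.P' := by
  rw [Matrix.map_mul]
  simp only [Matrix.mul_assoc]
  rw [← Matrix.mul_assoc T.P' T.P, T.h2, Matrix.one_mul]

theorem conj_one : T.P * (1 : Matrix ι ι F).map f * T.P' = 1 := by
  rw [Matrix.map_one _ (map_zero f) (map_one f), Matrix.mul_one, T.h1]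

/-- the embedding of the linear groups -/
def ψ : GL ι F →* GL (Fin d × Bool) k :=
  MonoidHom.mk' (fun g => ⟨T.P * (g : Matrix ι ι F).map f * T.P', T.P * ((g⁻¹ : GL ι F) : Matrix ι ι F).map f * T.P',
    by rw [T.conj_mul, Units.mul_inv, T.conj_one], by rw [T.conj_mul, Units.inv_mul, T.conj_one]⟩)
    fun _ _ => Units.ext (T.conj_mul _ _).symm

theorem coe_ψ (g : GL ι F) : (T.ψ g).val = T.P * (g : Matrix ι ι F).map f * T.P' := rfl

theorem conj_ψ (g : GL ι F) : T.P' * (T.ψ g).val * T.P = (g : Matrix ι ι F).map f := by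
  rw [coe_ψ]
  simp only [← Matrix.mul_assoc]
  rw [T.h2, Matrix.one_mul, Matrix.mul_assoc, T.h2, Matrix.mul_one]

theorem ψ_inj : Function.Injective T.ψ := fun g h e =>
  Units.ext (Matrix.map_injective f.injective (by simp only; rw [← T.conj_ψ, ← T.conj_ψ, e]))

/-- the rational vectors -/
def lv (v : ι → F) : Fin d × Bool → k := T.P *ᵥ (f ∘ v)

theorem lv_add (u v : ι → F) : T.lv (u + v) = T.lv u + T.lv v := by
  rw [lv, lv, lv, ← mulVec_add]
  exact congrArg _ (funext fun _ => map_add f _ _)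

theorem lv_sub_smul (u v : ι → F) (c : F) : T.lv (u - c • v) = T.lv u - f c • T.lv v := by
  rw [lv, lv, lv, ← mulVec_smul, ← mulVec_sub]
  exact congrArg _ (funext fun _ => by simp)

theorem QD_lv (v : ι → F) : QD k d (T.lv v) = f (Q0 v) := T.form v

theorem polar_lv (u v : ι → F) : polar (QD k d) (T.lv u) (T.lv v) = f (polar Q0 u v) := by
  rw [polar, polar, ← lv_add, QD_lv, QD_lv, QD_lv, map_sub, map_sub]

theorem ψ_lv (g : GL ι F) (v : ι → F) : (T.ψ g).val *ᵥ T.lv v = T.lv ((g : Matrix ι ι F) *ᵥ v) := by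
  rw [lv, lv, mulVec_mulVec, coe_ψ, Matrix.mul_assoc, T.h2, Matrix.mul_one, ← mulVec_mulVec]
  exact congrArg _ (funext fun i => (f.map_mulVec _ _ i).symm)

theorem ext_lv {A B : Matrix (Fin d × Bool) (Fin d × Bool) k} (h : ∀ v, A *ᵥ T.lv v = B *ᵥ T.lv v) : A = B := by
  have h1 : A * T.P = B * T.P := by
    ext a j
    have h2 := congrFun (h (Pi.single j 1)) a
    have h3 : f ∘ (Pi.single j 1 : ι → F) = Pi.single j 1 := funext fun i => by
      by_cases hi : i = j <;> simp [hi]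
    rwa [lv, h3, mulVec_mulVec, mulVec_mulVec, mulVec_single_one, mulVec_single_one] at h2
  rw [← Matrix.mul_one A, ← T.h1, ← Matrix.mul_assoc, h1, Matrix.mul_assoc, T.h1, Matrix.mul_one]

theorem lv_ne {v : ι → F} (hv : Q0 v ≠ 0) : QD k d (T.lv v) ≠ 0 := by
  rw [QD_lv]
  exact (map_ne_zero f).2 hv

theorem ψ_refl {v : ι → F} (hv : Q0 v ≠ 0) : T.ψ (reflGL Q0 v hv) = reflGL (QD k d) (T.lv v) (T.lv_ne hv) :=
  Units.ext (T.ext_lv fun w => by
    rw [ψ_lv, coe_reflGL, coe_reflGL, reflectionMatrix_mulVec, reflectionMatrix_mulVec, lv_sub_smul, QD_lv, polar_lv,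
      map_mul, map_inv₀])

theorem ψ_iso (hQ : (polarBilin Q0).Nondegenerate) (h : (∃ θ : F, θ ≠ 0 ∧ θ ≠ 1) ∨ Fintype.card ι ≠ 4)
    (g : isometryGroup F Q0) : ∃ hg : T.ψ g ∈ isometryGroup k (QD k d), dsign (QD k d) ⟨_, hg⟩ = dsign Q0 g := by
  refine isometry_induction Q0 hQ h (fun g => ∃ hg : T.ψ g ∈ isometryGroup k (QD k d), dsign (QD k d) ⟨_, hg⟩ = dsign Q0 g)
    ?_ ?_ g
  · have h1 : T.ψ (1 : isometryGroup F Q0) = 1 := map_one _
    refine ⟨h1 ▸ one_mem _, ?_⟩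
    rw [dsign_one, ← dsign_one (QD k d)]
    exact congrArg _ (Subtype.ext h1)
  · rintro v hv g ⟨hg, h1⟩
    have h2 : T.ψ (reflIso Q0 v hv * g : isometryGroup F Q0) =
        (reflIso (QD k d) (T.lv v) (T.lv_ne hv) * ⟨_, hg⟩ : isometryGroup k (QD k d)) :=
      (map_mul _ _ _).trans (congrArg (· * _) (T.ψ_refl hv))
    refine ⟨h2 ▸ Subtype.prop _, ?_⟩
    rw [dsign_refl_mul _ hQ, ← h1, ← dsign_refl_mul _ QD_nondeg _ _ (T.lv_ne hv)]
    exact congrArg _ (Subtype.ext h2)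

theorem fr1 : T.P.map (iterateFrobenius k 2 e) = (r⁻¹).val * T.P := by
  conv_rhs => rw [← T.fr, ← Matrix.mul_assoc, Units.inv_mul, Matrix.one_mul]

theorem fr2 : T.P'.map (iterateFrobenius k 2 e) = T.P' * r.val := by
  have h1 := congrArg (·.map (iterateFrobenius k 2 e)) T.h2
  simp only [Matrix.map_mul] at h1
  rw [Matrix.map_one _ (map_zero _) (map_one _), T.fr1] at h1
  have h2 := congrArg (· * (T.P' * r.val)) h1
  simp only [Matrix.mul_assoc] at h2
  rwa [← Matrix.mul_assoc T.P, T.h1, Matrix.one_mul, Units.inv_mul, Matrix.mul_one, Matrix.one_mul] at h2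

variable [Fintype F] (hF : Fintype.card F = 2 ^ e)
include hF

theorem ψ_fix (g : GL ι F) : r * frob 2 e (T.ψ g) * r⁻¹ = T.ψ g := by
  rw [mul_inv_eq_iff_eq_mul]
  refine Units.ext ?_
  have h1 : ((g : Matrix ι ι F).map f).map (iterateFrobenius k 2 e) = (g : Matrix ι ι F).map f := by
    ext i j
    show iterateFrobenius k 2 e (f _) = f _
    rw [iterateFrobenius_def, ← map_pow, ← hF, FiniteField.pow_card]
  show r.val * (T.P * (g : Matrix ι ι F).map f * T.P').map (iterateFrobenius k 2 e) =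
    T.P * (g : Matrix ι ι F).map f * T.P' * r.val
  rw [Matrix.map_mul, Matrix.map_mul, h1, T.fr2]
  simp only [← Matrix.mul_assoc]
  rw [T.fr]

theorem exists_map {y : GL (Fin d × Bool) k} (hy : r * frob 2 e y * r⁻¹ = y) :
    ∃ A : Matrix ι ι F, A.map f = T.P' * y.val * T.P := by
  have h1 : (T.P' * y.val * T.P).map (iterateFrobenius k 2 e) = T.P' * y.val * T.P := by
    have h2 : r.val * y.val.map (iterateFrobenius k 2 e) * (r⁻¹).val = y :=
      congrArg Units.val hy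
    rw [Matrix.map_mul, Matrix.map_mul, T.fr1, T.fr2]
    conv_rhs => rw [← h2]
    simp only [Matrix.mul_assoc]
  have h2 : ∀ i j, ∃ t, f t = (T.P' * y.val * T.P) i j := fun i j =>
    H390.PslSpec.mem_range_of_pow_card f (by rw [hF, ← iterateFrobenius_def]; exact congrFun (congrFun h1 i) j)
  choose A hA using h2
  exact ⟨Matrix.of A, Matrix.ext hA⟩

theorem exists_ψ {y : GL (Fin d × Bool) k} (hy : r * frob 2 e y * r⁻¹ = y) : ∃ g, T.ψ g = y := by
  obtain ⟨A, hA⟩ := T.exists_map hF hy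
  obtain ⟨B, hB⟩ := T.exists_map hF (y := y⁻¹) (by
    rw [map_inv]
    exact Eq.trans (by group) (congrArg (·⁻¹) hy))
  have h1 : ∀ {A B : Matrix ι ι F} {y : GL (Fin d × Bool) k}, A.map f = T.P' * y.val * T.P →
      B.map f = T.P' * (y⁻¹).val * T.P → A * B = 1 := fun {A B y} hA hB =>
    Matrix.map_injective f.injective (by
      simp only
      rw [Matrix.map_mul, hA, hB, Matrix.map_one _ (map_zero f) (map_one f)]
      simp only [Matrix.mul_assoc]
      rw [← Matrix.mul_assoc T.P, T.h1, Matrix.one_mul, ← Matrix.mul_assoc y.val, Units.mul_inv,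
        Matrix.one_mul, T.h2])
  refine ⟨⟨A, B, h1 hA hB, h1 hB hA⟩, Units.ext ?_⟩
  rw [coe_ψ, hA]
  simp only [← Matrix.mul_assoc]
  rw [T.h1, Matrix.one_mul, Matrix.mul_assoc, T.h1, Matrix.mul_one]

end Tw

/-- the coordinates for the split form -/
def LP (k : Type) [Field k] (d : ℕ) : (Fin d ⊕ Fin d → k) ≃ₗ[k] (Fin d × Bool → k) :=
  LinearEquiv.funCongrLeft k k ((Equiv.prodComm _ _).trans (Equiv.boolProdEquivSum _))

/-- the split form -/
noncomputable def twP (f : F →+* k) (d e : ℕ) : Tw (d := d) f (plusForm d F) e 1 where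
  P := LinearMap.toMatrix' (LP k d).toLinearMap
  P' := LinearMap.toMatrix' (LP k d).symm.toLinearMap
  h1 := by rw [← LinearMap.toMatrix'_comp, LinearEquiv.comp_symm, LinearMap.toMatrix'_id]
  h2 := by rw [← LinearMap.toMatrix'_comp, LinearEquiv.symm_comp, LinearMap.toMatrix'_id]
  form v := by
    rw [LinearMap.toMatrix'_mulVec, QD_apply, coe_plusForm, quadFormPlus_apply, map_sum]
    exact Finset.sum_congr rfl fun i _ => (mul_comm _ _).trans (map_mul f _ _).symm
  fr := by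
    rw [Units.val_one, Matrix.one_mul]
    ext b j
    rw [map_apply, LinearMap.toMatrix'_apply]
    show iterateFrobenius k 2 e ((Pi.single j 1 : Fin d ⊕ Fin d → k) _) = (Pi.single j 1 : Fin d ⊕ Fin d → k) _
    rw [Pi.single_apply, apply_ite (iterateFrobenius k 2 e), map_one, map_zero]

/-- the coordinates for the non-split form -/
def LM (n : ℕ) (l l' : k) (h : l ≠ l') : ((Fin n ⊕ Fin n) ⊕ Fin 2 → k) ≃ₗ[k] (Fin (n + 1) × Bool → k) where
  toFun w b := Fin.lastCases (w (.inr 0) + (if b.2 then l else l') * w (.inr 1))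
    (fun i => w (.inl (if b.2 then .inl i else .inr i))) b.1
  map_add' v w := by
    funext ⟨i, s⟩
    induction i using Fin.lastCases with
    | last => simp only [Fin.lastCases_last, Pi.add_apply]; ring
    | cast i => simp only [Fin.lastCases_castSucc, Pi.add_apply]
  map_smul' c v := by
    funext ⟨i, s⟩
    induction i using Fin.lastCases with
    | last => simp only [Fin.lastCases_last, Pi.smul_apply, smul_eq_mul, RingHom.id_apply]; ring
    | cast i => simp only [Fin.lastCases_castSucc, Pi.smul_apply, RingHom.id_apply]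
  invFun v := Sum.elim (Sum.elim (fun i => v (i.castSucc, true)) fun i => v (i.castSucc, false))
    ![(l * v (Fin.last n, false) - l' * v (Fin.last n, true)) / (l - l'),
      (v (Fin.last n, true) - v (Fin.last n, false)) / (l - l')]
  left_inv w := by
    have := sub_ne_zero.2 h
    funext j
    rcases j with (j | j) | j
    · simp
    · simp
    · (revert j; simp only [_root_.Fin.forall_fin_succ, Fin.isValue, ↓reduceIte, _root_.Fin.lastCases_castSucc, _root_.Bool.false_eq_true, _root_.Fin.lastCases_last, _root_.add_sub_add_left_eq_sub, _root_.Sum.elim_inr, _root_.Matrix.cons_val_zero, _root_.Matrix.cons_val_succ, _root_.Matrix.cons_val_fin_one, _root_.Fin.succ_zero_eq_one, _root_.IsEmpty.forall_iff, _root_.and_true]) <;> (repeat' with_reducible apply And.intro) <;> field_simp <;> ring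
  right_inv v := by
    have := sub_ne_zero.2 h
    funext ⟨i, s⟩
    induction i using Fin.lastCases with
    | last => cases s <;> (simp only [_root_.Fin.isValue, _root_.Sum.elim_inr, _root_.Matrix.cons_val_zero, _root_.Bool.false_eq_true, ↓ _root_.reduceIte, _root_.Matrix.cons_val_one, _root_.Matrix.cons_val_fin_one, _root_.Sum.elim_inl, _root_.Fin.lastCases_last]; field_simp; ring)
    | cast i => cases s <;> simp

theorem LM_last {n : ℕ} {l l' : k} (h : l ≠ l') (w : (Fin n ⊕ Fin n) ⊕ Fin 2 → k) (s : Bool) :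
    LM n l l' h w (Fin.last n, s) = w (.inr 0) + (if s then l else l') * w (.inr 1) := by simp [LM]

theorem LM_cast {n : ℕ} {l l' : k} (h : l ≠ l') (w : (Fin n ⊕ Fin n) ⊕ Fin 2 → k) (i : Fin n) (s : Bool) :
    LM n l l' h w (i.castSucc, s) = w (.inl (if s then .inl i else .inr i)) := by simp [LM]

/-- the non-split form -/
noncomputable def twM (f : F →+* k) (n e : ℕ) {a b : F} {l l' : k} (h : l ≠ l') (ha : l + l' = f a) (hb : l * l' = f b)
    (h1 : l ^ 2 ^ e = l') (h2 : l' ^ 2 ^ e = l) :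
    Tw (d := n + 1) f (minusForm n F a b) e (pm k (Equiv.swap (Fin.last n, true) (Fin.last n, false))) where
  P := LinearMap.toMatrix' (LM n l l' h).toLinearMap
  P' := LinearMap.toMatrix' (LM n l l' h).symm.toLinearMap
  h1 := by rw [← LinearMap.toMatrix'_comp, LinearEquiv.comp_symm, LinearMap.toMatrix'_id]
  h2 := by rw [← LinearMap.toMatrix'_comp, LinearEquiv.symm_comp, LinearMap.toMatrix'_id]
  form v := by
    rw [LinearMap.toMatrix'_mulVec, QD_apply, coe_minusForm, quadFormMinus_apply, Fin.sum_univ_castSucc]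
    simp only [LinearEquiv.coe_coe, LM_last, LM_cast, map_add, map_sum, map_mul, map_pow, Function.comp_apply, if_true,
      Bool.false_eq_true, if_false, ← ha, ← hb]
    ring
  fr := by
    ext c j
    obtain ⟨c, rfl⟩ := (Equiv.swap ((Fin.last n, true) : Fin (n + 1) × Bool) (Fin.last n, false)).surjective c
    refine (pm_mulVec _ (fun c => (LinearMap.toMatrix' (LM n l l' h).toLinearMap).map (iterateFrobenius k 2 e) c j) c).trans ?_
    have h3 : ∀ i, iterateFrobenius k 2 e ((Pi.single j 1 : (Fin n ⊕ Fin n) ⊕ Fin 2 → k) i) =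
        (Pi.single j 1 : (Fin n ⊕ Fin n) ⊕ Fin 2 → k) i := fun i => by
      by_cases hi : i = j <;> simp [hi]
    obtain ⟨i, s⟩ := c
    rw [map_apply, LinearMap.toMatrix'_apply, LinearMap.toMatrix'_apply, LinearEquiv.coe_coe]
    induction i using Fin.lastCases with
    | last =>
      cases s
      · rw [Equiv.swap_apply_right, LM_last, LM_last, map_add, map_mul, h3, h3, iterateFrobenius_def]
        simp [h2]
      · rw [Equiv.swap_apply_left, LM_last, LM_last, map_add, map_mul, h3, h3, iterateFrobenius_def]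
        simp [h1]
    | cast i =>
      rw [Equiv.swap_apply_of_ne_of_ne (by simp [Fin.ext_iff]; omega) (by simp [Fin.ext_iff]; omega), LM_cast, h3]

theorem exists_roots [Fintype F] [IsAlgClosed k] (f : F →+* k) {e : ℕ} (hF : Fintype.card F = 2 ^ e) {a b : F}
    (hab : ∀ z₁ z₂ : F, z₁ ^ 2 + a * z₁ * z₂ + b * z₂ ^ 2 = 0 → z₁ = 0 ∧ z₂ = 0) :
    ∃ l l' : k, l ≠ l' ∧ l + l' = f a ∧ l * l' = f b ∧ l ^ 2 ^ e = l' ∧ l' ^ 2 ^ e = l := by
  obtain ⟨l, hl⟩ := IsAlgClosed.exists_root (Polynomial.X ^ 2 - Polynomial.C (f a) * Polynomial.X + Polynomial.C (f b))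
    (by
      have h : (Polynomial.X ^ 2 - Polynomial.C (f a) * Polynomial.X + Polynomial.C (f b)).degree = 2 := by compute_degree!
      rw [h]
      decide)
  have h1 : l ^ 2 - f a * l + f b = 0 := by simpa only [_root_.Polynomial.IsRoot.def, _root_.Polynomial.eval_add, _root_.Polynomial.eval_sub, _root_.Polynomial.eval_pow, _root_.Polynomial.eval_X, _root_.Polynomial.eval_mul, _root_.Polynomial.eval_C] using hl
  have h2 : ∀ t, iterateFrobenius k 2 e (f t) = f t := fun t => by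
    rw [iterateFrobenius_def, ← map_pow, ← hF, FiniteField.pow_card]
  have h3 : iterateFrobenius k 2 e l ≠ l := fun h => by
    obtain ⟨t, rfl⟩ := H390.PslSpec.mem_range_of_pow_card f (x := l) (by rw [hF, ← iterateFrobenius_def, h])
    refine one_ne_zero (hab (-t) 1 (f.injective ?_)).2
    simp only [map_add, map_mul, map_pow, map_neg, map_one, map_zero]
    linear_combination h1
  have h4 := congrArg (iterateFrobenius k 2 e) h1
  rw [map_add, map_sub, map_mul, map_pow, h2, h2, map_zero] at h4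
  have h5 : iterateFrobenius k 2 e l = f a - l :=
    mul_left_cancel₀ (sub_ne_zero.2 h3) (by linear_combination h4 - h1)
  refine ⟨l, f a - l, h5 ▸ h3.symm, by ring, by linear_combination -h1, by rw [← h5, iterateFrobenius_def], ?_⟩
  rw [← iterateFrobenius_def, map_sub, h2, h5, sub_sub_cancel]

namespace IsD

variable {n : ℕ} {m : Mn (TypeD.A n) (Fin (n + 2)) (Fin (n + 2) × Bool)} (H : IsD m)
  {W : Type} [Group W] [Finite W] {cs : CoxeterSystem (TypeD.M n) W} [IsAlgClosed k] {l : Fin (n + 2)}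
  {g : (Fin (n + 2) → ℤ) → Fin (n + 2) → ℤ} {B : Matrix (Fin (n + 2)) (Fin (n + 2)) ℤ}
  (S : m.Sy cs (TypeD.isCartan n) (MulAut.conj (pm k (Equiv.swap (l, true) (l, false)))) g B)
  [Fintype F] {e : ℕ} (hF : Fintype.card F = 2 ^ e)

include H S hF

/-- `Ω(Q0) = G^F` -/
theorem emb [Nonempty ι] {f : F →+* k} {Q0 : QuadraticForm F (ι → F)} {r : GL (Fin (n + 2) × Bool) k} (T : Tw f Q0 e r)
    (hQ : Nondeg Q0) (h4 : Fintype.card ι ≠ 4) {α : MulAut (GL (Fin (n + 2) × Bool) k)} (hα : ∀ y, α y = r * y * r⁻¹) :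
    Emb (α * frA _ k e) (m.G k cs (TypeD.isCartan n)) (m.τ k).range
      (T.ψ.comp ((isometryGroup F Q0).subtype.comp (Omega F Q0).subtype)) 1 := by
  have h2 : (2 : F) = 0 := f.injective (by rw [map_ofNat, map_zero]; exact CharTwo.two_eq_zero)
  refine Emb.of_surj (T.ψ_inj.comp (Subtype.val_injective.comp Subtype.val_injective)) (fun s => ⟨?_, ?_⟩) ?_
  · obtain ⟨h5, h6⟩ := T.ψ_iso (nondeg_of hQ) (Or.inr h4) s.1
    exact (H.mem_G S ⟨_, h5⟩).2 (h6.trans ((mem_comm_iff h2 (nondeg_of hQ) (Or.inr h4) _).1 s.2))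
  · exact (hα _).trans (T.ψ_fix hF _)
  · rintro y ⟨h5, h6⟩
    obtain ⟨z, rfl⟩ := T.exists_ψ hF (y := y) ((hα _).symm.trans h6)
    have h7 : z ∈ isometryGroup F Q0 := (mem_isometryGroup_iff _ _).2 fun v => f.injective (by
      rw [← T.QD_lv, ← T.QD_lv, ← T.ψ_lv]
      exact (mem_isometryGroup_iff _ _).1 (H.G_le_iso h5) _)
    obtain ⟨h8, h9⟩ := T.ψ_iso (nondeg_of hQ) (Or.inr h4) ⟨z, h7⟩
    exact ⟨⟨⟨z, h7⟩, (mem_comm_iff h2 (nondeg_of hQ) (Or.inr h4) _).2 (h9.symm.trans (H.dsign_G h5))⟩, rfl⟩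

/-- **`Ω⁺ = G^F`** -/
theorem embP (f : F →+* k) (hn : 1 ≤ n) : ∃ ι : Omega F (quadFormPlus (n + 2) F) →* GL (Fin (n + 2) × Bool) k,
    Emb (1 * frA _ k e) (m.G k cs (TypeD.isCartan n)) (m.τ k).range ι 1 := by
  rw [← coe_plusForm]
  exact ⟨_, H.emb S hF (twP f (n + 2) e) (nondeg_plusForm _ _) (by simp; omega) fun y => by simp⟩

omit S in
/-- **`Ω⁻ = G^F`** -/
theorem embM (S : m.Sy cs (TypeD.isCartan n)
      (MulAut.conj (pm k (Equiv.swap (Fin.last (n + 1), true) (Fin.last (n + 1), false)))) g B) (f : F →+* k) (hn : 1 ≤ n)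
    {a b : F}
    (hab : ∀ z₁ z₂ : F, z₁ ^ 2 + a * z₁ * z₂ + b * z₂ ^ 2 = 0 → z₁ = 0 ∧ z₂ = 0) :
    ∃ ι : Omega F (quadFormMinus (n + 1) F a b) →* GL (Fin (n + 2) × Bool) k,
      Emb (MulAut.conj (pm k (Equiv.swap (Fin.last (n + 1), true) (Fin.last (n + 1), false))) * frA _ k e)
        (m.G k cs (TypeD.isCartan n)) (m.τ k).range ι 1 := by
  obtain ⟨l, l', h1, h2, h3, h4, h5⟩ := exists_roots f hF hab
  rw [← coe_minusForm]
  exact ⟨_, H.emb S hF (twM f (n + 1) e h1 h2 h3 h4 h5) (nondeg_minusForm _ _ _ _ hab) (by simp; omega) fun y => rfl⟩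

end IsD

end Cfsg.Agent.ODD.C2.Om
end

-- part: ODD/C2/OmFin
section
/-!
# `OddRat` for `PΩ^±_{2m}(q)`, `q` even (helper1)

**`embP`**, **`embM`** (`Ω^± = G^F` exactly), **`oddRat_plus`**, **`oddRat_minus`**.
-/

set_option autoImplicit false
set_option linter.unusedSectionVars false

namespace Cfsg.Agent.ODD.C2

open Cfsg.Agent.Nodes Cfsg.Agent.DL

theorem isD (n : ℕ) : Om.IsD (mnD n) := ⟨mnD_μ, mnD_wt⟩

section Emb

variable {n : ℕ} {W : Type} [Group W] [Finite W] (cs : CoxeterSystem (TypeD.M n) W) {k : Type} [Field k] [CharP k 2]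
  [IsAlgClosed k] {F : Type} [Field F] [Fintype F] (f : F →+* k) {e : ℕ}

include f

theorem embP (hF : Fintype.card F = 2 ^ e) (hn : 1 ≤ n) :
    ∃ ι : Omega F (quadFormPlus (n + 2) F) →* GL (Fin (n + 2) × Bool) k,
      Emb (1 * frA _ k e) ((mnD n).G k cs (TypeD.isCartan n)) ((mnD n).τ k).range ι 1 :=
  (isD n).embP syD hF f hn

theorem embM (hF : Fintype.card F = 2 ^ e) (hn : 1 ≤ n) {a b : F}
    (hab : ∀ z₁ z₂ : F, z₁ ^ 2 + a * z₁ * z₂ + b * z₂ ^ 2 = 0 → z₁ = 0 ∧ z₂ = 0) :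
    ∃ ι : Omega F (quadFormMinus (n + 1) F a b) →* GL (Fin (n + 2) × Bool) k,
      Emb (MulAut.conj (pm k (swD n)) * frA _ k e) ((mnD n).G k cs (TypeD.isCartan n)) ((mnD n).τ k).range ι 1 :=
  (isD n).embM hF syD f hn hab

end Emb

variable (F : Type) [Field F] [Fintype F] [CharP F 2]

theorem oddRat_omP (n : ℕ) (hn : 1 ≤ n) : OddRat (Omega F (quadFormPlus (n + 2) F)) := by
  obtain ⟨e, -, hF⟩ := FiniteField.card F 2
  obtain ⟨-, _, hk⟩ := Tw.setup' Nat.prime_two e.ne_zero hF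
  have := finD n
  obtain ⟨ι, E⟩ := embP (csD n) (algebraMap F (AlgebraicClosure F)) hF hn
  exact (goodP (Ex.lf_of_locFin hk) e.2).oddRat_emb E odd_one

theorem oddRat_omM (n : ℕ) (hn : 1 ≤ n) {a b : F}
    (hab : ∀ z₁ z₂ : F, z₁ ^ 2 + a * z₁ * z₂ + b * z₂ ^ 2 = 0 → z₁ = 0 ∧ z₂ = 0) :
    OddRat (Omega F (quadFormMinus (n + 1) F a b)) := by
  obtain ⟨e, -, hF⟩ := FiniteField.card F 2
  obtain ⟨-, _, hk⟩ := Tw.setup' Nat.prime_two e.ne_zero hF
  have := finD n
  obtain ⟨ι, E⟩ := embM (csD n) (algebraMap F (AlgebraicClosure F)) hF hn hab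
  exact (goodM (Ex.lf_of_locFin hk) e.2).oddRat_emb E odd_one

/-- **`PΩ⁺_{2m}(q)`, `q` even** -/
theorem oddRat_plus (m : ℕ) (hm : 4 ≤ m) : OddRat (POmega F (quadFormPlus m F)) := by
  obtain ⟨n, rfl⟩ : ∃ n, m = n + 2 := ⟨m - 2, by omega⟩
  exact Cv.oddRat_of_surj (QuotientGroup.mk' _) (QuotientGroup.mk'_surjective _) (oddRat_omP F n (by omega))

/-- **`PΩ⁻_{2m}(q)`, `q` even** -/
theorem oddRat_minus (m : ℕ) (a b : F) (hm : 4 ≤ m)
    (hab : ∀ z₁ z₂ : F, z₁ ^ 2 + a * z₁ * z₂ + b * z₂ ^ 2 = 0 → z₁ = 0 ∧ z₂ = 0) :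
    OddRat (POmega F (quadFormMinus (m - 1) F a b)) := by
  obtain ⟨n, rfl⟩ : ∃ n, m = n + 2 := ⟨m - 2, by omega⟩
  exact Cv.oddRat_of_surj (QuotientGroup.mk' _) (QuotientGroup.mk'_surjective _) (oddRat_omM F n (by omega) hab)

end Cfsg.Agent.ODD.C2
end

private theorem dce_a20143ce199c : _root_.True := by
  try have : _root_.True := by simp only [_root_.Cfsg.Agent.ODD.C2.Om.Tw.lv.eq_1]
  try have : _root_.True := by simp only [_root_.Cfsg.Agent.ODD.C2.Om.ac.eq_1]
  try have : _root_.True := by simp only [_root_.Cfsg.Agent.ODD.C2.Om.LM.congr_simp]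
  try have : _root_.True := by simp only [_root_.Cfsg.Agent.ODD.C2.Om.QD.eq_1]
  try have : _root_.True := by simp only [_root_.Cfsg.Agent.ODD.C2.Om.v0.eq_1]
  try have : _root_.True := by simp only [_root_.Cfsg.Agent.ODD.C2.Om.LM.eq_1]
  exact _root_.True.intro
end

-- part: ODD/C2/E6c
section
prune_inst 0x4d140236508c0020000040580012002850f00042010230c008c0402040e80854a2d80076104a013021a0a20c900350028110000e002000000000004000001000000eac00262810008e6000e000084410000000000000000000000000000000004004010000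
set_option linter.all false
open scoped Cfsg.Agent.FastGrp

namespace Cfsg.Agent.H90F

private noncomputable def frc {α : Type} (x : ℕ) (f : ℕ → α) : α := Nat.rec (f 0) (fun k _ => f (Nat.succ k)) x

private theorem frc_eq {α : Type} (x : ℕ) (f : ℕ → α) : frc x f = f x := by cases x <;> rfl

private noncomputable def nth {α : Type} (d : α) (l : List α) : ℕ → α :=
  List.rec (fun _ => d) (fun a _ ih n => Nat.rec a (fun k _ => ih k) n) l

private theorem nth_eq {α : Type} (d : α) (l : List α) (n : ℕ) : nth d l n = l.getD n d := by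
  induction l generalizing n with
  | nil => rfl
  | cons a l ih => cases n with
    | zero => rfl
    | succ k => exact ih k

private theorem nth_arr {α : Type} (d : α) (a : Array α) (n : ℕ) : a.getD n d = nth d a.toList n := by
  rw [nth_eq, List.getD_eq_getElem?_getD, Array.getD_eq_getD_getElem?, Array.getElem?_toList]

private noncomputable def row (D : Cfsg.Lie.ChevalleyDatum) (r : ℕ) : List (ℕ × Array (ℕ × ℤ)) := (nth #[] D.chain.toList r).toList

private noncomputable def fnd (s : ℕ) (l : List (ℕ × Array (ℕ × ℤ))) : List (ℕ × ℤ) :=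
  List.rec [] (fun e _ ih => Bool.rec ih e.2.toList (Nat.beq e.1 s)) l

private theorem ce_eq0 (D : Cfsg.Lie.ChevalleyDatum) (r s : ℕ) : D.chainEntry r s = fnd s (row D r) := by
  unfold Cfsg.Lie.ChevalleyDatum.chainEntry row
  rw [nth_arr]
  generalize (nth #[] D.chain.toList r).toList = l
  induction l with
  | nil => rfl
  | cons e l ih =>
    show _ = (Bool.rec (fnd s l) e.2.toList (Nat.beq e.1 s) : List (ℕ × ℤ))
    by_cases h : e.1 = s
    · rw [List.find?_cons_of_pos (by simpa using h), Nat.beq_eq.mpr h]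
    · rw [List.find?_cons_of_neg (by simpa using h), ih, Bool.eq_false_iff.2 fun h1 => h (Nat.eq_of_beq_eq_true h1)]

private noncomputable def fce (D : Cfsg.Lie.ChevalleyDatum) (r s : ℕ) : List (ℕ × ℤ) := frc r fun r => frc s fun s => fnd s (row D r)

private theorem ce_eq (D : Cfsg.Lie.ChevalleyDatum) : D.chainEntry = fce D := by
  funext r s
  rw [fce, frc_eq, frc_eq, ce_eq0]

private noncomputable def fcr (D : Cfsg.Lie.ChevalleyDatum) (r s i : ℕ) : Option ℕ := ((fce D r s)[i - 1]?).map Prod.fst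

private theorem cr_eq (D : Cfsg.Lie.ChevalleyDatum) : D.chainRoot = fcr D := by
  funext r s i
  rw [fcr, ← ce_eq]; rfl

private noncomputable def fcm (D : Cfsg.Lie.ChevalleyDatum) (r s i : ℕ) : ℤ := (((fce D r s)[i - 1]?).map Prod.snd).getD 0

private theorem cm_eq (D : Cfsg.Lie.ChevalleyDatum) : D.chainM = fcm D := by
  funext r s i
  rw [fcm, ← ce_eq]; rfl

private noncomputable def gct (cr : ℕ → ℕ → ℕ → Option ℕ) (cm : ℕ → ℕ → ℕ → ℤ) (r s : ℕ) : List (ℕ × ℤ × ℕ × ℕ) :=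
  ([(cr r s 1, cm r s 1, 1, 1), (cr r s 2, cm r s 2, 2, 1), (cr s r 2, cm s r 2, 1, 2), (cr r s 3, cm r s 3, 3, 1),
      (cr s r 3, - cm s r 3, 1, 3),
      ((cr r s 3).bind fun k => cr k s 1, ((cr r s 1).map fun k => cm k r 2 / 3).getD 0, 3, 2),
      ((cr s r 3).bind fun k => cr k r 1, ((cr r s 1).map fun k => -2 * cm k s 2 / 3).getD 0, 2, 3)] :
    List (Option ℕ × ℤ × ℕ × ℕ)).filterMap fun c => c.1.map fun k => (k, c.2)

private theorem gct_eq (D : Cfsg.Lie.ChevalleyDatum) (r s : ℕ) : D.commTerms r s = gct (fcr D) (fcm D) r s := by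
  rw [← cr_eq, ← cm_eq]; rfl

private noncomputable def msk (l : List (ℕ × Array (ℕ × ℤ))) : ℕ := List.rec 0 (fun e _ ih => Nat.lor ih (Nat.shiftLeft 1 e.1)) l

private theorem fnd_nil {s : ℕ} {l : List (ℕ × Array (ℕ × ℤ))} (h : (msk l).testBit s = false) : fnd s l = [] := by
  induction l with
  | nil => rfl
  | cons e l ih =>
    have h1 : (msk l ||| 1 <<< e.1).testBit s = false := h
    rw [Nat.testBit_or, Bool.or_eq_false_iff, Nat.one_shiftLeft, Nat.testBit_two_pow] at h1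
    show (Bool.rec (fnd s l) e.2.toList (Nat.beq e.1 s) : List (ℕ × ℤ)) = []
    rw [Bool.eq_false_iff.2 fun h2 => of_decide_eq_false h1.2 (Nat.eq_of_beq_eq_true h2)]
    exact ih h1.1

private noncomputable def fc2 (D : Cfsg.Lie.ChevalleyDatum) (r s : ℕ) : List (ℕ × ℤ) → List (ℕ × ℤ) → List (ℕ × ℤ × ℕ × ℕ)
  | [x], [_] => [(x.1, x.2, 1, 1)]
  | _, _ => gct (fcr D) (fcm D) r s

private noncomputable def fct (D : Cfsg.Lie.ChevalleyDatum) (r s : ℕ) : List (ℕ × ℤ × ℕ × ℕ) :=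
  frc r fun r => frc s fun s =>
    Bool.rec (fc2 D r s (fnd s (row D r)) (fnd r (row D s))) []
      (Nat.beq (Nat.land (Nat.lor (Nat.shiftRight (msk (row D r)) s) (Nat.shiftRight (msk (row D s)) r)) 1) 0)

private theorem ct_eq (D : Cfsg.Lie.ChevalleyDatum) : D.commTerms = fct D := by
  funext r s
  rw [fct, frc_eq, frc_eq]
  cases h : Nat.beq (Nat.land (Nat.lor (Nat.shiftRight (msk (row D r)) s) (Nat.shiftRight (msk (row D s)) r)) 1) 0
  · show _ = fc2 D r s _ _
    rw [← ce_eq0, ← ce_eq0]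
    unfold fc2
    split
    · rename_i h1 h2
      unfold Cfsg.Lie.ChevalleyDatum.commTerms Cfsg.Lie.ChevalleyDatum.chainRoot Cfsg.Lie.ChevalleyDatum.chainM
      rw [h1, h2]; rfl
    · exact gct_eq D r s
  · have h1 : ((msk (row D r) >>> s ||| msk (row D s) >>> r)).testBit 0 = false := by
      have h2 : (msk (row D r) >>> s ||| msk (row D s) >>> r) &&& 1 = 0 := Nat.eq_of_beq_eq_true h
      rw [Nat.and_one_is_mod] at h2
      rw [Nat.testBit_zero, h2]; rfl
    rw [Nat.testBit_or, Bool.or_eq_false_iff, Nat.testBit_shiftRight, Nat.testBit_shiftRight, Nat.add_zero, Nat.add_zero] at h1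
    show _ = []
    unfold Cfsg.Lie.ChevalleyDatum.commTerms Cfsg.Lie.ChevalleyDatum.chainRoot Cfsg.Lie.ChevalleyDatum.chainM
    rw [ce_eq0 D r s, ce_eq0 D s r, fnd_nil h1.1, fnd_nil h1.2]; rfl

private theorem ct_fun : Cfsg.Lie.ChevalleyDatum.commTerms = fct := funext ct_eq

private noncomputable def fng (D : Cfsg.Lie.ChevalleyDatum) (r : ℕ) : ℕ := frc r (nth 0 D.negIdx.toList)

private theorem ng_eq (D : Cfsg.Lie.ChevalleyDatum) : D.neg = fng D := by
  funext r
  rw [fng, frc_eq]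
  exact nth_arr _ _ _

private theorem ng_fun : Cfsg.Lie.ChevalleyDatum.neg = fng := funext ng_eq

private noncomputable def fca (D : Cfsg.Lie.ChevalleyDatum) (i s : ℕ) : ℤ :=
  frc i fun i => frc s (nth 0 (nth #[] D.cartanSR.toList i).toList)

private theorem ca_eq (D : Cfsg.Lie.ChevalleyDatum) : D.cartan = fca D := by
  funext i s
  rw [fca, frc_eq, frc_eq, ← nth_arr, ← nth_arr]
  rfl

private theorem ca_fun : Cfsg.Lie.ChevalleyDatum.cartan = fca := funext ca_eq

private noncomputable def fld {α : Type} (l : List α) (n : ℕ) (d : α) : α := frc n (nth d l)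

private theorem ld_eq {α : Type} (l : List α) (n : ℕ) (d : α) : l.getD n d = fld l n d := by
  rw [fld, frc_eq, nth_eq]

private theorem ld_fun : @List.getD.{0} = @fld := by
  funext α a n d; exact ld_eq a n d

private noncomputable def dOf {P : Prop} (b : Bool) (h : b = true ↔ P) : Decidable P :=
  Bool.rec (motive := fun c => b = c → Decidable P) (fun e => isFalse fun hp => Bool.noConfusion (e.symm.trans (h.2 hp)))
    (fun e => isTrue (h.1 e)) b rfl

private noncomputable def flt (n : ℕ) (p : ∀ k, k < n → Bool) (m : ℕ) : Bool :=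
  Nat.rec true (fun k ih => Bool.rec false ih
    (Bool.rec (motive := fun b => Nat.ble (Nat.succ k) n = b → Bool) (fun _ => true)
      (fun h => p k (Nat.le_of_ble_eq_true h)) (Nat.ble (Nat.succ k) n) rfl)) m

private theorem flt_one (n : ℕ) (p : ∀ k, k < n → Bool) (k : ℕ) (b : Bool) (e : Nat.ble (Nat.succ k) n = b) :
    (Bool.rec (motive := fun b => Nat.ble (Nat.succ k) n = b → Bool) (fun _ => true)
      (fun h => p k (Nat.le_of_ble_eq_true h)) b e : Bool) = true ↔ ∀ h, p k h = true := by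
  cases b
  · exact ⟨fun _ h => absurd (Nat.ble_eq_true_of_le h) (by rw [e]; exact Bool.false_ne_true), fun _ => rfl⟩
  · exact ⟨fun h _ => h, fun h => h _⟩

private theorem flt_iff (n : ℕ) (p : ∀ k, k < n → Bool) (m : ℕ) :
    flt n p m = true ↔ ∀ k, k < m → ∀ h, p k h = true := by
  induction m with
  | zero => exact ⟨fun _ k h => absurd h (Nat.not_lt_zero k), fun _ => rfl⟩
  | succ m ih =>
    have e : ∀ a b : Bool, (Bool.rec false a b : Bool) = true ↔ b = true ∧ a = true := by decide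
    refine (e _ _).trans ((and_congr (flt_one n p m _ rfl) ih).trans ⟨fun h k hk => ?_, fun h => ⟨h m (Nat.lt_succ_self m), fun k hk => h k (Nat.lt_succ_of_lt hk)⟩⟩)
    rcases Nat.lt_succ_iff_lt_or_eq.1 hk with h1 | h1
    · exact h.2 k h1
    · exact h1 ▸ h.1

private noncomputable def fbl (n : ℕ) (P : ∀ k, k < n → Prop) [H : ∀ k h, Decidable (P k h)] : Decidable (∀ k h, P k h) :=
  dOf (flt n (fun k h => @decide _ (H k h)) n)
    ((flt_iff _ _ _).trans ⟨fun h k hk => of_decide_eq_true (h k hk hk), fun h k _ hk => decide_eq_true (h k hk)⟩)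

private theorem bl_fun : @Nat.decidableBallLT = @fbl := by
  funext n P H; exact Subsingleton.elim _ _

private noncomputable def fff {n : ℕ} (P : Fin n → Prop) [H : DecidablePred P] : Decidable (∀ i, P i) :=
  dOf (flt n (fun k h => @decide _ (H ⟨k, h⟩)) n)
    ((flt_iff _ _ _).trans ⟨fun h k => of_decide_eq_true (h k.1 k.2 k.2), fun h k _ hk => decide_eq_true (h ⟨k, hk⟩)⟩)

private theorem ff_fun : @Nat.decidableForallFin = @fff := by
  funext n P H; exact Subsingleton.elim _ _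

private noncomputable def fal {α : Type} (l : List α) (p : α → Bool) : Bool :=
  List.rec true (fun a _ ih => Bool.rec false ih (p a)) l

private theorem al_fun : @List.all.{0} = @fal := by
  funext α l p
  induction l with
  | nil => rfl
  | cons a l ih => rw [List.all_cons, ih]; show _ = (Bool.rec false (fal l p) (p a) : Bool); cases p a <;> rfl

private noncomputable def mal {α : Type} (m : Multiset α) (p : α → Bool) : Bool :=
  Quot.lift (fun l => fal l p) (fun _ _ h => by rw [← al_fun]; exact h.all_eq) m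

private theorem mal_iff {α : Type} (m : Multiset α) (p : α → Bool) : mal m p = true ↔ ∀ a ∈ m, p a = true := by
  induction m using Quot.inductionOn with
  | h l => show fal l p = true ↔ _; rw [← al_fun, List.all_eq_true]; rfl

private noncomputable def fpi {α : Type} {β : α → Type} [H : ∀ a, DecidableEq (β a)] [F : Fintype α] :
    DecidableEq (∀ a, β a) := fun f g =>
  dOf (mal F.elems.val fun a => @decide _ (H a (f a) (g a)))
    ((mal_iff _ _).trans ⟨fun h => funext fun a => of_decide_eq_true (h a (F.complete a)),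
      fun h a _ => decide_eq_true (congrFun h a)⟩)

private theorem pi_fun : @Fintype.decidablePiFintype.{0, 0} = @fpi := by
  funext α β H F f g; exact Subsingleton.elim _ _

private noncomputable def flb {α : Type} (e : α → α → Bool) (l : List α) : List α → Bool :=
  List.rec (motive := fun _ => List α → Bool) (fun m => List.rec true (fun _ _ _ => false) m)
    (fun a _ ih m => List.rec false (fun b m _ => Bool.rec false (ih m) (e a b)) m) l

private theorem fle_iff {α : Type} [H : DecidableEq α] (l m : List α) :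
    flb (fun a b => @decide _ (H a b)) l m = true ↔ l = m := by
  induction l generalizing m with
  | nil =>
    cases m with
    | nil => exact ⟨fun _ => rfl, fun _ => rfl⟩
    | cons b m => exact ⟨fun h => Bool.noConfusion h, fun h => nomatch h⟩
  | cons a l ih =>
    cases m with
    | nil => exact ⟨fun h => Bool.noConfusion h, fun h => nomatch h⟩
    | cons b m =>
      have e : ∀ a b : Bool, (Bool.rec false a b : Bool) = true ↔ b = true ∧ a = true := by decide
      exact (e _ _).trans ((and_congr decide_eq_true_iff (ih m)).trans List.cons_eq_cons.symm)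

private theorem le_fun : @instDecidableEqList.{0} =
    fun α H l m => dOf (flb (fun a b => @decide _ (H a b)) l m) (@fle_iff α H l m) := by
  funext α H l m; exact Subsingleton.elim _ _

private noncomputable def fsm {ι M : Type} [AddCommMonoid M] (s : Finset ι) (f : ι → M) : M :=
  Quot.lift (fun l : List ι => (List.rec 0 (fun a _ ih => f a + ih) l : M)) (fun l l' h => by
    have e : ∀ l : List ι, (List.rec 0 (fun a _ ih => f a + ih) l : M) = (l.map f).sum := fun l => by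
      induction l with
      | nil => rfl
      | cons a l ih => rw [List.map_cons, List.sum_cons, ← ih]
    rw [e, e]; exact (h.map f).sum_eq) s.1

private theorem sm_fun : @Finset.sum.{0, 0} = @fsm := by
  funext ι M _ s f
  rcases s with ⟨m, hm⟩
  induction m using Quot.inductionOn with
  | h l =>
    show (l.map f).sum = (List.rec 0 (fun a _ ih => f a + ih) l : M)
    clear hm
    induction l with
    | nil => rfl
    | cons a l ih => rw [List.map_cons, List.sum_cons, ih]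

private theorem bn_eq (a b : ℕ) : (a == b) = Nat.beq a b := by
  rw [Bool.eq_iff_iff, beq_iff_eq, Nat.beq_eq]

private theorem bn_fun : @BEq.beq ℕ instBEqOfDecidableEq = Nat.beq := by
  funext a b; exact bn_eq a b

private theorem dl_fun : Nat.decLt = fun a b => dOf (Nat.ble (Nat.succ a) b) Nat.ble_eq.to_iff := by
  funext a b; exact Subsingleton.elim _ _

private theorem dn_fun : instDecidableEqNat = fun a b => dOf (Nat.beq a b) Nat.beq_eq.to_iff := by
  funext a b; exact Subsingleton.elim _ _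

private noncomputable def ibq (a b : ℤ) : Bool :=
  Int.rec (fun m => Int.rec (fun n => Nat.beq m n) (fun _ => false) b) (fun m => Int.rec (fun _ => false) (fun n => Nat.beq m n) b) a

private theorem ibq_iff (a b : ℤ) : ibq a b = true ↔ a = b := by
  rcases a with m | m <;> rcases b with n | n
  · exact Nat.beq_eq.to_iff.trans ⟨fun h => h ▸ rfl, Int.ofNat.inj⟩
  · exact ⟨fun h => Bool.noConfusion h, fun h => nomatch h⟩
  · exact ⟨fun h => Bool.noConfusion h, fun h => nomatch h⟩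
  · exact Nat.beq_eq.to_iff.trans ⟨fun h => h ▸ rfl, Int.negSucc.inj⟩

private theorem dz_fun : Int.instDecidableEq = fun a b => dOf (ibq a b) (ibq_iff a b) := by
  funext a b; exact Subsingleton.elim _ _

private noncomputable def ile (a b : ℤ) : Bool :=
  Int.rec (fun m => Int.rec (fun n => Nat.ble m n) (fun _ => false) b) (fun m => Int.rec (fun _ => true) (fun n => Nat.ble n m) b) a

private theorem ile_iff (a b : ℤ) : ile a b = true ↔ a ≤ b := by
  rcases a with m | m <;> rcases b with n | n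
  · exact Nat.ble_eq.to_iff.trans Int.ofNat_le.symm
  · exact ⟨fun h => Bool.noConfusion h, fun h => absurd (Int.le_trans (Int.natCast_nonneg m) h) (Int.negSucc_not_nonneg n).mp⟩
  · exact ⟨fun _ => Int.le_of_lt (Int.lt_of_lt_of_le (Int.negSucc_lt_zero m) (Int.natCast_nonneg n)), fun _ => rfl⟩
  · refine Nat.ble_eq.to_iff.trans ?_
    rw [Int.negSucc_eq, Int.negSucc_eq]; omega

private theorem ie_fun : Int.decLe = fun a b => dOf (ile a b) (ile_iff a b) := by
  funext a b; exact Subsingleton.elim _ _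

private theorem fq_fun : instDecidableEqFin = fun _ a b => dOf (Nat.beq a.1 b.1) (Nat.beq_eq.to_iff.trans Fin.ext_iff.symm) := by
  funext n a b; exact Subsingleton.elim _ _

end Cfsg.Agent.H90F

-- part: ODD/C2/E6cMn
section
/-!
# The 27-dimensional weight system of `E₆` (helper22)

`mn6`, the graph symmetry `gm6 k`, `sy6`, `good6`, `goodT6`.
-/

set_option autoImplicit false
set_option maxHeartbeats 400000
set_option linter.unusedSectionVars false

namespace Cfsg.Agent.ODD.C2.E6c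

open CoxeterSystem Cfsg.Lie Cfsg.Agent.ChevalleyStructure.CoxeterGeom Cfsg.Agent.ChevalleyStructure.CoxeterGeomTypes
  Cfsg.Agent.Tits.Roots Cfsg.Agent.Nodes Cfsg.Agent.Nodes.RGDChev Matrix Cfsg.Agent.DL Cfsg.Agent.DL.PP
open Cfsg.Agent.H493.TwE6Alg (dua isRoot_dua dua_sr dua_apply)

/-- the weights -/
def muL : List (List ℤ) := [[0, 0, 0, 0, 0, 0, 1], [-1, 0, 0, 0, 0, 0, 1], [-1, 0, -1, 0, 0, 0, 1],
  [-1, 0, -1, -1, 0, 0, 1], [-1, -1, -1, -1, 0, 0, 1], [-1, 0, -1, -1, -1, 0, 1], [-1, -1, -1, -1, -1, 0, 1],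
  [-1, 0, -1, -1, -1, -1, 1], [-1, -1, -1, -2, -1, 0, 1], [-1, -1, -1, -1, -1, -1, 1], [-1, -1, -2, -2, -1, 0, 1],
  [-1, -1, -1, -2, -1, -1, 1], [-2, -1, -2, -2, -1, 0, 1], [-1, -1, -2, -2, -1, -1, 1], [-1, -1, -1, -2, -2, -1, 1],
  [-2, -1, -2, -2, -1, -1, 1], [-1, -1, -2, -2, -2, -1, 1], [-2, -1, -2, -2, -2, -1, 1], [-1, -1, -2, -3, -2, -1, 1],
  [-2, -1, -2, -3, -2, -1, 1], [-1, -2, -2, -3, -2, -1, 1], [-2, -2, -2, -3, -2, -1, 1], [-2, -1, -3, -3, -2, -1, 1],
  [-2, -2, -3, -3, -2, -1, 1], [-2, -2, -3, -4, -2, -1, 1], [-2, -2, -3, -4, -3, -1, 1], [-2, -2, -3, -4, -3, -2, 1]]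

/-- the weights -/
def mu6 (a : Fin 27) (j : Fin 7) : ℤ := (muL.getD a []).getD j 0

/-- the simple coroots -/
def cw6 : Fin 6 → Fin 7 → ℤ := ![![2, 0, -1, 0, 0, 0, 1], ![0, 2, 0, -1, 0, 0, 0], ![-1, 0, 2, -1, 0, 0, 0],
  ![0, -1, -1, 2, -1, 0, 0], ![0, 0, 0, -1, 2, -1, 0], ![0, 0, 0, 0, -1, 2, 0]]

/-- the simple reflections -/
def sgL : List (List (Fin 27)) :=
  [[1, 0, 2, 3, 4, 5, 6, 7, 8, 9, 12, 11, 10, 15, 14, 13, 17, 16, 19, 18, 21, 20, 22, 23, 24, 25, 26],
  [0, 1, 2, 4, 3, 6, 5, 9, 8, 7, 10, 11, 12, 13, 14, 15, 16, 17, 20, 21, 18, 19, 23, 22, 24, 25, 26],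
  [0, 2, 1, 3, 4, 5, 6, 7, 10, 9, 8, 13, 12, 11, 16, 15, 14, 17, 18, 22, 20, 23, 19, 21, 24, 25, 26],
  [0, 1, 3, 2, 4, 5, 8, 7, 6, 11, 10, 9, 12, 13, 14, 15, 18, 19, 16, 17, 20, 21, 22, 24, 23, 25, 26],
  [0, 1, 2, 5, 6, 3, 4, 7, 8, 9, 10, 14, 12, 16, 11, 17, 13, 15, 18, 19, 20, 21, 22, 23, 25, 24, 26],
  [0, 1, 2, 3, 4, 7, 9, 5, 11, 6, 13, 8, 15, 10, 14, 12, 16, 17, 18, 19, 20, 21, 22, 23, 24, 26, 25]]

/-- the simple reflections -/
def sg6 (i : Fin 6) (a : Fin 27) : Fin 27 := (sgL.getD i []).getD a 0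

/-- the root lattice in the character lattice -/
def wt6 : (Fin 6 → ℤ) →+ (Fin 7 → ℤ) where
  toFun a := ![a 0, a 1, a 2, a 3, a 4, a 5, 0]
  map_zero' := by funext j; fin_cases j <;> rfl
  map_add' a b := by funext j; fin_cases j <;> rfl

theorem wt6_apply (a : Fin 6 → ℤ) : wt6 a = ![a 0, a 1, a 2, a 3, a 4, a 5, 0] := rfl

theorem cw6_eq : ∀ i j : Fin 6, cartanOf chevE6 6 i j = cw6 i j.castSucc := by decide +kernel

theorem wt6_dot (a : Fin 6 → ℤ) (v : Fin 7 → ℤ) : wt6 a ⬝ᵥ v = ∑ j : Fin 6, v j.castSucc * a j := by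
  simp only [wt6_apply, dotProduct, Fin.sum_univ_succ, Fin.sum_univ_zero]
  simp only [_root_.Nat.succ_eq_add_one, _root_.Nat.reduceAdd, _root_.Fin.isValue, _root_.Matrix.cons_val_zero, _root_.Fin.succ_zero_eq_one, _root_.Matrix.cons_val_one, _root_.Fin.succ_one_eq_two, _root_.Matrix.cons_val, _root_.Fin.reduceSucc, _root_.MulZeroClass.zero_mul, _root_.add_zero, _root_.Fin.castSucc_zero, _root_.Fin.castSucc_one, _root_.Fin.reduceCastSucc]
  ring

/-- pairs of weights whose differences are the simple roots -/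
def spL : Fin 7 → Fin 27 × Fin 27 := ![(0, 1), (3, 4), (1, 2), (2, 3), (3, 5), (5, 7), (0, 0)]

theorem span6 : ∀ j : Fin 7, ∑ a, ((if a = (spL j).1 then 1 else 0) - if a = (spL j).2 ∧ j ≠ 6 then 1 else 0 : ℤ) • mu6 a =
    Pi.single j 1 := by decide +kernel

/-- **The weights of the 27-dimensional module.** -/
def mn6 : Mn (cartanOf chevE6 6) (Fin 7) (Fin 27) where
  wt := wt6
  cw := cw6
  pair i a := by
    rw [wt6_dot, pairing]
    exact Finset.sum_congr rfl fun j _ => by rw [cw6_eq]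
  μ := mu6
  inj := by
    have h : ∀ a b : Fin 27, mu6 a = mu6 b → a = b := by decide +kernel
    exact h
  σ := sg6
  hσ := by (delta dotProduct Cfsg.Agent.ODD.C2.E6c.mu6 Cfsg.Agent.ODD.C2.E6c.cw6 Cfsg.Agent.ODD.C2.E6c.sg6 Cfsg.Agent.ODD.C2.E6c.wt6; refine of_decide_eq_true ?_; rewrite [H90F.dz_fun, H90F.fq_fun, H90F.ld_fun, H90F.ff_fun, H90F.pi_fun, H90F.sm_fun]; decide +kernel)
  bd := by decide +kernel
  nt := by decide +kernel
  span j := ⟨_, span6 j⟩

/-- the Coxeter system -/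
noncomputable abbrev cs6 : CoxeterSystem CoxeterMatrix.E₆ CoxeterMatrix.E₆.Group := CoxeterMatrix.E₆.toCoxeterSystem

theorem hp6 : IsType chevE6 6 CoxeterMatrix.E₆ := RGDTwE6.hp

theorem hc6 : IsCartan CoxeterMatrix.E₆ (cartanOf chevE6 6) := hp6.isCartan

theorem finW6 : Finite CoxeterMatrix.E₆.Group := finite_W hp6 cs6

attribute [local instance] finW6

set_option backward.isDefEq.respectTransparency false in
theorem laced6 : ∀ i j, CoxeterMatrix.E₆ i j ≠ 4 ∧ CoxeterMatrix.E₆ i j ≠ 6 := by decide +kernel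

/-- the duality on the weights -/
def piL : List (Fin 27) :=
  [26, 25, 24, 23, 22, 21, 19, 20, 17, 18, 15, 16, 12, 13, 14, 10, 11, 8, 9, 6, 7, 5, 4, 3, 2, 1, 0]

theorem piL_piL : ∀ a : Fin 27, piL.getD (piL.getD a 0 : Fin 27) 0 = a := by decide +kernel

/-- the duality on the weights -/
def pi27 : Equiv.Perm (Fin 27) := ⟨fun a => piL.getD a 0, fun a => piL.getD a 0, piL_piL, piL_piL⟩

/-- the duality on the character lattice -/
def B6 : Matrix (Fin 7) (Fin 7) ℤ := !![0, 0, 0, 0, 0, 1, 0; 0, 1, 0, 0, 0, 0, 0; 0, 0, 0, 0, 1, 0, 0;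
  0, 0, 0, 1, 0, 0, 0; 0, 0, 1, 0, 0, 0, 0; 1, 0, 0, 0, 0, 0, 0; 2, 2, 3, 4, 3, 2, -1]

theorem B6_sq : B6 * B6 = 1 := by decide +kernel

theorem mu6_B6 : ∀ a, mu6 (pi27 a) ᵥ* B6 = -mu6 a := by decide +kernel

theorem wt6_B6 (a : Fin 6 → ℤ) : wt6 (dua a) ᵥ* B6 = wt6 a := by
  funext j
  rw [wt6_apply, wt6_apply, dua_apply]
  (revert j; simp only [B6, vecMul, dotProduct, Fin.sum_univ_succ, _root_.Fin.forall_fin_succ, _root_.Nat.succ_eq_add_one, Nat.reduceAdd, Fin.isValue, _root_.Matrix.cons_val_zero, _root_.Matrix.cons_val_one, _root_.Matrix.cons_val, Int.reduceNeg, _root_.Matrix.of_apply, _root_.Matrix.cons_val', _root_.Matrix.cons_val_fin_one, _root_.Matrix.cons_val_succ, _root_.Finset.univ_unique, _root_.Fin.default_eq_zero, _root_.MulZeroClass.zero_mul, _root_.Finset.sum_const_zero, _root_.add_zero, _root_.MulZeroClass.mul_zero, _root_.mul_one, _root_.zero_add, _root_.implies_true, _root_.and_self])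

variable (k : Type) [Field k] [CharP k 2]

/-- the graph automorphism -/
abbrev gm6 : MulAut (GL (Fin 27) k) := MulAut.conj (pm k pi27) * itA (Fin 27) k

theorem sy6 : mn6.Sy cs6 hc6 (gm6 k) dua B6 :=
  mn6.sy_pm_it (fun a b h => by
    have h1 := congrArg (· ᵥ* B6) h
    simpa [vecMul_vecMul, B6_sq] using h1) (isRoot_dua cs6) mu6_B6 wt6_B6

variable {k} [IsAlgClosed k] (hk : ∀ a : k, ∃ j, 0 < j ∧ a ^ 2 ^ j = a) {e : ℕ} (he : 0 < e)

theorem good_of {α : MulAut (GL (Fin 27) k)} {g : (Fin 6 → ℤ) → Fin 6 → ℤ} {B : Matrix (Fin 7) (Fin 7) ℤ}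
    (S : mn6.Sy cs6 hc6 α g B) (hα : IsOfFinOrder α) {π : Fin 6 → Fin 6} (hπ : ∀ i, g (sr i) = sr (π i)) :
    Good (mn6.datT hk he S hα) :=
  have h := mn6.datT_qs hk he S hα hπ
  ⟨h, ⟨0, fun i => wt6 (sr i), fun (b : Fin 6 → ℤ) (i : Fin 6) => by
    show wt6 b ⬝ᵥ wt6 (sr i) = (2 : ℕ) ^ 0 * b i
    rw [wt6_dot, wt6_apply]
    (revert i; simp only [sr, Fin.sum_univ_succ, _root_.Fin.forall_fin_succ, _root_.Nat.succ_eq_add_one, Nat.reduceAdd, Fin.isValue, _root_.Fin.castSucc_zero, _root_.Matrix.cons_val_zero, _root_.Fin.castSucc_succ, _root_.Matrix.cons_val_succ, _root_.Fin.succ_zero_eq_one, _root_.Fin.succ_one_eq_two, Fin.reduceSucc, _root_.Finset.univ_unique, _root_.Fin.default_eq_zero, _root_.Finset.sum_singleton, _root_.Nat.cast_ofNat, _root_.pow_zero, _root_.one_mul, _root_.Pi.single_eq_same, _root_.ne_eq, _root_.one_ne_zero, _root_.not_false_eq_true, _root_.Pi.single_eq_of_ne, _root_.MulZeroClass.zero_mul, Fin.reduceEq, _root_.add_zero,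 _root_.Fin.succ_ne_zero, _root_.Pi.single_eq_of_ne', _root_.zero_add, _root_.IsEmpty.forall_iff, _root_.and_self])⟩, hn_of_sl _ h laced6 (e := e) fun _ _ => rfl⟩

theorem good6 : Good (mn6.dat cs6 hc6 hk he) := good_of hk he _ _ (π := id) fun _ => rfl

theorem goodT6 : Good (mn6.datT hk he (sy6 k) (Mn.fin_pm_it _)) := good_of hk he _ _ dua_sr

end Cfsg.Agent.ODD.C2.E6c
end

-- part: ODD/C2/E6cCore
section
/-!
# ODD, characteristic two: triple covers inside `G^F` (helper22)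

`oddRat_cover` : the subgroup generated by the 2-elements of `G^F` is a perfect central extension of `S`.
-/

set_option autoImplicit false
set_option maxHeartbeats 400000

namespace Cfsg.Agent.ODD.C2.E6c

open Cfsg Cfsg.Agent.ODD Cfsg.Agent.DL Subgroup

theorem mem_of_odd_pow {Y : Type*} [Group Y] {K : Subgroup Y} {y : Y} {j m : ℕ} (hy : y ^ 2 ^ j = 1) (hm : Odd m)
    (h : y ^ m ∈ K) : y ∈ K := by
  have h1 : m.Coprime (orderOf y) :=
    Nat.Coprime.coprime_dvd_right (orderOf_dvd_of_pow_eq_one hy) (Nat.Coprime.pow_right j (Nat.coprime_two_right.2 hm))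
  obtain ⟨n, hn⟩ := exists_pow_eq_self_of_coprime h1
  rw [← hn]
  exact pow_mem h n

/-- the subgroup generated by the 2-elements -/
def O2 (H : Type*) [Group H] : Subgroup H := _root_.Subgroup.closure {y | ∃ j : ℕ, y ^ 2 ^ j = 1}

theorem O2_normal (H : Type*) [Group H] : (O2 H).Normal := by
  refine ⟨fun y hy g => ?_⟩
  have h1 : O2 H ≤ (O2 H).comap (MulAut.conj g).toMonoidHom := (closure_le _).2 fun z ⟨j, hj⟩ =>
    _root_.Subgroup.subset_closure ⟨j, by rw [← map_pow, hj, map_one]⟩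
  exact h1 hy

theorem O2_index (H : Type*) [Group H] [Finite H] : Odd (O2 H).index := by
  have := O2_normal H
  by_contra h1
  have h2 : 2 ∣ Nat.card (H ⧸ O2 H) := even_iff_two_dvd.1 (Nat.not_odd_iff_even.1 h1)
  have := Fact.mk Nat.prime_two
  obtain ⟨x, hx⟩ := exists_prime_orderOf_dvd_card' (G := H ⧸ O2 H) 2 h2
  obtain ⟨y, rfl⟩ := QuotientGroup.mk_surjective x
  obtain ⟨a, m, hm, h3⟩ := Nat.exists_eq_two_pow_mul_odd (orderOf_pos y).ne'
  have h4 : y ^ m ∈ O2 H := subset_closure ⟨a, by rw [← pow_mul, mul_comm, ← h3, pow_orderOf_eq_one]⟩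
  have h5 : (y : H ⧸ O2 H) ^ m = 1 := by rwa [← QuotientGroup.mk_pow, QuotientGroup.eq_one_iff]
  have h6 := orderOf_dvd_of_pow_eq_one h5
  rw [hx] at h6
  exact hm.not_two_dvd_nat h6

/-- products of elements with their images -/
theorem mul_map_mem {Y : Type*} [Group Y] (F : MulAut Y) {A : Set Y} {H : Subgroup Y}
    (hc : ∀ a ∈ A, ∀ b ∈ A, Commute a (F b)) (hm : ∀ a ∈ A, a * F a ∈ H) {u : Y} (hu : u ∈ _root_.Subgroup.closure A) :
    u * F u ∈ H := by
  have h1 : ∀ a ∈ _root_.Subgroup.closure A, ∀ b ∈ closure A, Commute a (F b) := by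
    intro a ha b hb
    induction ha, hb using closure_induction₂ with
    | mem a b ha hb => exact hc a ha b hb
    | one_left => exact Commute.one_left _
    | one_right => rw [map_one]; exact Commute.one_right _
    | mul_left _ _ _ _ _ _ h1 h2 => exact h1.mul_left h2
    | mul_right _ _ _ _ _ _ h1 h2 => rw [map_mul]; exact h1.mul_right h2
    | inv_left _ _ _ _ h => exact h.inv_left
    | inv_right _ _ _ _ h => rw [map_inv]; exact h.inv_right
  induction hu using closure_induction with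
  | mem a ha => exact hm a ha
  | one => simp
  | mul a b ha hb h2 h3 =>
    have h4 : a * b * F (a * b) = a * F a * (b * F b) := by
      rw [map_mul, mul_assoc, mul_assoc, ← mul_assoc b, (h1 b hb a ha).eq, mul_assoc]
    rw [h4]
    exact mul_mem h2 h3
  | inv a ha h2 =>
    have h4 : a⁻¹ * F a⁻¹ = (a * F a)⁻¹ := by rw [(h1 a ha a ha).eq, mul_inv_rev, map_inv]
    rw [h4]
    exact inv_mem h2

/-- the kernel of a homomorphism with nonabelian image -/
theorem ker_le {St Y E : Type*} [Group St] [Group Y] [Group E] [IsSimpleGroup E] (ψ : St →* Y) (θ : St →* E)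
    (hθ : Function.Surjective θ) (hc : θ.ker ≤ center St) {a b : St} (hab : ψ a * ψ b ≠ ψ b * ψ a) (s : St)
    (hs : ψ s = 1) : θ s = 1 := by
  rcases (Normal.map inferInstance θ hθ : (ψ.ker.map θ).Normal).eq_bot_or_eq_top with h | h
  · have h1 : θ s ∈ ψ.ker.map θ := ⟨s, hs, rfl⟩
    rwa [h, mem_bot] at h1
  · obtain ⟨c, h1, h2⟩ : θ a ∈ ψ.ker.map θ := h ▸ mem_top _
    have h3 : c⁻¹ * a ∈ center St := hc (by rw [MonoidHom.mem_ker, map_mul, map_inv, h2, inv_mul_cancel])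
    have h4 := congrArg ψ (mem_center_iff.1 h3 b)
    simp only [map_mul, map_inv, show ψ c = 1 from h1, inv_one, one_mul] at h4
    exact absurd h4.symm hab

/-- **The covers inside `G^F`.** -/
theorem oddRat_cover {Y E St S X : Type} [Group Y] [Group E] [Group St] [Group S] [Group X] {F : MulAut Y}
    {G : Subgroup Y} [Finite (GF F G)] (hO : OddRat (GF F G)) (ψ : St →* Y) (θ : St →* E) {F' : MulAut E}
    (ι : S →* E) (hι : Function.Injective ι) {d : ℕ} (hd : Odd d) (hpow : ∀ y, F' y = y → y ^ d ∈ ι.range)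
    (hker : ∀ s, ψ s = 1 → θ s = 1) (hcen : ∀ s, θ s = 1 → s ∈ center St)
    (hodd : ∀ s, θ s = 1 → ∃ m, Odd m ∧ ψ s ^ m = 1) (hG : ∀ y ∈ G, ∃ m, Odd m ∧ y ^ m ∈ ψ.range)
    (hF : ∀ s, ∃ s', ψ s' = F (ψ s) ∧ θ s' = F' (θ s))
    (hgen : ∀ H : Subgroup S, (∀ x s, ψ s ∈ G → F (ψ s) = ψ s → ψ s ^ 2 = 1 → θ s = ι x → x ∈ H) → H = ⊤)
    {ω : Y} (hω : orderOf ω = 3) (hωc : ∀ y, y * ω = ω * y)
    (hωm : ∀ H : Subgroup Y, (∀ y ∈ G, F y = y → y ^ 2 = 1 → y ∈ H) → ω ∈ H) {j : ℕ} (hM : Cv.MB S (3 * 2 ^ j))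
    [Finite X] (hX : IsQuasisimple X) (hZ : Odd (Nat.card (center X))) (e : X ⧸ center X ≃* S) : OddRat X := by
  have heq : ∀ s s', ψ s = ψ s' → θ s = θ s' := fun s s' h => by
    have h1 := hker (s⁻¹ * s') (by rw [map_mul, map_inv, h, inv_mul_cancel])
    rwa [map_mul, map_inv, inv_mul_eq_one] at h1
  have hex : ∀ y ∈ O2 (GF F G), ∃ s x, ψ s = y ∧ θ s = ι x := by
    intro y hy
    induction hy using closure_induction with
    | mem y hy =>
      obtain ⟨i, hi⟩ := hy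
      have h1 : (y : Y) ^ 2 ^ i = 1 := congrArg Subtype.val hi
      obtain ⟨m, hm, h2⟩ := hG y y.2.1
      obtain ⟨s, hs⟩ := mem_of_odd_pow h1 hm h2
      obtain ⟨s', h3, h4⟩ := hF s
      have h5 : F' (θ s) = θ s := by rw [← h4]; exact heq _ _ (by rw [h3, hs]; exact y.2.2)
      have h6 : θ s ^ 2 ^ i = 1 := by rw [← map_pow]; exact hker _ (by rw [map_pow, hs, h1])
      obtain ⟨x, hx⟩ := mem_of_odd_pow h6 hd (hpow _ h5)
      exact ⟨s, x, hs, hx.symm⟩
    | one => exact ⟨1, 1, map_one _, by rw [map_one, map_one]⟩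
    | mul y z _ _ h1 h2 =>
      obtain ⟨s, x, a1, a2⟩ := h1
      obtain ⟨s', x', b1, b2⟩ := h2
      exact ⟨s * s', x * x', by rw [map_mul, a1, b1]; rfl, by rw [map_mul, map_mul, a2, b2]⟩
    | inv y _ h1 =>
      obtain ⟨s, x, a1, a2⟩ := h1
      exact ⟨s⁻¹, x⁻¹, by rw [map_inv, a1]; rfl, by rw [map_inv, map_inv, a2]⟩
  choose st xs hst hxs using fun y : O2 (GF F G) => hex y y.2
  let σ : O2 (GF F G) →* S := MonoidHom.mk' xs fun a b => hι (by
    rw [map_mul, ← hxs, ← hxs, ← hxs, ← map_mul]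
    exact heq _ _ (by rw [map_mul, hst, hst, hst]; rfl))
  have hσ : ∀ (y : O2 (GF F G)) s, ψ s = y → θ s = ι (σ y) := fun y s h => by
    rw [show σ y = xs y from rfl, ← hxs]
    exact heq _ _ (by rw [h, hst])
  have hs : Function.Surjective σ := by
    rw [← MonoidHom.range_eq_top]
    refine hgen _ fun x s h1 h2 h3 h4 => ?_
    have h5 : (⟨ψ s, h1, h2⟩ : GF F G) ∈ O2 (GF F G) := subset_closure ⟨1, Subtype.ext (by rw [pow_one]; exact h3)⟩
    exact ⟨⟨_, h5⟩, hι (by rw [← hσ _ s rfl, h4])⟩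
  have hk : ∀ y ∈ σ.ker, θ (st y) = 1 := fun y hy => by rw [hσ y _ (hst y), show σ y = 1 from hy, map_one]
  have hc : σ.ker ≤ center _ := fun y hy => mem_center_iff.2 fun z => Subtype.ext (Subtype.ext (by
    have h1 := congrArg ψ (mem_center_iff.1 (hcen _ (hk y hy)) (st z))
    rwa [map_mul, map_mul, hst, hst] at h1))
  let π : X →* S := e.toMonoidHom.comp (QuotientGroup.mk' (center X))
  have hπ : Function.Surjective π := e.surjective.comp (QuotientGroup.mk'_surjective _)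
  have hπk : π.ker = center X := by
    ext x
    simp [π]
  have hXp : commutator X = ⊤ := hX.1.commutator_eq_top
  have hmap : ∀ {A : Type} [Group A] (f : A →* S), Function.Surjective f → (commutator A).map f = commutator S :=
    fun f hf => by rw [map_commutator_eq, MonoidHom.range_eq_top.2 hf, commutator_def]
  have hS : commutator S = ⊤ := by rw [← hmap π hπ, hXp, ← MonoidHom.range_eq_map, MonoidHom.range_eq_top.2 hπ]
  have hp : _root_.commutator (O2 (GF F G)) = ⊤ := by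
    rw [eq_top_iff]
    rintro ⟨y, hy⟩ -
    induction hy using closure_induction with
    | mem y hy =>
      obtain ⟨i, hi⟩ := id hy
      generalize hz : (⟨y, _root_.Subgroup.subset_closure hy⟩ : O2 (GF F G)) = z
      have h1 : z ^ 2 ^ i = 1 := by rw [← hz]; exact Subtype.ext hi
      obtain ⟨c, h2, h3⟩ : σ z ∈ (commutator (O2 (GF F G))).map σ := by rw [hmap σ hs, hS]; trivial
      obtain ⟨m, hm, h4⟩ := hodd _ (hk (c⁻¹ * z) (by rw [MonoidHom.mem_ker, map_mul, map_inv, h3, inv_mul_cancel]))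
      have h5 : (c⁻¹ * z) ^ m = 1 := Subtype.ext (Subtype.ext (by rw [hst] at h4; exact h4))
      refine mem_of_odd_pow h1 hm ?_
      have h6 : (z : _ ⧸ _root_.commutator (O2 (GF F G))) = (c⁻¹ * z : O2 (GF F G)) := by
        rw [QuotientGroup.mk_mul, (QuotientGroup.eq_one_iff _).2 (inv_mem h2), one_mul]
      rw [← QuotientGroup.eq_one_iff, QuotientGroup.mk_pow, h6, ← QuotientGroup.mk_pow, h5]
      rfl
    | one => exact one_mem _
    | mul y z hy hz h1 h2 => exact mul_mem (a := (⟨y, hy⟩ : O2 (GF F G))) (b := ⟨z, hz⟩) h1 h2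
    | inv y hy h1 => exact inv_mem (x := (⟨y, hy⟩ : O2 (GF F G))) h1
  obtain ⟨y, hy, h1⟩ := hωm ((O2 (GF F G)).map (GF F G).subtype) fun y h1 h2 h3 =>
    ⟨⟨y, h1, h2⟩, subset_closure ⟨1, Subtype.ext (by rw [pow_one]; exact h3)⟩, rfl⟩
  have h2 : (⟨y, hy⟩ : O2 (GF F G)) ∈ σ.ker := by
    have := hX.2
    have : IsSimpleGroup S := e.symm.isSimpleGroup
    have h3 : σ ⟨y, hy⟩ ∈ center S := mem_center_iff.2 fun x => by
      obtain ⟨z, rfl⟩ := hs x
      rw [← map_mul, ← map_mul]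
      exact congrArg σ (Subtype.ext (Subtype.ext (by
        have h4 := hωc (z : GF F G)
        rwa [← h1] at h4)))
    rcases (inferInstance : (center S).Normal).eq_bot_or_eq_top with h | h
    · rwa [h, mem_bot] at h3
    · rw [← commutator_eq_bot_iff_center_eq_top, hS] at h
      exact absurd h top_ne_bot
  have h3 : 3 ∣ Nat.card σ.ker := by
    rw [← hω, ← h1]
    have h4 := _root_.orderOf_dvd_natCard (⟨_, h2⟩ : σ.ker)
    rwa [← orderOf_coe, ← orderOf_coe, ← orderOf_coe] at h4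
  obtain ⟨φ, h4, -⟩ := Cv.exists_cover_odd ⟨hp, hs, hc, j, hM.mono (Nat.mul_dvd_mul_right h3 _)⟩ hXp π hπ hπk.le
    (hπk ▸ hZ)
  have := O2_normal (GF F G)
  exact Cv.oddRat_of_surj φ h4 (oddRat_normal _ (O2_index _) hO)

end Cfsg.Agent.ODD.C2.E6c
end

-- part: ODD/C2/E6cSt
section
/-!
# The 27-dimensional representation of the Steinberg group of type `E₆` in characteristic two (helper22)

`psi6 k : chevE6.SteinbergGroup k →* GL (Fin 27) k`; `Th k θ` : the map onto the Chevalley group.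
-/

set_option autoImplicit false
set_option maxHeartbeats 400000
set_option linter.unusedSectionVars false

namespace Cfsg.Agent.ODD.C2.E6c

open CoxeterSystem Cfsg.Lie Cfsg.Agent.ChevalleyStructure Cfsg.Agent.ChevalleyStructure.CoxeterGeom
  Cfsg.Agent.ChevalleyStructure.CoxeterGeomTypes Cfsg.Agent.Tits.Roots Cfsg.Agent.Nodes Cfsg.Agent.Nodes.RGDChev
  Cfsg.Agent.Nodes.Coroot Cfsg.Agent.DL Cfsg.Agent.KFacts.RgdChevCoord
open scoped commutatorElement

attribute [local instance] finW6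

section gen

variable {I : Type} [Fintype I] [DecidableEq I] {A : I → I → ℤ} {R N : Type} [Fintype R] [DecidableEq R] [Fintype N]
  [DecidableEq N] (m : Mn A R N) {K : Type} [Field K] [CharP K 2]
  {W : Type} [Group W] [Finite W] {M : CoxeterMatrix I} {cs : CoxeterSystem M W} {h : IsCartan M A}

/-- the coroot elements -/
noncomputable def hw (a : I → ℤ) (s : Kˣ) : GL N K :=
  m.x K a s * m.x K (-a) (s⁻¹ : Kˣ) * m.x K a s * (m.x K a 1 * m.x K (-a) 1 * m.x K a 1)

theorem x_sq {a : I → ℤ} (ha : IsRoot cs h a) (u : K) : m.x K a u * m.x K a u = 1 := by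
  rw [← m.x_add, CharTwo.add_self_eq_zero, m.x_zero ha]

variable (cs h) in
include cs h in
theorem hw_sr (i : I) (s : Kˣ) : hw m (sr i) s = m.τ K (coch (m.cw i) s) := by
  have h1 : ∀ s : Kˣ, m.x K (sr i) s * m.x K (-sr i) (s⁻¹ : Kˣ) * m.x K (sr i) s =
      m.τ K (coch (m.cw i) s) * m.n K h i := fun s => by
    rw [m.rk1 cs (h := h) i s, ← mul_assoc, ← mul_assoc, ← mul_assoc, x_sq m (isRoot_sr cs h i), one_mul, mul_assoc,
      x_sq m (isRoot_sr cs h i), mul_one]
  have h2 := h1 1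
  rw [inv_one, Units.val_one] at h2
  rw [hw, h1, h2, map_one, map_one, one_mul, mul_assoc, m.n_n, mul_one]

theorem exists_hw {a : I → ℤ} (ha : IsRoot cs h a) : ∃ φ : Kˣ →* (R → Kˣ), ∀ s, hw m a s = m.τ K (φ s) := by
  obtain ⟨w, i, rfl⟩ := ha
  induction w using cs.simple_induction_left with
  | one => exact ⟨coch (m.cw i), fun s => by rw [map_one, Module.End.one_apply, hw_sr m cs h]⟩
  | mul_simple_left w j ih =>
    obtain ⟨φ, hφ⟩ := ih
    have ha : IsRoot cs h (rep cs h w (sr i)) := ⟨w, i, rfl⟩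
    refine ⟨φ * ((coch (m.cw j)).comp ((chr (m.wt (sr j))).comp φ))⁻¹, fun s => ?_⟩
    refine Eq.trans ?_ (m.n_τ (h := h) j (φ s))
    rw [← hφ, hw, hw, rep_mul_apply, ← map_neg]
    simp only [← m.n_x j ha, ← m.n_x j ha.neg]
    group

theorem odd_tor (hk : ∀ a : K, ∃ j, 0 < j ∧ a ^ 2 ^ j = a) (c : R → Kˣ) : ∃ n, Odd n ∧ c ^ n = 1 := by
  choose j h1 h2 using fun i => hk (c i)
  refine ⟨∏ i, (2 ^ j i - 1), Finset.prod_induction _ Odd (fun _ _ => Odd.mul) odd_one
    fun i _ => Mn.odd_two_pow_sub_one (h1 i), funext fun i => ?_⟩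
  obtain ⟨b, hb⟩ := Finset.dvd_prod_of_mem (fun i => 2 ^ j i - 1) (Finset.mem_univ i)
  have h3 : c i ^ (2 ^ j i - 1) = 1 := by
    rw [← mul_left_inj (c i), ← pow_succ, Nat.sub_add_cancel Nat.one_le_two_pow, one_mul]
    exact Units.ext (h2 i)
  rw [Pi.pow_apply, hb, pow_mul, h3, one_pow, Pi.one_apply]

end gen

theorem pow_mem_of_norm {Y : Type*} [Group Y] {N : Subgroup Y} {g t : Y} (hg : g ∈ N)
    (ht : t ∈ Subgroup.normalizer (N : Set Y)) (n : ℕ) : (g * t) ^ n * (t ^ n)⁻¹ ∈ N := by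
  induction n with
  | zero => simp
  | succ n ih =>
    have h1 := mul_mem ih ((Subgroup.mem_normalizer_iff.1 (pow_mem ht n) g).1 hg)
    have h2 : (g * t) ^ (n + 1) * (t ^ (n + 1))⁻¹ = (g * t) ^ n * (t ^ n)⁻¹ * (t ^ n * g * (t ^ n)⁻¹) := by
      rw [pow_succ, pow_succ]; group
    rwa [h2]

/-- the Cartan numbers -/
def cn6 (r s : ℕ) : ℤ := ∑ i : Fin 6, vec chevE6 6 s i * chevE6.cartan i r

/-- the shape of the commutator formula -/
def okC (r s : ℕ) : Bool :=
  let L := chevE6.commTerms r s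
  let v := (L.headD (0, 0, 0, 0)).1
  s == r || s == chevE6.neg r || (L.isEmpty && decide (0 ≤ cn6 r s)) ||
    (decide (cn6 r s = -1) && (decide (L = [(v, 1, 1, 1)]) || decide (L = [(v, -1, 1, 1)])))

theorem okC_all : ∀ r < 72, ∀ s < 72, okC r s = true := by (delta Cfsg.Agent.ODD.C2.E6c.cn6 Cfsg.Agent.ChevalleyStructure.RootVecTab.code Cfsg.Agent.ODD.C2.E6c.okC Cfsg.Agent.ChevalleyStructure.RootVecTab.packTab Cfsg.Agent.ChevalleyStructure.RootVec.rt Cfsg.Agent.Nodes.RGDChev.vec; refine of_decide_eq_true ?_; rewrite [H90F.bn_fun, H90F.dl_fun, H90F.dn_fun, H90F.dz_fun, H90F.ie_fun, H90F.ct_fun, H90F.ng_fun, H90F.ca_fun, H90F.bl_fun, H90F.le_fun, H90F.sm_fun]; decide +kernel)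

theorem comm_tab {r s : ℕ} (hr : r < 72) (hs : s < 72) (h1 : s ≠ r) (h2 : s ≠ chevE6.neg r) :
    (chevE6.commTerms r s = [] ∧ 0 ≤ cn6 r s) ∨
    (cn6 r s = -1 ∧ ∃ v, chevE6.commTerms r s = [(v, 1, 1, 1)] ∨ chevE6.commTerms r s = [(v, -1, 1, 1)]) := by
  have h := okC_all r hr s hs
  simp only [okC, Bool.or_eq_true, beq_iff_eq, h1, h2, false_or, Bool.and_eq_true, List.isEmpty_iff,
    decide_eq_true_eq] at h
  exact h.imp id fun h => ⟨h.1, _, h.2⟩

theorem root6 {r : ℕ} (hr : r < chevE6.nroots) : IsRoot cs6 hc6 (vec chevE6 6 r) := (isRoot_iff hp6 cs6 _).2 ⟨r, hr, rfl⟩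

theorem cpr6 {r : ℕ} (hr : r < chevE6.nroots) (s : ℕ) : cpr cs6 hc6 (vec chevE6 6 s) (vec chevE6 6 r) = cn6 r s := by
  rw [SimplyLaced.cpr_eq_sum cs6 hc6 (fun i j => (laced6 i j).1) (fun i j => (laced6 i j).2) _ (root6 hr)]
  exact Finset.sum_congr rfl fun i _ => by rw [pairing_vec hp6 i hr]

variable (k : Type) [Field k] [CharP k 2]

/-- the images of the generators -/
noncomputable def gen6 (r : ℕ) (t : k) : GL (Fin 27) k := if r < chevE6.nroots then mn6.x k (vec chevE6 6 r) t else 1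

variable {k}

theorem gen6_lt {r : ℕ} (hr : r < chevE6.nroots) (t : k) : gen6 k r t = mn6.x k (vec chevE6 6 r) t := if_pos hr

theorem gen6_comm {r s : ℕ} (t u : k) (hr : r < chevE6.nroots) (hs : s < chevE6.nroots) (h1 : s ≠ r)
    (h2 : s ≠ chevE6.neg r) : (gen6 k s u)⁻¹ * (gen6 k r t)⁻¹ * gen6 k s u * gen6 k r t =
      ((chevE6.commWord k r s t u).map fun p => gen6 k p.1 p.2).prod := by
  have h3 : (gen6 k s u)⁻¹ * (gen6 k r t)⁻¹ * gen6 k s u * gen6 k r t =
      ⁅mn6.x k (vec chevE6 6 s) u, mn6.x k (vec chevE6 6 r) t⁆ := by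
    rw [gen6_lt hr, gen6_lt hs, commutatorElement_def, mn6.x_inv (root6 hr), mn6.x_inv (root6 hs)]
  rw [h3, ChevalleyDatum.commWord]
  rcases comm_tab hr hs h1 h2 with ⟨h4, h5⟩ | ⟨h4, v, h5⟩
  · rw [h4, mn6.comm_nonneg (root6 hs) (root6 hr) (by rwa [cpr6 hr])]
    rfl
  · rw [← cpr6 hr] at h4
    rw [mn6.comm_one (root6 hs) (root6 hr) h4 (by
      rwa [SimplyLaced.cpr_symm cs6 hc6 (fun i j => (laced6 i j).1) (fun i j => (laced6 i j).2) (root6 hr) (root6 hs)])]
    have h6 : ∀ c : ℤ, chevE6.commTerms r s = [(v, c, 1, 1)] →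
        ∀ y, gen6 k v y = mn6.x k (vec chevE6 6 s + vec chevE6 6 r) y := fun c hc y => by
      obtain ⟨a1, -, -, -, -, a2⟩ := RootVec.commTerms_rt hp6.checked (hc ▸ List.mem_singleton_self _ :
        (v, c, 1, 1) ∈ chevE6.commTerms r s)
      rw [gen6_lt a1]
      congr 1
      funext i
      rw [Pi.add_apply, vec_apply, vec_apply, vec_apply, a2, Nat.cast_one, one_mul, one_mul, add_comm]
    rcases h5 with h5 | h5 <;> rw [h5] <;> simp only [h6 _ h5, CharTwo.neg_eq, mul_comm, _root_.List.map_cons, _root_.pow_one, _root_.Int.cast_one, _root_.mul_one, _root_.List.map_nil, _root_.List.prod_cons, _root_.List.prod_nil, _root_.Int.reduceNeg, _root_.Int.cast_neg]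

theorem gen6_h {r : ℕ} (hr : r < chevE6.nroots) (s : kˣ) :
    ((chevE6.hWord r (s : k)).map fun p => gen6 k p.1 p.2).prod = hw mn6 (vec chevE6 6 r) s := by
  have hr' := NPerm.neg_lt hp6.inList hr
  simp [ChevalleyDatum.hWord, ChevalleyDatum.nWord, gen6_lt hr, gen6_lt hr', vec_neg hp6 hr, hw, CharTwo.neg_eq,
    mul_assoc]

variable (k) in
/-- **The 27-dimensional representation.** -/
noncomputable def psi6 : chevE6.SteinbergGroup k →* GL (Fin 27) k :=
  StBasic.lift chevE6 (gen6 k) (fun _ _ h => if_neg h)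
    (fun _ _ _ hr => by rw [gen6_lt hr, gen6_lt hr, gen6_lt hr, mn6.x_add])
    (fun _ _ t u hr hs h1 h2 => gen6_comm t u hr hs h1 h2) fun r t₁ t₂ hr h1 h2 => by
      obtain ⟨φ, hφ⟩ := exists_hw mn6 (K := k) (root6 hr)
      have h3 := gen6_h hr (Units.mk0 t₁ h1 * Units.mk0 t₂ h2)
      rw [hφ, map_mul, map_mul, ← hφ, ← hφ, ← gen6_h hr, ← gen6_h hr] at h3
      exact h3.symm

theorem psi6_gen' (r : ℕ) (t : k) : psi6 k (chevE6.stGen k r t) = gen6 k r t := StBasic.lift_stGen _ _ _ _ _ _ r t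

theorem psi6_gen {r : ℕ} (hr : r < chevE6.nroots) (t : k) :
    psi6 k (chevE6.stGen k r t) = mn6.x k (vec chevE6 6 r) t := by rw [psi6_gen', gen6_lt hr]

theorem x_mem_range {a : Fin 6 → ℤ} (ha : IsRoot cs6 hc6 a) (u : k) : mn6.x k a u ∈ (psi6 k).range := by
  obtain ⟨r, hr, rfl⟩ := (isRoot_iff hp6 cs6 a).1 ha
  exact ⟨_, psi6_gen hr u⟩

theorem st_ind {H : Subgroup (chevE6.SteinbergGroup k)} (h : ∀ r < chevE6.nroots, ∀ t, chevE6.stGen k r t ∈ H)
    (s : chevE6.SteinbergGroup k) : s ∈ H := by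
  have h1 : ⊤ ≤ H := by
    rw [← StBasic.closure_stGen, Subgroup.closure_le]
    rintro _ ⟨r, t, hr, rfl⟩
    exact h r hr t
  exact h1 trivial

theorem pow_mem_range (hk : ∀ a : k, ∃ j, 0 < j ∧ a ^ 2 ^ j = a) {y : GL (Fin 27) k} (hy : y ∈ mn6.G k cs6 hc6) :
    ∃ n, Odd n ∧ y ^ n ∈ (psi6 k).range := by
  have h1 : ∀ c, ∀ g ∈ (psi6 k).range, mn6.τ k c * g * (mn6.τ k c)⁻¹ ∈ (psi6 k).range := by
    rintro c _ ⟨s, rfl⟩
    refine st_ind (H := (psi6 k).range.comap ((MulAut.conj (mn6.τ k c)).toMonoidHom.comp (psi6 k))) (fun r hr t => ?_) s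
    show mn6.τ k c * psi6 k _ * (mn6.τ k c)⁻¹ ∈ (psi6 k).range
    rw [psi6_gen hr, mn6.τ_x (root6 hr)]
    exact x_mem_range (root6 hr) _
  have h2 : (mn6.τ k).range ≤ Subgroup.normalizer ((psi6 k).range : Set (GL (Fin 27) k)) := by
    rintro _ ⟨c, rfl⟩
    refine Subgroup.mem_normalizer_iff.2 fun g => ⟨h1 c g, fun hg => ?_⟩
    simpa only [mul_assoc, _root_.MonoidHom.mem_range, _root_.map_inv, _root_.inv_mul_cancel_left, _root_.inv_inv, _root_.inv_mul_cancel, _root_.mul_one] using h1 c⁻¹ _ hg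
  have h3 : y ∈ (((psi6 k).range ⊔ (mn6.τ k).range : Subgroup _) : Set (GL (Fin 27) k)) :=
    mn6.G_le (H := (psi6 k).range ⊔ (mn6.τ k).range) (fun c => Subgroup.mem_sup_right ⟨c, rfl⟩)
      (fun a ha u => Subgroup.mem_sup_left (x_mem_range ha u)) hy
  rw [Subgroup.coe_mul_of_right_le_normalizer_left _ _ h2] at h3
  obtain ⟨g, hg, _, ⟨c, rfl⟩, rfl⟩ := h3
  obtain ⟨n, hn, h4⟩ := odd_tor hk c
  have h5 := pow_mem_of_norm hg (h2 ⟨c, rfl⟩) n
  rw [← map_pow, h4, map_one, inv_one, mul_one] at h5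
  exact ⟨n, hn, h5⟩

variable (k) in
/-- the map onto the Chevalley group -/
structure Th (θ : chevE6.SteinbergGroup k →* chevE6.group k) : Prop where
  gen : ∀ r < chevE6.nroots, ∀ t, θ (chevE6.stGen k r t) = xc hp6 (vec chevE6 6 r) t
  ker : ∀ s, psi6 k s = 1 → θ s = 1
  cen : ∀ s, θ s = 1 → s ∈ Subgroup.center (chevE6.SteinbergGroup k)
  tor : ∀ s, θ s = 1 → ∃ c, mn6.τ k c = psi6 k s

variable (k) in
theorem exists_th : ∃ θ, Th k θ := by
  obtain ⟨θ, h1, h2, h3⟩ := S1077.result (K := k) chevE6 hp6.inList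
  have := (S1054.result (F := k) chevE6 (by simp)).1
  refine ⟨θ, fun r hr t => Subtype.ext (Units.ext (by rw [h3 r t hr, coe_xc hp6 hr]; rfl)),
    ker_le _ θ h1 h2.le (a := chevE6.stGen k 56 1) (b := chevE6.stGen k 42 1) fun h => ?_,
    fun s hs => h2.le hs, fun s hs => ?_⟩
  · have a1 : 56 < chevE6.nroots := by decide +kernel
    have a2 : 42 < chevE6.nroots := by decide +kernel
    have a3 : cn6 42 56 = -1 ∧ cn6 56 42 = -1 := by decide +kernel
    rw [← cpr6 a1, ← cpr6 a2] at a3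
    rw [psi6_gen a1, psi6_gen a2, ← commutatorElement_eq_one_iff_mul_comm,
      mn6.comm_one (root6 a1) (root6 a2) a3.1 a3.2, ← mn6.x_zero (Mn.root_add (root6 a1) (root6 a2) a3.1)] at h
    simpa using mn6.x_inj (Mn.root_add (root6 a1) (root6 a2) a3.1) h
  · refine ((Subgroup.closure_le ((mn6.τ k).range.comap (psi6 k))).2 ?_) (S1097.result chevE6 hp6.inList θ h3 hs)
    rintro _ ⟨i, t, hi, ht, rfl⟩
    have hr := NPerm.simple_lt hp6.inList hi
    obtain ⟨φ, hφ⟩ := exists_hw mn6 (K := k) (root6 hr)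
    refine ⟨φ (Units.mk0 t ht), ?_⟩
    rw [← hφ, ← gen6_h hr]
    refine Eq.trans ?_ (StBasic.map_wd chevE6 (psi6 k) _).symm
    simp only [psi6_gen', Units.val_mk0]

end Cfsg.Agent.ODD.C2.E6c
end

-- part: ODD/C2/E6c
section
/-!
# The triple covers of `E₆(q)` and `²E₆(q)`, `q` even (helper22)

`h6_two`, `ht_two` : the hypotheses `h6`, `ht` of `ODD.Cv.rowO_two`.
-/

set_option autoImplicit false
set_option maxHeartbeats 400000
set_option linter.unusedSectionVars false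

namespace Cfsg.Agent.ODD.C2

open CoxeterSystem Cfsg.Lie Cfsg.Agent.ChevalleyStructure Cfsg.Agent.ChevalleyStructure.CoxeterGeom
  Cfsg.Agent.ChevalleyStructure.CoxeterGeomTypes Cfsg.Agent.Tits.Roots Cfsg.Agent.Nodes Cfsg.Agent.Nodes.RGDChev
  Cfsg.Agent.Nodes.Coroot Cfsg.Agent.DL Cfsg.Agent.KFacts.RgdChevCoord Cfsg.Agent.GpExc.Field
open Cfsg.Agent.H493.TwE6Alg (dua isRoot_dua dua_sr dua_two dua_vec tau coe_tau embT coe_embT)

namespace E6c

attribute [local instance] finW6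

variable {k : Type} [Field k] [CharP k 2]

/-- the scalar matrices -/
noncomputable def om (w : kˣ) : GL (Fin 27) k := mn6.τ k (coch ![0, 0, 0, 0, 0, 0, 1] w)

theorem mu_last : ∀ a : Fin 27, ∑ j, mn6.μ a j * (![0, 0, 0, 0, 0, 0, 1] : Fin 7 → ℤ) j = 1 := by decide +kernel

theorem om_comm (w : kˣ) (y : GL (Fin 27) k) : y * om w = om w * y := by
  refine Units.ext (Matrix.ext fun a b => ?_)
  rw [Units.val_mul, Units.val_mul, om, mn6.coe_τ, Matrix.mul_diagonal, Matrix.diagonal_mul, Ex.chr_coch, Ex.chr_coch,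
    mu_last, mu_last, mul_comm]

theorem om_order {w : kˣ} (hw : orderOf w = 3) : orderOf (om w) = 3 := by
  rw [om, ← MonoidHom.comp_apply, orderOf_injective _ fun a b h => ?_, hw]
  simpa [coch_apply] using congrFun (mn6.τ_inj k h) 6

theorem om_eq {w : kˣ} (hw : orderOf w = 3) : om w = mn6.τ k (coch (mn6.cw 0) w) * mn6.τ k (coch (mn6.cw 5) (w ^ 2)) *
    (mn6.τ k (coch (mn6.cw 2) (w ^ 2)) * mn6.τ k (coch (mn6.cw 4) w)) := by
  rw [om, ← map_mul, ← map_mul, ← map_mul]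
  refine congrArg _ (funext fun j => ?_)
  simp only [Pi.mul_apply, coch_apply, ← zpow_natCast, ← zpow_mul, ← zpow_add]
  rw [zpow_eq_zpow_iff_modEq, hw]
  revert j
  decide +kernel

variable [IsAlgClosed k] {α : MulAut (GL (Fin 27) k)} {g : (Fin 6 → ℤ) → Fin 6 → ℤ} {B : Matrix (Fin 7) (Fin 7) ℤ}
  {e : ℕ} {θ : chevE6.SteinbergGroup k →* chevE6.group k}

variable (k) in
theorem exists_om : ∃ w : kˣ, orderOf w = 3 := by
  have : NeZero ((3 : ℕ) : k) := ⟨by rw [Ne, CharP.cast_eq_zero_iff k 2]; norm_num⟩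
  obtain ⟨z, hz⟩ := HasEnoughRootsOfUnity.exists_primitiveRoot k 3
  exact ⟨(hz.isUnit three_ne_zero).unit, by rw [← orderOf_units, IsUnit.unit_spec, ← hz.eq_orderOf]⟩

theorem F_x (S : mn6.Sy cs6 hc6 α g B) {a : Fin 6 → ℤ} (ha : IsRoot cs6 hc6 a) (u : k) :
    (α * frA (Fin 27) k e) (mn6.x k a u) = mn6.x k (g a) (u ^ 2 ^ e) := by
  rw [MulAut.mul_apply, frA_apply, mn6.frob_x ha, S.x a ha]

theorem compat (S : mn6.Sy cs6 hc6 α g B) (T : Th k θ) {F' : MulAut (chevE6.group k)}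
    (h : ∀ r < chevE6.nroots, ∀ u, F' (xc hp6 (vec chevE6 6 r) u) = xc hp6 (g (vec chevE6 6 r)) (u ^ 2 ^ e))
    (s : chevE6.SteinbergGroup k) : ∃ s', psi6 k s' = (α * frA (Fin 27) k e) (psi6 k s) ∧ θ s' = F' (θ s) := by
  let H : Subgroup (chevE6.SteinbergGroup k) :=
    { carrier := {s | ∃ s', psi6 k s' = (α * frA (Fin 27) k e) (psi6 k s) ∧ θ s' = F' (θ s)}
      one_mem' := ⟨1, by simp only [map_one], by simp only [map_one]⟩
      mul_mem' := fun ⟨a, h1, h2⟩ ⟨b, h3, h4⟩ => ⟨a * b, by simp only [map_mul, h1, h3], by simp only [map_mul, h2, h4]⟩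
      inv_mem' := fun ⟨a, h1, h2⟩ => ⟨a⁻¹, by simp only [map_inv, h1], by simp only [map_inv, h2]⟩ }
  refine st_ind (H := H) (fun r hr t => ?_) s
  obtain ⟨r', hr', h1⟩ := (isRoot_iff hp6 cs6 _).1 (S.root _ (root6 hr))
  exact ⟨chevE6.stGen k r' (t ^ 2 ^ e), by rw [psi6_gen hr, psi6_gen hr', F_x S (root6 hr), h1],
    by rw [T.gen r hr, T.gen r' hr', h r hr, h1]⟩

theorem Th.odd (T : Th k θ) (hk : ∀ a : k, ∃ j, 0 < j ∧ a ^ 2 ^ j = a) (s : chevE6.SteinbergGroup k) (hs : θ s = 1) :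
    ∃ n, Odd n ∧ psi6 k s ^ n = 1 := by
  obtain ⟨c, hc⟩ := T.tor s hs
  obtain ⟨n, hn, h⟩ := odd_tor hk c
  exact ⟨n, hn, by rw [← hc, ← map_pow, h, map_one]⟩

theorem single (S : mn6.Sy cs6 hc6 α g B) {a : Fin 6 → ℤ} (ha : IsRoot cs6 hc6 a) (hg : g a = a) {u : k}
    (hu : u ^ 2 ^ e = u) : mn6.x k a u ∈ mn6.G k cs6 hc6 ∧ (α * frA (Fin 27) k e) (mn6.x k a u) = mn6.x k a u ∧
      mn6.x k a u ^ 2 = 1 :=
  ⟨mn6.x_mem_G ha u, by rw [F_x S ha, hg, hu], by rw [sq, x_sq mn6 ha]⟩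

theorem pair {a : Fin 6 → ℤ} (ha : IsRoot cs6 hc6 a) (h0 : 0 ≤ cpr cs6 hc6 a (dua a)) {u : k}
    (hu : (u ^ 2 ^ e) ^ 2 ^ e = u) {y : GL (Fin 27) k} (hy : y = mn6.x k a u * mn6.x k (dua a) (u ^ 2 ^ e)) :
    y ∈ mn6.G k cs6 hc6 ∧ (gm6 k * frA (Fin 27) k e) y = y ∧ y ^ 2 = 1 := by
  have hb := isRoot_dua cs6 a ha
  have hc : Commute (mn6.x k a u) (mn6.x k (dua a) (u ^ 2 ^ e)) :=
    commutatorElement_eq_one_iff_commute.1 (mn6.comm_nonneg ha hb h0 _ _)
  subst hy
  exact ⟨mul_mem (mn6.x_mem_G ha _) (mn6.x_mem_G hb _),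
    by rw [map_mul, F_x (sy6 k) ha, F_x (sy6 k) hb, dua_two, hu, hc.eq],
    by rw [hc.mul_pow, sq, sq, x_sq mn6 ha, x_sq mn6 hb, one_mul]⟩

theorem hw_mem {H : Subgroup (GL (Fin 27) k)} {P : Subfield k} {i : Fin 6}
    (h : ∀ a, a = sr i ∨ a = -sr i → ∀ u ∈ P, mn6.x k a u ∈ H) {s : kˣ} (hs : (s : k) ∈ P) :
    mn6.τ k (coch (mn6.cw i) s) ∈ H := by
  rw [← hw_sr mn6 cs6 hc6]
  exact mul_mem (mul_mem (mul_mem (h _ (.inl rfl) _ hs) (h _ (.inr rfl) _ (by simpa using hs))) (h _ (.inl rfl) _ hs))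
    (mul_mem (mul_mem (h _ (.inl rfl) _ P.one_mem) (h _ (.inr rfl) _ P.one_mem)) (h _ (.inl rfl) _ P.one_mem))

theorem root_pm {i : Fin 6} {a : Fin 6 → ℤ} (h : a = sr i ∨ a = -sr i) : IsRoot cs6 hc6 a := by
  rcases h with rfl | rfl
  exacts [isRoot_sr _ _ i, (isRoot_sr _ _ i).neg]

theorem om_split {H : Subgroup (GL (Fin 27) k)}
    (hH : ∀ y ∈ mn6.G k cs6 hc6, (1 * frA (Fin 27) k e) y = y → y ^ 2 = 1 → y ∈ H) {w : kˣ} (hw : orderOf w = 3)
    (h3 : 3 ∣ 2 ^ e - 1) : om w ∈ H := by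
  have h1 : (w : k) ∈ Ex.levF 2 k e := by
    obtain ⟨c, hc⟩ := h3
    rw [Ex.mem_levF, ← Nat.sub_add_cancel (Nat.one_le_two_pow (n := e)), hc, ← Units.val_pow_eq_pow_val, pow_succ,
      pow_mul, ← hw, pow_orderOf_eq_one, one_pow, one_mul]
  have h2 : ∀ i (s : kˣ), (s : k) ∈ Ex.levF 2 k e → mn6.τ k (coch (mn6.cw i) s) ∈ H := fun i s hs =>
    hw_mem (fun a ha u hu =>
      have h := single mn6.sy_one (root_pm ha) rfl (Ex.mem_levF.1 hu)
      hH _ h.1 h.2.1 h.2.2) hs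
  have h4 : ((w ^ 2 : kˣ) : k) ∈ Ex.levF 2 k e := pow_mem h1 2
  rw [om_eq hw]
  exact mul_mem (mul_mem (h2 _ _ h1) (h2 _ _ h4)) (mul_mem (h2 _ _ h4) (h2 _ _ h1))

theorem tw_mem {H : Subgroup (GL (Fin 27) k)}
    (hH : ∀ y ∈ mn6.G k cs6 hc6, (gm6 k * frA (Fin 27) k e) y = y → y ^ 2 = 1 → y ∈ H) {i j : Fin 6}
    (hij : dua (sr i) = sr j) (h0 : cartanOf chevE6 6 j i = 0) {s : kˣ} (hs : (s ^ 2 ^ e) ^ 2 ^ e = s) :
    mn6.τ k (coch (mn6.cw i) s) * mn6.τ k (coch (mn6.cw j) (s ^ 2 ^ e)) ∈ H := by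
  have hl : ∀ u : k, u ∈ Ex.levF 2 k (e + e) ↔ (u ^ 2 ^ e) ^ 2 ^ e = u := fun u => by
    rw [Ex.mem_levF, pow_add, pow_mul]
  have hc : ∀ a, a = sr i ∨ a = -sr i → ∀ b, b = sr i ∨ b = -sr i → 0 ≤ cpr cs6 hc6 a (dua b) := by
    have h1 : cpr cs6 hc6 (sr i) (sr j) = 0 := by rw [cpr_sr, Ex.pairing_sr', h0]
    have h2 := isRoot_sr cs6 hc6 j
    rintro _ (rfl | rfl) _ (rfl | rfl) <;>
      simp only [map_neg, hij, cpr_neg_right cs6 hc6 _ h2, cpr_neg cs6 hc6 _ h2, h1, neg_zero, le_refl]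
  have h1 := mul_map_mem (gm6 k * frA (Fin 27) k e) (H := H)
    (A := {y | ∃ a, (a = sr i ∨ a = -sr i) ∧ ∃ u ∈ Ex.levF 2 k (e + e), y = mn6.x k a u}) (by
      rintro _ ⟨a, ha, u, -, rfl⟩ _ ⟨b, hb, v, -, rfl⟩
      rw [F_x (sy6 k) (root_pm hb)]
      exact commutatorElement_eq_one_iff_commute.1
        (mn6.comm_nonneg (root_pm ha) (isRoot_dua cs6 b (root_pm hb)) (hc a ha b hb) _ _)) (by
      rintro _ ⟨a, ha, u, hu, rfl⟩
      have h := pair (root_pm ha) (hc a ha a ha) ((hl u).1 hu) rfl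
      rw [F_x (sy6 k) (root_pm ha)]
      exact hH _ h.1 h.2.1 h.2.2)
    (hw_mem (i := i) (fun a ha u hu => Subgroup.subset_closure (by exact ⟨a, ha, u, hu, rfl⟩))
      ((hl s).2 (congrArg Units.val hs)))
  have hr := isRoot_sr cs6 hc6 i
  have h2 : (gm6 k * frA (Fin 27) k e) (mn6.τ k (coch (mn6.cw i) s)) = mn6.τ k (coch (mn6.cw j) (s ^ 2 ^ e)) := by
    rw [← hw_sr mn6 cs6 hc6, ← hw_sr mn6 cs6 hc6, hw, hw]
    simp only [map_mul, F_x (sy6 k) hr, F_x (sy6 k) hr.neg, map_neg, hij, one_pow, Units.val_pow_eq_pow_val, ← inv_pow]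
  rwa [h2] at h1

theorem om_tw {H : Subgroup (GL (Fin 27) k)}
    (hH : ∀ y ∈ mn6.G k cs6 hc6, (gm6 k * frA (Fin 27) k e) y = y → y ^ 2 = 1 → y ∈ H) {w : kˣ} (hw : orderOf w = 3)
    (h3 : 3 ∣ 2 ^ e + 1) : om w ∈ H := by
  have h1 : w ^ 2 ^ e = w ^ 2 := by
    rw [pow_eq_pow_iff_modEq, hw]
    unfold Nat.ModEq
    omega
  have h2 : (w ^ 2) ^ 2 ^ e = w := by
    rw [← pow_mul, mul_comm, pow_mul, h1, ← pow_mul, show 2 * 2 = orderOf w + 1 by omega, pow_succ, pow_orderOf_eq_one,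
      one_mul]
  have h4 := tw_mem hH (dua_sr 0) (by decide +kernel) (s := w) (by rw [h1, h2])
  have h5 := tw_mem hH (dua_sr 2) (by decide +kernel) (s := w ^ 2) (by rw [h2, h1])
  rw [h1] at h4
  rw [h2] at h5
  rw [om_eq hw]
  exact mul_mem h4 h5

theorem tau_xc {r : ℕ} (hr : r < chevE6.nroots) (u : k) :
    tau k 2 e (xc hp6 (vec chevE6 6 r) u) = xc hp6 (dua (vec chevE6 6 r)) (u ^ 2 ^ e) := by
  have hr' : r < 72 := hr
  have h1 : ((BpExc.EmbInst.ep ⟨r, hr'⟩ : ℤ) : k) = 1 := by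
    rcases Int.eq_one_or_neg_one_of_mul_eq_one (BpExc.EmbInst.eps_sq ⟨r, hr'⟩) with h | h <;> rw [h] <;>
      simp [CharTwo.neg_eq]
  apply Subtype.ext
  rw [coe_tau, coe_xc hp6 hr, dua_vec ⟨r, hr'⟩, coe_xc hp6 (TwE6Basic.rho ⟨r, hr'⟩).2]
  refine (BpExc.EmbInst.sg_ep _ ⟨r, hr'⟩ u).trans ?_
  rw [h1, one_mul, iterateFrobenius_def]

theorem odd_gcd (m : ℕ) : Odd (Nat.gcd 3 m) := Odd.of_dvd_nat (by decide) (Nat.gcd_dvd_left 3 m)

theorem tw_single : ∀ r ∈ [46, 25, 39, 32], r < chevE6.nroots ∧ dua (vec chevE6 6 r) = vec chevE6 6 r := by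
  decide +kernel

theorem tw_pair : ∀ rs ∈ [(56, 36), (15, 35), (42, 37), (29, 34)], rs.1 < chevE6.nroots ∧ rs.2 < chevE6.nroots ∧
    dua (vec chevE6 6 rs.1) = vec chevE6 6 rs.2 ∧ cn6 rs.2 rs.1 = 0 := by
  decide +kernel

end E6c

open E6c

attribute [local instance] finW6

/-- **The triple cover of `E₆(q)`, `q` even.** -/
theorem h6_two (X : Type) [Group X] [Finite X] (F : Type) [Field F] [Fintype F] [CharP F 2] (hX : IsQuasisimple X)
    (h3 : 3 ∣ Fintype.card F - 1) (hZ : Nat.card (Subgroup.center X) = 3)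
    (φ : X ⧸ Subgroup.center X ≃* Lie.chevE6.group F) : OddRat X := by
  obtain ⟨e, -, hF⟩ := FiniteField.card F 2
  obtain ⟨-, _, hl⟩ := Tw.setup' Nat.prime_two e.pos.ne' hF
  have hk := Ex.lf_of_locFin (p := 2) hl
  obtain ⟨θ, T⟩ := exists_th (AlgebraicClosure F)
  obtain ⟨w, hw⟩ := exists_om (AlgebraicClosure F)
  have O := Ex.over_E6 (algebraMap F (AlgebraicClosure F)) hF hp6
  have := (mn6.dat cs6 hc6 hk e.pos).amb.finite_GF (mn6.G _ cs6 hc6)
  refine oddRat_cover (good6 hk e.pos).oddRat (psi6 _) θ _ O.inj (odd_gcd _)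
    (fun y hy => O.mem_range.1 (O.pow_mem ⟨y, trivial, hy⟩)) T.ker T.cen (T.odd hk) (fun _ => pow_mem_range hk)
    (compat mn6.sy_one T fun r _ u => Ex.frobA_xc hp6 e _ u) (fun H hH => ?_) (om_order hw) (om_comm w)
    (fun H hH => om_split hH hw (hF ▸ h3)) (j := 0) (Cv.mb_e6.mono (Nat.gcd_dvd_left _ _)) hX (hZ ▸ by decide) φ
  have h1 : chevE6.group F ≤ H.map (chevE6.group F).subtype := by
    rw [Elts.group_le_iff hp6.inList]
    intro r hr t
    have h := single (e := e) mn6.sy_one (root6 hr) rfl (u := algebraMap F (AlgebraicClosure F) t)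
      (by rw [← map_pow, ← hF, FiniteField.pow_card])
    rw [← psi6_gen hr] at h
    exact ⟨xc hp6 (vec chevE6 6 r) t, hH _ _ h.1 h.2.1 h.2.2 (by rw [T.gen r hr, BpExc.TowChev.emb_xc]),
      coe_xc hp6 hr t⟩
  refine eq_top_iff.2 fun y _ => ?_
  obtain ⟨z, hz, h2⟩ := h1 y.2
  rwa [← Subtype.ext h2]

/-- **The triple cover of `²E₆(q)`, `q` even.** -/
theorem ht_two (X : Type) [Group X] [Finite X] (F : Type) [Field F] [Fintype F] [hc : CharP F 2] (q : ℕ)
    (hX : IsQuasisimple X) (hq : IsPrimePow q) (hF : Fintype.card F = q ^ 2) (h3 : 3 ∣ q + 1)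
    (hZ : Nat.card (Subgroup.center X) = 3) (φ : X ⧸ Subgroup.center X ≃* Lie.twistedE6 F q) : OddRat X := by
  obtain ⟨p, e, _, hp, _, he, hqe, hl⟩ := Tw.setup hq two_ne_zero hF
  obtain rfl : 2 = p := CharP.eq F hc hp
  have hk := Ex.lf_of_locFin (p := 2) hl
  obtain ⟨θ, T⟩ := exists_th (AlgebraicClosure F)
  obtain ⟨w, hw⟩ := exists_om (AlgebraicClosure F)
  have O := Tw.emb_E6 (algebraMap F (AlgebraicClosure F)) hqe hq hF
  have := (mn6.datT hk he (sy6 _) (Mn.fin_pm_it _)).amb.finite_GF (mn6.G _ cs6 hc6)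
  refine oddRat_cover (goodT6 hk he).oddRat (psi6 _) θ _ O.inj (odd_gcd _)
    (fun y hy => O.pow y ⟨trivial, hy⟩) T.ker T.cen (T.odd hk) (fun _ => pow_mem_range hk)
    (compat (sy6 _) T fun r hr u => tau_xc hr u) (fun H hH => ?_) (om_order hw) (om_comm w)
    (fun H hH => om_tw hH hw (hqe ▸ h3)) (j := 2)
    ((Cv.mb_tw hq hF).mono (Nat.mul_dvd_mul_right (Nat.gcd_dvd_left _ _) _)) hX (hZ ▸ by decide) φ
  have h1 : twistedE6 F q ≤ H.map (twistedE6 F q).subtype := by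
    rw [TwE6Basic.twisted_le_iff]
    refine ⟨fun t ht r hr => ?_, fun t rs hr => ?_⟩
    · obtain ⟨h2, h4⟩ := tw_single r hr
      have h := single (e := e) (sy6 _) (root6 h2) h4 (u := algebraMap F (AlgebraicClosure F) t)
        (by rw [← map_pow, ← hqe, ht])
      rw [← psi6_gen h2] at h
      exact ⟨⟨_, TwE6Basic.single_mem ht hr⟩, hH _ _ h.1 h.2.1 h.2.2 (Subtype.ext (by
        rw [T.gen r h2, coe_xc hp6 h2, coe_embT]
        exact (glMap_xG _ _ r t).symm)), rfl⟩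
    · obtain ⟨h2, h4, h5, h6⟩ := tw_pair rs hr
      have h := pair (e := e) (root6 h2) (by rw [h5, cpr6 h4, h6]) (u := algebraMap F (AlgebraicClosure F) t)
        (by rw [← map_pow, ← map_pow, ← pow_mul, ← hqe, ← sq, ← hF, FiniteField.pow_card]) rfl
      rw [h5, ← psi6_gen h2, ← psi6_gen h4, ← map_mul] at h
      exact ⟨⟨_, TwE6Basic.pair_mem t hr⟩, hH _ _ h.1 h.2.1 h.2.2 (Subtype.ext (by
        rw [map_mul, T.gen _ h2, T.gen _ h4, Subgroup.coe_mul, coe_xc hp6 h2, coe_xc hp6 h4, coe_embT, map_mul,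
          glMap_xG, glMap_xG, map_pow, hqe])), rfl⟩
  refine eq_top_iff.2 fun y _ => ?_
  obtain ⟨z, hz, h2⟩ := h1 y.2
  rwa [← Subtype.ext h2]

end Cfsg.Agent.ODD.C2
end

private theorem dce_fbf7fd1b14e4 : _root_.True := by
  try have : _root_.True := by simp only [_root_.Cfsg.Agent.ODD.C2.frA.congr_simp]
  try have : _root_.True := by simp only [_root_.Cfsg.Agent.ODD.C2.E6c.psi6.congr_simp]
  try have : _root_.True := by simp only [_root_.Cfsg.Agent.ODD.C2.E6c.hw.eq_1]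
  try have : _root_.True := by simp only [_root_.Cfsg.Agent.ODD.C2.Mn.n.congr_simp]
  try have : _root_.True := by simp only [_root_.Cfsg.Agent.ODD.C2.E6c.okC.eq_1]
  try have : _root_.True := by simp only [_root_.Cfsg.Agent.ODD.C2.E6c.B6.eq_1]
  try have : _root_.True := by simp only [_root_.Cfsg.Lie.ChevalleyDatum.commWord.eq_1]
  try have : _root_.True := by simp only [_root_.Cfsg.Agent.ODD.C2.E6c.om.eq_1]
  exact _root_.True.intro
end

-- part: ODD/PS/C3Main
section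
prune_inst 0x20040000a2100000000000000004000000040000000000000100000040000008200001000000014000000000000020000000004000000000000000000000000000100480480000400080000000000000000000000000000000000000000000000000000
set_option linter.all false
open scoped Cfsg.Agent.FastGrp

-- part: ODD/PS/C3H1
section
/-!
# ODD / GAL: `PSp_{2n}(q)`, `q ≡ 3 mod 4`: the node `l` and the double cosets (helper6)

* `Su P` : the elements of the group algebra supported on `P`;
* `Gd` : the data of the second series, `Np` the relative normaliser, `tt` the basis of the Hecke algebra;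
* `Gd.key` : `e z e` for `z` in a Bruhat cell.
-/

set_option autoImplicit false
set_option linter.unusedSectionVars false

open Cfsg

namespace Cfsg.Agent.ODD.PS.C3

open CoxeterSystem Cfsg.Agent.ChevalleyStructure.CoxeterGeom Cfsg.Agent.Tits.Roots Cfsg.Agent.Tits.Core
  Cfsg.Agent.Nodes.Reps Cfsg.Agent.Nodes.BNOf Cfsg.Agent.Nodes.Bruhat Cfsg.Agent.Nodes.StabComb
  Cfsg.Agent.Nodes.SubComb Cfsg.Agent.Nodes.LeviDec Cfsg.Agent.Nodes.NormalForm Cfsg.Agent.Nodes.OppDec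
  Cfsg.Agent.H684.OQ Cfsg.Agent.H670

/-! ### supports -/

section supp

variable {Y : Type} [Group Y] {P : Subgroup Y}

/-- the elements supported on `P` -/
noncomputable def Su (P : Subgroup Y) : Subalgebra ℂ (Al Y) := (mp P.subtype).range

theorem dl_mem_su {g : Y} (hg : g ∈ P) : dl g ∈ Su P := ⟨dl ⟨g, hg⟩, mp_dl _ _⟩

theorem mp_mem_su {G : Type} [Group G] {Φ : G →* Y} (hΦ : ∀ s, Φ s ∈ P) (a : Al G) : mp Φ a ∈ Su P := by
  induction a using al_induction with
  | hd g => rw [mp_dl]; exact dl_mem_su (hΦ g)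
  | ha a b ha hb => rw [map_add]; exact add_mem ha hb
  | hs c a ha => rw [map_smul]; exact Subalgebra.smul_mem _ ha c

theorem av_mem_su [Finite Y] {Q : Subgroup Y} (hQ : Q ≤ P) (φ : Q →* ℂˣ) : av φ ∈ Su P := by
  have := Fintype.ofFinite Q
  rw [av_def]
  exact Subalgebra.smul_mem _ (sum_mem fun u _ => Subalgebra.smul_mem _ (dl_mem_su (hQ u.2)) _) _

theorem coeff_su {a b : Al Y} (ha : a ∈ Su P) (hb : b ∈ Su P) {z : Y} (hz : z ∉ P) : (a * dl z * b).coeff 1 = 0 := by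
  classical
  obtain ⟨a, rfl⟩ := ha
  obtain ⟨b, rfl⟩ := hb
  rw [coeff_eq_lin]
  change lin _ (mp P.subtype a * dl z * mp P.subtype b) = 0
  induction a using al_induction with
  | hd u =>
    induction b using al_induction with
    | hd v =>
      rw [mp_dl, mp_dl, ← dl_mul, ← dl_mul, lin_dl, if_neg]
      intro e
      apply hz
      have : z = (u : Y)⁻¹ * (P.subtype u * z * P.subtype v) * (v : Y)⁻¹ := by
        simp only [Subgroup.coe_subtype]; group
      rw [this, e, mul_one]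
      exact mul_mem (inv_mem u.2) (inv_mem v.2)
    | ha b b' hb hb' => rw [map_add, mul_add, map_add, hb, hb', add_zero]
    | hs c b hb => rw [map_smul, mul_smul_comm, map_smul, hb, smul_zero]
  | ha a a' ha ha' => rw [map_add, add_mul, add_mul, map_add, ha, ha', add_zero]
  | hs c a ha => rw [map_smul, smul_mul_assoc, smul_mul_assoc, map_smul, ha, smul_zero]

variable [Finite Y]

theorem dl_mul_av_one {u : Y} (hu : u ∈ P) : dl u * av (P := P) 1 = av (P := P) 1 := by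
  have := dl_mul_av (1 : P →* ℂˣ) ⟨u, hu⟩
  rwa [MonoidHom.one_apply, Units.val_one, one_smul] at this

theorem av_one_mul_dl {u : Y} (hu : u ∈ P) : av (P := P) 1 * dl u = av (P := P) 1 := by
  have := av_mul_dl (1 : P →* ℂˣ) ⟨u, hu⟩
  rwa [MonoidHom.one_apply, Units.val_one, one_smul] at this

theorem avg_one {a b c : Al Y} (hc : ∀ u ∈ P, a * dl u * b = c) : a * av (P := P) 1 * b = c :=
  avg_eq _ fun u => by
    rw [MonoidHom.one_apply, inv_one, Units.val_one, one_smul]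
    exact hc u u.2

theorem av_mul_eq (φ : P →* ℂˣ) {b : Al Y} (hb : ∀ u : P, dl (u : Y) * b = ((φ u : ℂˣ) : ℂ) • b) : av φ * b = b := by
  have := avg_eq φ (a := 1) (b := b) (c := b) fun u => by rw [one_mul, hb, smul_smul, Units.inv_mul, one_smul]
  rwa [one_mul] at this

theorem mul_av_eq (φ : P →* ℂˣ) {b : Al Y} (hb : ∀ u : P, b * dl (u : Y) = ((φ u : ℂˣ) : ℂ) • b) : b * av φ = b := by
  have := avg_eq φ (a := b) (b := 1) (c := b) fun u => by rw [mul_one, hb, smul_smul, Units.inv_mul, one_smul]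
  rwa [mul_one] at this

end supp

variable {I W Y : Type} [Fintype I] [DecidableEq I] [Group W] [Finite W] [Group Y] [Finite Y]
  {M : CoxeterMatrix I} {cs : CoxeterSystem M W} {A : I → I → ℤ} {h : IsCartan M A} {p : ℕ} {T : Subgroup Y}
  {n : I → Y} {X : (I → ℤ) → Subgroup Y} {R : RGD cs h p T n X} {F : Type} [Field F] [Fintype F] {l : I}
  {Φ : S2 F →* Y}

/-! ### roots -/

theorem posNe_eq (l : I) : RGD.PosNe cs h l = NotJ cs h {l} := by
  ext x
  constructor
  · rintro ⟨h1, h2, h3⟩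
    exact ⟨h1, h2, exists_coeff h1 h2 h3⟩
  · rintro ⟨h1, h2, k, hk, h3⟩
    refine ⟨h1, h2, fun e => ?_⟩
    rw [e, sr_ne hk] at h3
    exact lt_irrefl _ h3

theorem VV_eq (l : I) : VV cs h X l = VJ cs h X {l} := by rw [VV, posNe_eq, VJ]

theorem posNe_of {b γ : I → ℤ} (hb : b ∈ RGD.PosNe cs h l) (hγ : IsRoot cs h γ) {m c : ℤ} (hm : 0 < m)
    (e : m • γ = b + c • sr l) : γ ∈ RGD.PosNe cs h l := by
  obtain ⟨k, hk, h1⟩ := exists_coeff hb.1 hb.2.1 hb.2.2
  have h2 := congrFun e k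
  rw [Pi.add_apply, Pi.smul_apply, Pi.smul_apply, sr_ne hk, smul_zero, add_zero, smul_eq_mul] at h2
  have h3 : 0 < γ k := pos_of_mul_pos_left (b := m) (by rw [mul_comm, h2]; exact h1) hm.le
  rw [posNe_eq]
  exact ⟨hγ, nonneg_of_pos_apply hγ h3, k, hk, h3⟩

theorem nw_sub {r : W} (hr : rep cs h r (sr l) = sr l) : NW cs h r ⊆ RGD.PosNe cs h l := fun x hx =>
  ⟨hx.1, hx.2.1, fun e => (isRoot_sr cs h l).not_pos_neg (sr_nonneg l) (by
    have := hx.2.2
    rwa [e, hr] at this)⟩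

theorem act_posNe {r : W} (hr : rep cs h r (sr l) = sr l) {x : I → ℤ} (hx : x ∈ RGD.PosNe cs h l)
    (h0 : 0 ≤ rep cs h r x) : rep cs h r x ∈ RGD.PosNe cs h l :=
  ⟨hx.1.act r, h0, fun e => hx.2.2 (rep_injective_apply cs h r (e.trans hr.symm))⟩

variable (R) in
/-- `V = V_+ V_-` -/
theorem exists_split {r : W} (hr : rep cs h r (sr l) = sr l) {g : Y} (hg : Rp cs R.nsys r g) {u : Y}
    (hu : u ∈ VV cs h X l) : ∃ b, g * b * g⁻¹ ∈ VV cs h X l ∧ ∃ c ∈ RGD.Sup X (NW cs h r), u = b * c := by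
  obtain ⟨b, hb, c, hc, rfl⟩ := exists_PW_NW R r (V_le_U l hu)
  obtain ⟨b', hb', x, hx, rfl⟩ := exists_mul_PW R (i := l) (by rw [hr]; exact sr_nonneg l) hb
  have h1 : b' ∈ VV cs h X l :=
    RGD.Sup_mono (S' := RGD.PosNe cs h l) (fun y hy => ⟨hy.1.1, hy.1.2.1, hy.2⟩) hb'
  have h2 : c ∈ VV cs h X l := RGD.Sup_mono (nw_sub hr) hc
  have h3 : x = 1 := eq_one_of_mem_V R hx (by
    have : x = b'⁻¹ * (b' * x * c) * c⁻¹ := by group
    rw [this]
    exact mul_mem (mul_mem (inv_mem h1) hu) (inv_mem h2))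
  rw [h3, mul_one]
  exact ⟨b', conj_mem_Sup R hg (fun y hy => hy.1.1)
    (fun y hy => act_posNe hr ⟨hy.1.1, hy.1.2.1, hy.2⟩ hy.1.2.2) hb', c, hc, rfl⟩

/-! ### the idempotent of `V` -/

theorem dl_mul_eV {u : Y} (hu : u ∈ VV cs h X l) : dl u * eV cs h X l = eV cs h X l := dl_mul_av_one hu

theorem eV_mul_dl {u : Y} (hu : u ∈ VV cs h X l) : eV cs h X l * dl u = eV cs h X l := av_one_mul_dl hu

theorem eV_mul_eV : eV cs h X l * eV cs h X l = eV cs h X l := av_mul_av _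

theorem dl_comm_eV {g : Y} (hg : g ∈ Subgroup.normalizer (VV cs h X l : Set Y)) :
    dl g * eV cs h X l = eV cs h X l * dl g :=
  dl_comm_av _ hg fun _ _ => rfl

variable (R) in
include R in
theorem t_comm_eV {t : Y} (ht : t ∈ T) : dl t * eV cs h X l = eV cs h X l * dl t :=
  dl_comm_eV (R.T_le_normalizer (fun _ hx => hx.1) ht)

variable (R) in
/-- `eV g eV = eV g eQ` -/
theorem eV_g_eV {r : W} (hr : rep cs h r (sr l) = sr l) {g : Y} (hg : Rp cs R.nsys r g) {Q : Subgroup Y}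
    (h1 : RGD.Sup X (NW cs h r) ≤ Q) (h2 : Q ≤ VV cs h X l) :
    eV cs h X l * dl g * eV cs h X l = eV cs h X l * dl g * av (P := Q) 1 := by
  have h3 : eV cs h X l * av (P := Q) 1 = eV cs h X l :=
    mul_av_eq _ fun u => by rw [eV_mul_dl (h2 u.2), MonoidHom.one_apply, Units.val_one, one_smul]
  nth_rewrite 2 [← h3]
  rw [← mul_assoc]
  refine avg_one fun u hu => ?_
  obtain ⟨b, hb, c, hc, rfl⟩ := exists_split R hr hg hu
  have e : dl g * dl (b * c) = dl (g * b * g⁻¹) * dl g * dl c := by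
    rw [← dl_mul, ← dl_mul, ← dl_mul]; congr 1; group
  rw [mul_assoc (eV cs h X l), e, ← mul_assoc, ← mul_assoc, eV_mul_dl hb, mul_assoc, dl_mul_av_one (h1 hc)]

theorem mem_CS {g : Y} : g ∈ CS Φ ↔ ∀ s, Φ s * g = g * Φ s := by
  rw [CS, Subgroup.mem_centralizer_iff]
  exact ⟨fun H s => H _ ⟨s, rfl⟩, fun H _ ⟨s, e⟩ => e ▸ H s⟩

theorem cs_comm {g : Y} (hg : g ∈ CS Φ) (a : Al (S2 F)) : dl g * mp Φ a = mp Φ a * dl g := by
  induction a using al_induction with
  | hd s => rw [mp_dl, ← dl_mul, ← dl_mul, mem_CS.1 hg]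
  | ha a b ha hb => rw [map_add, mul_add, add_mul, ha, hb]
  | hs c a ha => rw [map_smul, mul_smul_comm, smul_mul_assoc, ha]

namespace Nd

variable (N : Nd R l Φ)

include N

theorem x_mem (s : F) : Φ (SL2.x s) ∈ X (sr l) := (N.mem _).2 ⟨s, rfl⟩

theorem phi_mem (s : S2 F) : Φ s ∈ LJ cs h T X {l} := by
  have hx : ∀ r, Φ (SL2.x r) ∈ LJ cs h T X {l} := fun r =>
    X_le_LJ (PosJ_subset _ (sr_mem_PosJ (Set.mem_singleton l))) (N.x_mem r)
  have hw : Φ SL2.wel ∈ LJ cs h T X {l} :=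
    rp_mem_LJ R (Subgroup.subset_closure ⟨l, Set.mem_singleton l, rfl⟩) N.wel
  rcases (SL2.data F).bruhat s with ⟨r, _, ⟨u, rfl⟩, rfl⟩ | ⟨r, r', _, ⟨u, rfl⟩, rfl⟩
  · rw [map_mul]
    exact mul_mem (hx r) (T_le_LJ (N.tor u))
  · rw [map_mul, map_mul, map_mul]
    exact mul_mem (mul_mem (mul_mem (hx r) hw) (T_le_LJ (N.tor u))) (hx r')

theorem norm (s : S2 F) : Φ s ∈ Subgroup.normalizer (VV cs h X l : Set Y) := by
  rw [VV_eq]
  exact LJ_le_normalizer_VJ R _ (N.phi_mem s)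

theorem mp_comm (a : Al (S2 F)) : mp Φ a * eV cs h X l = eV cs h X l * mp Φ a := by
  induction a using al_induction with
  | hd s => rw [mp_dl, dl_comm_eV (N.norm s)]
  | ha a b ha hb => rw [map_add, mul_add, add_mul, ha, hb]
  | hs c a ha => rw [map_smul, mul_smul_comm, smul_mul_assoc, ha]

/-- the parametrisation of the root group -/
noncomputable def xl : Multiplicative F →* ↥(X (sr l)) := (Φ.comp (SL2.data F).xh).codRestrict _ fun s => N.x_mem s.toAdd

theorem xl_bij : Function.Bijective N.xl := by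
  constructor
  · rw [injective_iff_map_eq_one]
    intro s hs
    exact N.inj s.toAdd (congrArg Subtype.val hs)
  · rintro ⟨u, hu⟩
    obtain ⟨s, rfl⟩ := (N.mem u).1 hu
    exact ⟨Multiplicative.ofAdd s, rfl⟩

theorem mp_eph (ψ : ↥(X (sr l)) →* ℂˣ) : mp Φ (eph (ψ.comp N.xl)) = av ψ := by
  have := Fintype.ofFinite ↥(X (sr l))
  rw [eph, av_def, map_smul, map_sum, ← Nat.card_eq_of_bijective _ N.xl_bij, Nat.card_eq_fintype_card,
    Fintype.card_multiplicative]
  congr 1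
  refine Fintype.sum_equiv (Multiplicative.ofAdd.trans (Equiv.ofBijective _ N.xl_bij)) _ _ fun r => ?_
  rw [map_smul, mp_dl]
  rfl

/-- cuspidality -/
theorem kill0 {f : Al (S2 F)} {φ : Multiplicative F →* ℂˣ} (C : Cusp f φ) (s : S2 F) {w : W} {k : Y}
    (hk : Rp cs R.nsys w k) (hw : rep cs h w⁻¹ (sr l) ∈ RGD.PosNe cs h l) :
    mp Φ f * dl (Φ s) * dl k * eV cs h X l = 0 := by
  have h1 : av (P := X (sr l)) 1 * (dl k * eV cs h X l) = dl k * eV cs h X l := av_mul_eq _ fun u => by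
    have h2 : k⁻¹ * u * k ∈ VV cs h X l := RGD.le_Sup hw (R.conj_mem' hk (isRoot_sr cs h l) u.2)
    have e : dl (u : Y) * dl k = dl k * dl (k⁻¹ * u * k) := by rw [← dl_mul, ← dl_mul]; congr 1; group
    rw [← mul_assoc, e, mul_assoc, dl_mul_eV h2, MonoidHom.one_apply, Units.val_one, one_smul]
  rw [mul_assoc, ← h1, ← N.mp_eph, ← mul_assoc, ← mp_dl, ← map_mul, ← map_mul]
  change mp Φ (f * dl s * eph 1) * _ = 0
  rw [C.cusp, map_zero, zero_mul]

theorem kill {f : Al (S2 F)} {φ : Multiplicative F →* ℂˣ} (C : Cusp f φ) (s : S2 F) {w : W} {k : Y}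
    (hk : Rp cs R.nsys w k) (h1 : rep cs h w (sr l) ≠ sr l) (h2 : rep cs h w (sr l) ≠ -sr l) :
    mp Φ f * dl (Φ s) * dl k * eV cs h X l = 0 := by
  have hr := (isRoot_sr cs h l).act w⁻¹
  rcases hr.pos_or_neg with h0 | h0
  · exact N.kill0 C s hk ⟨hr, h0, fun e => h1 (by nth_rewrite 1 [← e]; rw [rep_apply_inv])⟩
  · have h3 := N.kill0 C (s * SL2.wel) (N.wel.inv.mul hk) (by
      rw [mul_inv_rev, inv_inv, rep_mul_apply, rep_simple_sr, map_neg]
      refine ⟨hr.neg, neg_nonneg.2 h0, fun e => h2 ?_⟩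
      nth_rewrite 1 [← e]
      rw [map_neg, rep_apply_inv])
    rwa [map_mul, dl_mul, dl_mul, mul_assoc (mp Φ f), mul_assoc (dl (Φ s)),
      ← mul_assoc (dl (Φ SL2.wel)), dl_mul_inv, one_mul, ← mul_assoc (mp Φ f)] at h3

end Nd

theorem Cusp.right {f : Al (S2 F)} {φ : Multiplicative F →* ℂˣ} (C : Cusp f φ) (s : S2 F) :
    ∃ c : ℂ, f * dl s * f = c • f := by
  obtain ⟨c, hc⟩ := C.one s
  refine ⟨c, ?_⟩
  nth_rewrite 2 [← C.left]
  rw [← mul_assoc, hc, smul_mul_assoc, C.idem]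

/-! ### the data -/

variable {AT : I → I → ℤ} {hT : IsCartan M AT} {J W' : Type} [Fintype J] [DecidableEq J] [Group W']
  {M' : CoxeterMatrix J} {cs' : CoxeterSystem M' W'} {A' : J → J → ℤ} {h' : IsCartan M' A'} {β : J → I → ℤ}
  {w : J → W} {i : J → I} {g : J → Y}

/-- the data of the second series -/
structure Gd (R : RGD cs h p T n X) (hT : IsCartan M AT) (l : I) (Φ : S2 F →* Y) (cs' : CoxeterSystem M' W')
    (h' : IsCartan M' A') (β : J → I → ℤ) (w : J → W) (i : J → I) (g : J → Y) : Prop where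
  nd : Nd R l Φ
  sb : Sb cs h hT l cs' h' β w i
  rp : ∀ j, Rp cs R.nsys (rfl' cs (w j) (i j)) (g j)
  cen : ∀ j, g j ∈ CS Φ
  sh : ∀ j, w j = 1 → g j = n (i j) ∧ X (sr (i j)) ≤ CS Φ

namespace Gd

variable (G : Gd R hT l Φ cs' h' β w i g)

include G

/-- the embedding of the relative Weyl group -/
def ph : W' →* W := G.sb.sys.phi cs' h'

theorem ph_simple (j : J) : G.ph (cs'.simple j) = rfl' cs (w j) (i j) := G.sb.sys.phi_simple cs' h' j

theorem ph_fix (v : W') : rep cs h (G.ph v) (sr l) = sr l := by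
  induction v using cs'.simple_induction_left with
  | one => rw [map_one, map_one, Module.End.one_apply]
  | mul_simple_left v j ih => rw [map_mul, rep_mul_apply, ih, ph_simple, G.sb.fix]

theorem ph_beta (v : W') (j : J) : rep cs h (G.ph v) (β j) = iota β (rep cs' h' v (sr j)) := by
  rw [← G.sb.sys.rep_phi cs' h', iota_sr, ph]

theorem iota_nonneg {c : J → ℤ} (hc : 0 ≤ c) : 0 ≤ iota β c := by
  rw [iota_apply]
  exact Finset.sum_nonneg fun j _ => smul_nonneg (hc j) (G.sb.pos j)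

theorem beta_mem (j : J) : β j ∈ RGD.PosNe cs h l := by
  refine ⟨G.sb.sys.isRoot_beta j, G.sb.pos j, fun e => ?_⟩
  have h1 := G.ph_beta (cs'.simple j) j
  rw [rep_simple_sr, map_neg, iota_sr, e, G.ph_fix] at h1
  exact (isRoot_sr cs h l).not_pos_neg (sr_nonneg l) (by rw [h1]; exact neg_nonpos.2 (sr_nonneg l))

/-- the relative normaliser -/
def Np : Subgroup (W' × Y) where
  carrier := {a | Rp cs R.nsys (G.ph a.1) a.2 ∧ a.2 ∈ CS Φ}
  one_mem' := ⟨by rw [Prod.fst_one, map_one]; exact rp_one, one_mem _⟩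
  mul_mem' := fun ha hb => ⟨by rw [Prod.fst_mul, map_mul]; exact ha.1.mul hb.1, mul_mem ha.2 hb.2⟩
  inv_mem' := fun ha => ⟨by rw [Prod.fst_inv, map_inv]; exact ha.1.inv, inv_mem ha.2⟩

/-- the simple reflections -/
def nn (j : J) : G.Np := ⟨(cs'.simple j, g j), by rw [ph_simple]; exact G.rp j, G.cen j⟩

/-- the elements of the torus -/
def kt {t : Y} (ht : t ∈ T) (hc : t ∈ CS Φ) : G.Np := ⟨(1, t), by rw [map_one]; exact rp_of_mem ht, hc⟩

theorem exists_np (v : W') : ∃ a : G.Np, a.1.1 = v := by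
  induction v using cs'.simple_induction_left with
  | one => exact ⟨1, rfl⟩
  | mul_simple_left v j ih =>
    obtain ⟨a, rfl⟩ := ih
    exact ⟨G.nn j * a, rfl⟩

theorem mem_T {a : G.Np} (ha : a.1.1 = 1) : a.1.2 ∈ T := by
  have h1 := a.2.1
  rw [ha, map_one] at h1
  exact h1.mem_of_one

theorem rep_dec0 {v : W} {k : Y} (hk : Rp cs R.nsys v k) (hv : rep cs h v (sr l) = sr l) :
    ∃ (a : G.Np) (u : Fˣ), k = a.1.2 * Φ (SL2.tor u) ∧ v = G.ph a.1.1 := by
  obtain ⟨v, rfl⟩ := G.sb.stab v hv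
  obtain ⟨a, rfl⟩ := G.exists_np v
  have ht := a.2.1.unique hk
  obtain ⟨u, hu⟩ := G.nd.dec _ ht
  refine ⟨a * G.kt (mul_mem ht (inv_mem (G.nd.tor u))) hu, u, ?_, ?_⟩
  · show k = a.1.2 * (a.1.2⁻¹ * k * (Φ (SL2.tor u))⁻¹) * Φ (SL2.tor u)
    group
  · show _ = G.ph (a.1.1 * 1)
    rw [mul_one, ph]

theorem rep_dec {v : W} {k : Y} (hk : Rp cs R.nsys v k)
    (hv : rep cs h v (sr l) = sr l ∨ rep cs h v (sr l) = -sr l) :
    ∃ (a : G.Np) (s : S2 F), k = a.1.2 * Φ s ∧ (v = G.ph a.1.1 ∨ v = G.ph a.1.1 * cs.simple l) := by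
  rcases hv with hv | hv
  · obtain ⟨a, u, h1, h2⟩ := G.rep_dec0 hk hv
    exact ⟨a, _, h1, Or.inl h2⟩
  · obtain ⟨a, u, h1, h2⟩ := G.rep_dec0 (hk.mul G.nd.wel.inv) (by
      rw [cs.inv_simple, rep_mul_apply, rep_simple_sr, map_neg, hv, neg_neg])
    refine ⟨a, SL2.tor u * SL2.wel, ?_, Or.inr ?_⟩
    · rw [map_mul, ← mul_assoc, ← h1, inv_mul_cancel_right]
    · rw [← h2, inv_mul_cancel_right]

/-- the basis of the Hecke algebra -/
noncomputable def tt (f : Al (S2 F)) (a : G.Np) : Al Y := eV cs h X l * dl a.1.2 * eV cs h X l * mp Φ f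

theorem tt_one (f : Al (S2 F)) : G.tt f 1 = eV cs h X l * mp Φ f := by
  show eV cs h X l * dl 1 * eV cs h X l * mp Φ f = _
  rw [dl_one, mul_one, eV_mul_eV]

/-- the decomposition of an element of a cell -/
theorem cell_dec {v : W} {z : Y} (hz : Cell R.nsys cs h X v z) : ∃ a ∈ VV cs h X l, ∃ (s : F) (k : Y),
    Rp cs R.nsys v k ∧ ∃ u ∈ UU cs h X, z = a * Φ (SL2.x s) * k * u := by
  obtain ⟨b₁, hb₁, k, hk, b₂, hb₂, rfl⟩ := hz
  obtain ⟨a, ha, x, hx, t₁, ht₁, rfl⟩ := R.mem_B' l hb₁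
  obtain ⟨t₂, ht₂, u, hu, rfl⟩ := R.mem_B.1 hb₂
  obtain ⟨s, rfl⟩ := (G.nd.mem x).1 hx
  refine ⟨a, ha, s, t₁ * k * t₂, ?_, u, hu, by group⟩
  have := ((rp_of_mem (cs := cs) (hN := R.nsys) ht₁).mul hk).mul_mem_right ht₂
  rwa [one_mul] at this

variable {f : Al (S2 F)} {φ : Multiplicative F →* ℂˣ} (C : Cusp f φ)

include C

/-- **the double cosets** -/
theorem key {v : W} {z : Y} (hz : Cell R.nsys cs h X v z) :
    G.tt f 1 * dl z * G.tt f 1 = 0 ∨ ∃ (a : G.Np) (c : ℂ), G.tt f 1 * dl z * G.tt f 1 = c • G.tt f a ∧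
      (v = G.ph a.1.1 ∨ v = G.ph a.1.1 * cs.simple l) := by
  obtain ⟨a, ha, s, k, hk, u, hu, rfl⟩ := G.cell_dec hz
  obtain ⟨b, hb, x, hx, rfl⟩ := exists_vx R l hu
  obtain ⟨s', rfl⟩ := (G.nd.mem x).1 hx
  have e1 : G.tt f 1 * dl (a * Φ (SL2.x s) * k * (b * Φ (SL2.x s'))) * G.tt f 1 =
      eV cs h X l * (mp Φ f * dl (Φ (SL2.x s)) * dl k * eV cs h X l) * (dl (Φ (SL2.x s')) * mp Φ f) := by
    rw [tt_one, dl_mul, dl_mul, dl_mul, dl_mul]
    calc _ = (eV cs h X l * mp Φ f * dl a) * dl (Φ (SL2.x s)) * dl k * (dl b * (dl (Φ (SL2.x s')) * eV cs h X l)) *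
          mp Φ f := by simp only [mul_assoc]
      _ = _ := by
        rw [← G.nd.mp_comm, mul_assoc (mp Φ f), eV_mul_dl ha, G.nd.mp_comm, dl_comm_eV (G.nd.norm _),
          ← mul_assoc (dl b), dl_mul_eV hb]
        simp only [mul_assoc]
  rw [e1]
  by_cases hv : rep cs h v (sr l) = sr l ∨ rep cs h v (sr l) = -sr l
  · obtain ⟨a, s'', rfl, h2⟩ := G.rep_dec hk hv
    obtain ⟨c, hc⟩ := C.right (SL2.x s * s'' * SL2.x s')
    refine Or.inr ⟨a, c, ?_, h2⟩
    have e2 : mp Φ f * dl (Φ (SL2.x s)) * dl a.1.2 = dl a.1.2 * (mp Φ f * dl (Φ (SL2.x s))) := by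
      rw [← mp_dl, ← map_mul, cs_comm a.2.2]
    rw [tt, ← mul_smul_comm, ← map_smul, ← hc, dl_mul, ← mul_assoc (mp Φ f * _), e2, mul_assoc _ (dl (Φ s'')),
      dl_comm_eV (G.nd.norm _), mul_assoc (dl a.1.2), ← mul_assoc (mp Φ f * _), ← mp_dl Φ (SL2.x s), ← map_mul,
      G.nd.mp_comm]
    simp only [map_mul, dl_mul, mp_dl, mul_assoc]
  · rw [not_or] at hv
    left
    rw [G.nd.kill C _ hk hv.1 hv.2, mul_zero, zero_mul]

end Gd

end Cfsg.Agent.ODD.PS.C3
end

-- part: ODD/PS/C3H2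
section
/-!
# ODD / GAL: `PSp_{2n}(q)`, `q ≡ 3 mod 4`: the Hecke datum of the second series (helper6)
-/

set_option autoImplicit false
set_option linter.unusedSectionVars false

open Cfsg

namespace Cfsg.Agent.ODD.PS.C3

open CoxeterSystem Cfsg.Agent.ChevalleyStructure.CoxeterGeom Cfsg.Agent.Tits.Roots Cfsg.Agent.Tits.Core
  Cfsg.Agent.Nodes.Reps Cfsg.Agent.Nodes.BNOf Cfsg.Agent.Nodes.Bruhat Cfsg.Agent.Nodes.StabComb
  Cfsg.Agent.Nodes.SubComb Cfsg.Agent.Nodes.LeviDec Cfsg.Agent.Nodes.NormalForm Cfsg.Agent.Nodes.OppDec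
  Cfsg.Agent.H684.OQ Cfsg.Agent.H670

variable {I W Y : Type} [Fintype I] [DecidableEq I] [Group W] [Finite W] [Group Y] [Finite Y]
  {M : CoxeterMatrix I} {cs : CoxeterSystem M W} {A : I → I → ℤ} {h : IsCartan M A} {p : ℕ} {T : Subgroup Y}
  {n : I → Y} {X : (I → ℤ) → Subgroup Y} {R : RGD cs h p T n X} {F : Type} [Field F] [Fintype F] {l : I}
  {Φ : S2 F →* Y} {AT : I → I → ℤ} {hT : IsCartan M AT} {J W' : Type} [Fintype J] [DecidableEq J] [Group W']
  {M' : CoxeterMatrix J} {cs' : CoxeterSystem M' W'} {A' : J → J → ℤ} {h' : IsCartan M' A'} {β : J → I → ℤ}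
  {w : J → W} {i : J → I} {g : J → Y}

namespace Gd

variable (G : Gd R hT l Φ cs' h' β w i g)

include G

theorem ph_injective : Function.Injective G.ph := G.sb.sys.phi_injective cs' h'

theorem finite_W : Finite W' := Finite.of_injective _ G.ph_injective

theorem finite_Np : Finite G.Np := by
  have := G.finite_W
  infer_instance

theorem V_le_P : VV cs h X l ≤ PJ cs h T X {l} := by rw [VV_eq]; exact VJ_le_PJ

theorem phi_mem_P (s : S2 F) : Φ s ∈ PJ cs h T X {l} := LJ_le_PJ (G.nd.phi_mem s)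

theorem eq_one_of_mem_P {a : G.Np} (ha : a.1.2 ∈ PJ cs h T X {l}) : a.1.1 = 1 := by
  rcases Bldg.mem_WJ_singleton.1 ((cell_mem_PJ_iff R (cell_of_rp a.2.1)).1 ha) with h1 | h1
  · exact G.ph_injective (h1.trans (map_one _).symm)
  · have h2 := G.ph_fix a.1.1
    rw [h1, rep_simple_sr] at h2
    exact absurd (show sr l ≤ 0 by rw [← h2]; exact neg_nonpos.2 (sr_nonneg l))
      ((isRoot_sr cs h l).not_pos_neg (sr_nonneg l))

theorem descent {j : J} {K : Set I} (hr : rfl' cs (w j) (i j) ∈ WJ cs K) (hK : ∀ k, β k ∈ RootsJ cs h K → k = j)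
    {v : W'} (hv : G.ph v ∈ WJ cs K) (h1 : v ≠ 1) : v = cs'.simple j := by
  have key : ∀ v : W', G.ph v ∈ WJ cs K → v ≠ 1 → cs'.length (v * cs'.simple j) < cs'.length v := by
    intro v hv h1
    obtain ⟨k, hk⟩ := cs'.exists_rightDescent_of_ne_one h1
    have h2 : rep cs h (G.ph v) (β k) ≤ 0 := by
      have h3 := G.iota_nonneg (neg_nonneg.2 (nonpos_of_lt cs' h' v k hk))
      rw [map_neg, neg_nonneg] at h3
      rw [G.ph_beta]
      exact h3
    rcases mem_PosJ_or_NotJ K (G.beta_mem k).1 (G.beta_mem k).2.1 with h3 | h3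
    · rw [← hK k (PosJ_subset K h3)]
      exact hk
    · have h4 := NotJ.act hv h3
      exact absurd h2 (h4.1.not_pos_neg h4.2.1)
  by_contra h2
  have h3 := key v hv h1
  have h4 := key (v * cs'.simple j) (by rw [map_mul, ph_simple]; exact mul_mem hv hr) fun e => h2 (by
    rw [eq_inv_of_mul_eq_one_left e, cs'.inv_simple])
  rw [cs'.simple_mul_simple_cancel_right] at h4
  omega

theorem conj_VN {j : J} {y : Y} (hy : y ∈ RGD.Sup X (NW cs h (rfl' cs (w j) (i j)))) :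
    g j * y * (g j)⁻¹ ∈ VNJ cs h X {l} := by
  refine conj_mem_Sup R (G.rp j) (S' := NotNJ cs h {l}) (fun x hx => hx.1) (fun x hx => ?_) hy
  show -_ ∈ NotJ cs h {l}
  rw [← posNe_eq]
  refine ⟨(hx.1.act _).neg, neg_nonneg.2 hx.2.2, fun e => ?_⟩
  rw [← G.sb.fix j, ← map_neg] at e
  have h1 := rep_injective_apply cs h _ e
  exact (isRoot_sr cs h l).not_pos_neg (sr_nonneg l) (by rw [← h1]; exact neg_nonpos.2 hx.2.1)

theorem conj_LJ {j : J} {K : Set I} (hl : l ∈ K) (hr : rfl' cs (w j) (i j) ∈ WJ cs K) {y : Y}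
    (hy : y ∈ RGD.Sup X (NW cs h (rfl' cs (w j) (i j)))) : g j * y * (g j)⁻¹ ∈ LJ cs h T X K := by
  have h1 := rp_mem_LJ R hr (G.rp j)
  refine mul_mem (mul_mem h1 (RGD.Sup_le (fun x hx => X_le_LJ ⟨hx.1, fun k hk => ?_⟩) hy)) (inv_mem h1)
  obtain ⟨m, c, hm, e⟩ := G.sb.inv j x hx.1 hx.2.1 hx.2.2
  have h2 := G.ph_beta (cs'.simple j) j
  rw [rep_simple_sr, map_neg, iota_sr, ph_simple] at h2
  have h3 := Tits.RootComb.rep_apply_of_mem cs h hr (β j) hk
  rw [h2, Pi.neg_apply] at h3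
  have h4 := congrFun e k
  rw [Pi.add_apply, Pi.smul_apply, Pi.smul_apply, sr_ne (fun e2 : k = l => hk (e2 ▸ hl)), smul_zero, add_zero,
    smul_eq_mul, show β j k = 0 by omega] at h4
  exact (mul_eq_zero.1 h4).resolve_left hm.ne'

variable {f : Al (S2 F)} {φ : Multiplicative F →* ℂˣ} (C : Cusp f φ)

include C

theorem f_mul_f : mp Φ f * mp Φ f = mp Φ f := by rw [← map_mul, C.idem]

theorem tt_mul (a b : G.Np) : G.tt f a * G.tt f b =
    eV cs h X l * dl a.1.2 * eV cs h X l * dl b.1.2 * eV cs h X l * mp Φ f := by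
  rw [tt, tt, mul_assoc _ (mp Φ f), ← mul_assoc (mp Φ f), ← mul_assoc (mp Φ f), ← mul_assoc (mp Φ f), G.nd.mp_comm,
    mul_assoc _ (mp Φ f), ← cs_comm b.2.2, mul_assoc _ (_ * mp Φ f), mul_assoc _ (mp Φ f), G.nd.mp_comm]
  simp only [mul_assoc]
  rw [G.f_mul_f C, ← mul_assoc (eV cs h X l) (eV cs h X l), eV_mul_eV]

theorem tt_eq (a : G.Np) : G.tt f 1 * dl a.1.2 * G.tt f 1 = G.tt f a := by
  rw [tt_one, tt, mul_assoc _ (mp Φ f), ← cs_comm a.2.2]
  simp only [mul_assoc]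
  rw [← mul_assoc (mp Φ f), G.nd.mp_comm, mul_assoc, G.f_mul_f C]

theorem tt_left (a b : G.Np) (ha : a.1.1 = 1) : G.tt f (a * b) = G.tt f a * G.tt f b := by
  rw [G.tt_mul C, mul_assoc (eV cs h X l) (dl a.1.2), t_comm_eV R (G.mem_T ha), ← mul_assoc (eV cs h X l), eV_mul_eV,
    mul_assoc (eV cs h X l) (dl a.1.2), ← dl_mul]
  rfl

theorem tt_right (a b : G.Np) (hb : b.1.1 = 1) : G.tt f (a * b) = G.tt f a * G.tt f b := by
  rw [G.tt_mul C, mul_assoc _ (eV cs h X l) (dl b.1.2), ← t_comm_eV R (G.mem_T hb), mul_assoc _ (_ * eV cs h X l),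
    mul_assoc (dl b.1.2), eV_mul_eV, ← mul_assoc, mul_assoc (eV cs h X l) (dl a.1.2), ← dl_mul]
  rfl

theorem tt_add (j : J) (a : G.Np) (hl : cs'.length a.1.1 < cs'.length (cs'.simple j * a.1.1)) :
    G.tt f (G.nn j) * G.tt f a = G.tt f (G.nn j * a) := by
  have h1 : 0 ≤ rep cs' h' a.1.1⁻¹ (sr j) := nonneg_of_lt cs' h' _ j (by
    rw [← cs'.length_inv (_ * _), mul_inv_rev, inv_inv, cs'.inv_simple, cs'.length_inv]
    exact hl)
  have h2 : rep cs h (G.ph a.1.1)⁻¹ (β j) ∈ RGD.PosNe cs h l := by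
    rw [← map_inv]
    exact act_posNe (G.ph_fix _) (G.beta_mem j) (by rw [G.ph_beta]; exact G.iota_nonneg h1)
  have h3 : av (P := RGD.Sup X (NW cs h (rfl' cs (w j) (i j)))) 1 * (dl a.1.2 * eV cs h X l) =
      dl a.1.2 * eV cs h X l := av_mul_eq _ fun u => by
    have h4 : a.1.2⁻¹ * u * a.1.2 ∈ VV cs h X l := by
      refine conj_mem_Sup' R a.2.1 (fun x hx => hx.1) (fun x hx => ?_) u.2
      obtain ⟨m, c, hm, e⟩ := G.sb.inv j x hx.1 hx.2.1 hx.2.2
      refine posNe_of h2 (hx.1.act _) hm (c := c) ?_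
      rw [← map_zsmul, e, map_add, map_zsmul, ← map_inv, G.ph_fix]
    have e : dl (u : Y) * dl a.1.2 = dl a.1.2 * dl (a.1.2⁻¹ * u * a.1.2) := by
      rw [← dl_mul, ← dl_mul]; congr 1; group
    rw [← mul_assoc, e, mul_assoc, dl_mul_eV h4, MonoidHom.one_apply, Units.val_one, one_smul]
  rw [G.tt_mul C]
  change eV cs h X l * dl (g j) * _ * _ * _ * _ = eV cs h X l * dl (g j * a.1.2) * _ * _
  rw [eV_g_eV R (G.sb.fix j) (G.rp j) le_rfl (RGD.Sup_mono (nw_sub (G.sb.fix j))), mul_assoc _ (dl a.1.2),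
    mul_assoc _ (av 1), h3, dl_mul]
  simp only [mul_assoc]

open Classical in
theorem tt_quad (j : J) {Q : Subgroup Y} [Fintype Q] (h1 : RGD.Sup X (NW cs h (rfl' cs (w j) (i j))) ≤ Q)
    (h2 : Q ≤ VV cs h X l) : G.tt f (G.nn j) * G.tt f (G.nn j)⁻¹ = (Nat.card Q : ℂ)⁻¹ •
      (G.tt f 1 + ∑ y ∈ Finset.univ.erase (1 : Q), G.tt f 1 * dl (g j * y * (g j)⁻¹) * G.tt f 1) := by
  have h3 : G.tt f (G.nn j) * G.tt f (G.nn j)⁻¹ =
      mp Φ f * (eV cs h X l * dl (g j) * eV cs h X l) * (dl (g j)⁻¹ * G.tt f 1) := by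
    rw [← G.tt_eq C (G.nn j)⁻¹, ← mul_assoc, ← mul_assoc, ← G.tt_right C _ 1 rfl, mul_one, ← G.tt_eq C (G.nn j),
      tt_one]
    change eV cs h X l * mp Φ f * dl (g j) * (eV cs h X l * mp Φ f) * dl (g j)⁻¹ * (eV cs h X l * mp Φ f) = _
    calc _ = eV cs h X l * mp Φ f * dl (g j) * eV cs h X l * (mp Φ f * dl (g j)⁻¹ * eV cs h X l) * mp Φ f := by
          simp only [mul_assoc]
      _ = _ := by
        rw [← cs_comm (inv_mem (G.cen j)), mul_assoc (dl _), G.nd.mp_comm, ← G.nd.mp_comm f]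
        simp only [mul_assoc]
        rw [← mul_assoc (mp Φ f) (eV cs h X l) (mp Φ f), G.nd.mp_comm, mul_assoc, G.f_mul_f C]
  have h4 : G.tt f 1 = G.tt f 1 * dl (g j * (1 : Q) * (g j)⁻¹) * G.tt f 1 := by
    rw [Subgroup.coe_one, mul_one, mul_inv_cancel, dl_one, mul_one, ← G.tt_left C 1 1 rfl, mul_one]
  nth_rewrite 1 [h4]
  rw [Finset.add_sum_erase _ (fun y : Q => G.tt f 1 * dl (g j * y * (g j)⁻¹) * G.tt f 1) (Finset.mem_univ 1), h3,
    eV_g_eV R (G.sb.fix j) (G.rp j) h1 h2, av_def, mul_smul_comm, mul_smul_comm, smul_mul_assoc, Finset.mul_sum,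
    Finset.mul_sum, Finset.sum_mul]
  refine congrArg _ (Finset.sum_congr rfl fun y _ => ?_)
  rw [MonoidHom.one_apply, inv_one, Units.val_one, one_smul, dl_mul, dl_mul]
  nth_rewrite 2 [tt_one]
  rw [← G.nd.mp_comm]
  simp only [mul_assoc]

theorem tt_su {a : G.Np} (ha : a.1.1 = 1) : G.tt f a ∈ Su (PJ cs h T X {l}) :=
  mul_mem (mul_mem (mul_mem (av_mem_su G.V_le_P _) (dl_mem_su (LJ_le_PJ (T_le_LJ (G.mem_T ha)))))
    (av_mem_su G.V_le_P _)) (mp_mem_su G.phi_mem_P f)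

/-- **the Hecke datum** -/
noncomputable def dat : AH.Dat cs' G.Np (Al Y) where
  π := (MonoidHom.fst W' Y).comp G.Np.subtype
  n := G.nn
  π_n _ := rfl
  comm a b ha hb := Subtype.ext (Prod.ext (by
    show a.1.1 * b.1.1 = b.1.1 * a.1.1
    rw [show a.1.1 = 1 from ha, one_mul, mul_one]) (G.nd.comm _ (G.mem_T ha) _ (G.mem_T hb)))
  t := G.tt f
  t_left a b ha := G.tt_left C a b ha
  t_right a b hb := G.tt_right C a b hb
  add := G.tt_add C
  quad j := by
    classical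
    have := Fintype.ofFinite ↥(RGD.Sup X (NW cs h (rfl' cs (w j) (i j))))
    refine ⟨_, inv_ne_zero (card_ne (RGD.Sup X (NW cs h (rfl' cs (w j) (i j))))), ?_⟩
    rw [G.tt_quad C j le_rfl (RGD.Sup_mono (nw_sub (G.sb.fix j))), ← smul_sub, add_sub_cancel_left]
    refine Submodule.smul_mem _ _ (Submodule.sum_mem _ fun y hy => ?_)
    obtain ⟨K, hl, hr, hK⟩ := G.sb.par j
    obtain ⟨v, hv, hz⟩ := (mem_LJ R).1 (G.conj_LJ hl hr y.2)
    rcases G.key C hz.cell with h0 | ⟨a, c, e, h1⟩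
    · rw [h0]
      exact zero_mem _
    · rw [e]
      refine Submodule.smul_mem _ _ (Submodule.subset_span ⟨a, G.descent hr hK ?_ fun h2 => ?_, rfl⟩)
      · rcases h1 with rfl | rfl
        · exact hv
        · exact (mul_mem_cancel_right (show cs.simple l ∈ WJ cs K from Subgroup.subset_closure ⟨l, hl, rfl⟩)).1 hv
      · have h3 : v ∈ WJ cs {l} := by
          rw [show a.1.1 = 1 from h2, map_one, one_mul] at h1
          exact Bldg.mem_WJ_singleton.2 h1
        have h4 := eq_one_of_mem_VNJ_of_mem_PJ R (G.conj_VN y.2) ((cell_mem_PJ_iff R hz.cell).2 h3)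
        refine (Finset.mem_erase.1 hy).1 (Subtype.ext ?_)
        rwa [mul_inv_eq_one, mul_eq_left] at h4
  span x := by
    induction x using al_induction with
    | hd y =>
      obtain ⟨v, hv⟩ := (mem_GG R).1 (show y ∈ GG cs h T X by rw [G.nd.top]; exact Subgroup.mem_top y)
      rcases G.key C hv with h0 | ⟨a, c, e, -⟩
      · rw [h0]
        exact zero_mem _
      · rw [e]
        exact Submodule.smul_mem _ _ (Submodule.subset_span ⟨a, rfl⟩)
    | ha a b ha hb => rw [mul_add, add_mul]; exact add_mem ha hb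
    | hs c a ha => rw [mul_smul_comm, smul_mul_assoc]; exact Submodule.smul_mem _ c ha
  tr0 a ha := by
    rw [AH.trace_mulLeft, ← G.tt_eq C]
    exact mul_eq_zero_of_right _ (coeff_su (G.tt_su C rfl) (G.tt_su C rfl) fun h1 => ha (G.eq_one_of_mem_P h1))

theorem dat_t (a : G.Np) : (G.dat C).t a = G.tt f a := rfl

theorem dat_pi (a : G.Np) : (G.dat C).π a = a.1.1 := rfl

theorem dat_n (j : J) : (G.dat C).n j = G.nn j := rfl

end Gd

end Cfsg.Agent.ODD.PS.C3
end

-- part: ODD/PS/C3H3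
section
/-!
# ODD / GAL: `PSp_{2n}(q)`, `q ≡ 3 mod 4`: weights (helper6)

* `exists_fix_odd` : an involution fixes a weight of odd multiplicity (any abstract Hecke datum);
* `Gd.res`, `Gd.exists_ext` : the weights of the second series are restrictions of characters of `T`;
* `Gd.sq_mem` : the squares of the stabiliser are in the group generated by the good reflections.
-/

set_option autoImplicit false
set_option linter.unusedSectionVars false

open Cfsg

namespace Cfsg.Agent.ODD.PS.C3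

open CoxeterSystem Cfsg.Agent.ChevalleyStructure.CoxeterGeom Cfsg.Agent.Tits.Roots Cfsg.Agent.Tits.Core
  Cfsg.Agent.Nodes.Reps Cfsg.Agent.Nodes.BNOf Cfsg.Agent.Nodes.Bruhat Cfsg.Agent.Nodes.StabComb
  Cfsg.Agent.Nodes.SubComb Cfsg.Agent.Nodes.LeviDec Cfsg.Agent.Nodes.NormalForm Cfsg.Agent.Nodes.OppDec
  Cfsg.Agent.H684.OQ Cfsg.Agent.H670 Cfsg.Agent.H381.OQ

section generic

variable {I W : Type} [Group W] {M : CoxeterMatrix I} {cs : CoxeterSystem M W} {N : Type} [Group N] [Finite N]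
  {Y : Type} [Group Y] [Finite Y] (D : AH.Dat cs N (Al Y))

theorem sum_E [Fintype D.Wt] : ∑ ν : D.Wt, D.E ν = D.t 1 := by
  classical
  have := Fintype.ofFinite D.π.ker
  have hc : ∀ a b : D.π.ker, a * b = b * a := fun a b => Subtype.ext (D.comm _ _ a.2 b.2)
  simp only [D.E_def]
  rw [← Finset.smul_sum, Finset.sum_comm]
  simp only [← Finset.sum_smul, ← map_inv, Classification.BSW.Theta.sum_hom_apply hc, inv_eq_one]
  rw [Finset.sum_eq_single 1, if_pos rfl, smul_smul, inv_mul_cancel₀ D.card_ne, one_smul]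
  · rfl
  · intro b _ hb
    rw [if_neg hb, zero_smul]
  · intro h1
    exact absurd (Finset.mem_univ _) h1

theorem exists_mult {χ : Y → ℂ} (hχ : IsCharacter Y χ) :
    ∃ m : D.Wt → ℕ, (∀ ν, lin χ (D.E ν) = m ν) ∧ ∀ a ν, m (D.act a ν) = m ν := by
  obtain ⟨k, ρ, rfl⟩ := hχ
  have h1 : ∀ a ν, Module.finrank ℂ (LinearMap.range (ρ.asAlgebraHom (D.E ν))) ≤
      Module.finrank ℂ (LinearMap.range (ρ.asAlgebraHom (D.E (D.act a ν)))) := fun a ν => by
    obtain ⟨y, hy⟩ := D.exists_inv a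
    have e : D.E ν = y * (D.E (D.act a ν) * D.t a) := by rw [← D.t_E, ← mul_assoc, hy, D.one_mul_E]
    rw [e, map_mul, map_mul, Module.End.mul_eq_comp, LinearMap.range_comp]
    exact (Submodule.finrank_map_le _ _).trans (Submodule.finrank_mono (LinearMap.range_comp_le_range _ _))
  refine ⟨fun ν => Module.finrank ℂ (LinearMap.range (ρ.asAlgebraHom (D.E ν))), fun ν => ?_, fun a ν => ?_⟩
  · rw [AH.lin_character]
    exact ((LinearMap.isProj_range_iff_isIdempotentElem _).2 (by rw [IsIdempotentElem, ← map_mul, D.E_mul_E])).trace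
  · refine le_antisymm ?_ (h1 a ν)
    have h2 := h1 a⁻¹ (D.act a ν)
    rwa [← D.act_mul, inv_mul_cancel, D.act_one] at h2

/-- an involution fixes a weight of odd multiplicity -/
theorem exists_fix_odd {χ : Y → ℂ} (hχ : IsCharacter Y χ) {a : N} (ha : D.π (a * a) = 1) (S : D.Wt → Prop)
    (hS : ∀ ν, S ν → S (D.act a ν)) {z : Al Y} (h1 : ∀ ν, S ν → D.E ν * z = D.E ν) (h0 : ∀ ν, ¬ S ν → D.E ν * z = 0)
    (hodd : ∃ d : ℕ, Odd d ∧ lin χ (D.t 1 * z) = d) :
    ∃ ν, S ν ∧ D.act a ν = ν ∧ ∃ m : ℕ, Odd m ∧ lin χ (D.E ν) = m := by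
  classical
  let _ : CommGroup D.π.ker :=
    { (inferInstance : Group D.π.ker) with mul_comm := fun a b => Subtype.ext (D.comm _ _ a.2 b.2) }
  have hfin : Finite D.Wt := by
    obtain ⟨e⟩ := CommGroup.monoidHom_mulEquiv_of_hasEnoughRootsOfUnity D.π.ker ℂ
    exact Finite.of_equiv _ e.symm.toEquiv
  have := Fintype.ofFinite D.Wt
  obtain ⟨m, hm, hact⟩ := exists_mult D hχ
  obtain ⟨d, hd, e⟩ := hodd
  have hinv : ∀ ν, D.act a (D.act a ν) = ν := fun ν => by rw [← D.act_mul, D.act_ker ha]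
  have hS' : ∀ ν, S (D.act a ν) ↔ S ν := fun ν => ⟨fun h => hinv ν ▸ hS _ h, hS ν⟩
  have h2 : ∀ ν, lin χ (D.E ν * z) = ((if S ν then m ν else 0 : ℕ) : ℂ) := fun ν => by
    split_ifs with h
    · rw [h1 ν h, hm]
    · rw [h0 ν h, map_zero, Nat.cast_zero]
  rw [← sum_E, Finset.sum_mul, map_sum, Finset.sum_congr rfl fun ν _ => h2 ν, ← Nat.cast_sum, Nat.cast_inj] at e
  by_contra hcon
  push Not at hcon
  have h3 : ∑ ν : D.Wt, ((if S ν then m ν else 0 : ℕ) : ZMod 2) = 0 := by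
    refine Finset.sum_involution (fun ν _ => D.act a ν) (fun ν _ => ?_) (fun ν _ h4 h5 => h4 ?_)
      (fun _ _ => Finset.mem_univ _) fun ν _ => hinv ν
    · rw [hact, if_congr (hS' ν) rfl rfl]
      exact CharTwo.add_self_eq_zero _
    · split_ifs with h
      · exact (ZMod.natCast_eq_zero_iff_even).2 (Nat.not_odd_iff_even.1 fun h6 => hcon ν h h5 _ h6 (hm ν))
      · exact Nat.cast_zero
  rw [← Nat.cast_sum, e, ZMod.natCast_eq_zero_iff_even] at h3
  exact Nat.not_even_iff_odd.2 hd h3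

end generic

variable {I W Y : Type} [Fintype I] [DecidableEq I] [Group W] [Finite W] [Group Y] [Finite Y]
  {M : CoxeterMatrix I} {cs : CoxeterSystem M W} {A : I → I → ℤ} {h : IsCartan M A} {p : ℕ} {T : Subgroup Y}
  {n : I → Y} {X : (I → ℤ) → Subgroup Y} {R : RGD cs h p T n X} {F : Type} [Field F] [Fintype F] {l : I}
  {Φ : S2 F →* Y} {AT : I → I → ℤ} {hT : IsCartan M AT} {J W' : Type} [Fintype J] [DecidableEq J] [Group W']
  [Finite W'] {M' : CoxeterMatrix J} {cs' : CoxeterSystem M' W'} {A' : J → J → ℤ} {h' : IsCartan M' A'}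
  {β : J → I → ℤ} {w : J → W} {i : J → I} {g : J → Y}

theorem tor_neg_mem : Φ (SL2.tor (-1)) ∈ CS Φ := mem_CS.2 fun s => by
  rw [← map_mul, ← map_mul]
  congr 1
  apply SL2.ext4 <;> simp [SL2.mul00, SL2.mul01, SL2.mul10, SL2.mul11, SL2.tor00, SL2.tor01, SL2.tor10, SL2.tor11]

namespace Nd

variable (N : Nd R l Φ)

include N

theorem sq_of_mem {u : Fˣ} (hu : Φ (SL2.tor u) ∈ CS Φ) : u ^ 2 = 1 := by
  have h1 := mem_CS.1 hu (SL2.x 1)
  rw [← map_mul, ← map_mul, SL2.tor_mul_x, map_mul, map_mul, mul_left_inj, mul_one] at h1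
  have h2 : Φ (SL2.x ((u : F) ^ 2 - 1)) = 1 := by
    have h3 : SL2.x ((u : F) ^ 2) = SL2.x ((u : F) ^ 2 - 1) * SL2.x 1 := by
      rw [← SL2.data_X, ← SL2.data_X, ← SL2.data_X, ← (SL2.data F).X_add, sub_add_cancel]
    rwa [h3, map_mul, right_eq_mul] at h1
  exact Units.ext (by rw [Units.val_pow_eq_pow_val, Units.val_one]; exact sub_eq_zero.1 (N.inj _ h2))

/-- the projection of `T` on the centraliser of the image of `Φ` -/
theorem exists_pr (h4 : Fintype.card F % 4 = 3) : ∃ π : ↥T →* ↥(T ⊓ CS Φ),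
    (∀ k (hk : k ∈ T ⊓ CS Φ), π ⟨k, hk.1⟩ = ⟨k, hk⟩) ∧ ∀ u, π ⟨Φ (SL2.tor u), N.tor u⟩ ^ 2 = 1 := by
  classical
  have hns : ¬ IsSquare (-1 : F) := fun h1 => FiniteField.isSquare_neg_one_iff.1 h1 h4
  have hch : ringChar F ≠ 2 := fun h1 => by
    have := FiniteField.even_card_iff_char_two.1 h1
    omega
  obtain ⟨π, h1, h2⟩ := exists_proj (P := T) (V := (Φ.comp (SL2.tor.comp (powMonoidHom 2))).range) (K := T ⊓ CS Φ)
    inf_le_left (by rintro _ ⟨u, rfl⟩; exact N.tor _) (fun k hk => Subgroup.centralizer_le_normalizer _ (by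
      rintro _ ⟨u, rfl⟩
      exact mem_CS.1 hk.2 _)) (fun t ht => by
      obtain ⟨u, hu⟩ := N.dec t ht
      have h3 : t * (Φ (SL2.tor u))⁻¹ ∈ T ⊓ CS Φ := ⟨T.mul_mem ht (T.inv_mem (N.tor u)), hu⟩
      have h5 : t = Φ (SL2.tor u) * (t * (Φ (SL2.tor u))⁻¹) := by rw [N.comm _ (N.tor u) _ h3.1, inv_mul_cancel_right]
      by_cases h6 : IsSquare (u : F)
      · obtain ⟨r, hr⟩ := h6
        have h7 : r ≠ 0 := fun h0 => u.ne_zero (by rw [hr, h0, mul_zero])
        refine ⟨_, ⟨Units.mk0 r h7, ?_⟩, _, h3, h5⟩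
        exact congrArg (fun v => Φ (SL2.tor v)) (Units.ext (by simp [hr, pow_two]))
      · have h7 : IsSquare (-(u : F)) := by
          have h8 := quadraticChar_neg_one_iff_not_isSquare.2 h6
          have h9 := quadraticChar_neg_one_iff_not_isSquare.2 hns
          refine (quadraticChar_one_iff_isSquare (neg_ne_zero.2 u.ne_zero)).1 ?_
          rw [← neg_one_mul, map_mul, h8, h9]
          norm_num
        obtain ⟨r, hr⟩ := h7
        have h8 : r ≠ 0 := fun h0 => neg_ne_zero.2 u.ne_zero (by rw [hr, h0, mul_zero])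
        refine ⟨Φ (SL2.tor (-u)), ⟨Units.mk0 r h8, ?_⟩, _, mul_mem ⟨N.tor (-1), tor_neg_mem⟩ h3, ?_⟩
        · exact congrArg (fun v => Φ (SL2.tor v)) (Units.ext (by simp [hr, pow_two]))
        · rw [← mul_assoc, ← map_mul, ← map_mul, mul_neg, mul_one, neg_neg]
          exact h5) (by
      rintro _ hk ⟨u, rfl⟩
      have h3 : (u ^ 2) ^ 2 = 1 := N.sq_of_mem hk.2
      have h5 : ((u : F) ^ 2) ^ 2 = 1 := by simpa only [_root_.sq_eq_one_iff, _root_.Units.val_eq_one, _root_.Units.val_eq_neg_one, _root_.Units.val_pow_eq_pow_val, _root_.Units.val_one] using congrArg Units.val h3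
      rcases sq_eq_one_iff.1 h5 with h6 | h6
      · have h7 : u ^ 2 = 1 := Units.ext (by simpa only [_root_.Units.val_pow_eq_pow_val, _root_.Units.val_one, _root_.sq_eq_one_iff, _root_.Units.val_eq_one, _root_.Units.val_eq_neg_one] using h6)
        show Φ (SL2.tor (u ^ 2)) = 1
        rw [h7, map_one, map_one]
      · exact absurd ⟨u, by rw [← h6, pow_two]⟩ hns)
  refine ⟨π, h1, fun u => ?_⟩
  rw [← map_pow, ← h2 _ ⟨u, rfl⟩]
  congr 1
  exact Subtype.ext (by simp)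

theorem cj_of {lam : ↥T →* ℂˣ} {v : W} {k : Y} (hk : Rp cs R.nsys v k)
    (h1 : ∀ t (ht : t ∈ T), t ∈ CS Φ → lam ⟨t, ht⟩ = lam ⟨k⁻¹ * t * k, conj_T' R hk ht⟩)
    (h2 : ∀ u, lam ⟨_, N.tor u⟩ = lam ⟨k⁻¹ * Φ (SL2.tor u) * k, conj_T' R hk (N.tor u)⟩) : Cj T lam lam k := by
  intro t ht ht'
  obtain ⟨u, hu⟩ := N.dec t ht
  have h3 := mul_mem ht (inv_mem (N.tor u))
  have e1 : (⟨t, ht⟩ : ↥T) = ⟨_, h3⟩ * ⟨_, N.tor u⟩ := Subtype.ext (inv_mul_cancel_right _ _).symm
  rw [e1, map_mul, h1 _ h3 hu, h2, ← map_mul]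
  congr 1
  apply Subtype.ext
  simp only [MulMemClass.mk_mul_mk]
  group

theorem wel_mem {lam : ↥T →* ℂˣ} (hl : ∀ u, lam ⟨_, N.tor u⟩ ^ 2 = 1) : cs.simple l ∈ Wst R lam := by
  refine inv_mem_iff.1 ⟨_, N.wel.inv, N.cj_of N.wel.inv (fun t ht hc => ?_) fun u => ?_⟩
  · congr 2
    rw [inv_inv, mem_CS.1 hc, mul_inv_cancel_right]
  · have e : (⟨_, conj_T' R N.wel.inv (N.tor u)⟩ : ↥T) = (⟨_, N.tor u⟩ : ↥T)⁻¹ := Subtype.ext (by
      show (Φ SL2.wel)⁻¹⁻¹ * Φ (SL2.tor u) * (Φ SL2.wel)⁻¹ = (Φ (SL2.tor u))⁻¹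
      rw [inv_inv, ← map_mul, SL2.wel_mul_tor, map_mul, mul_inv_cancel_right, map_inv, map_inv])
    rw [e, map_inv, eq_inv_iff_mul_eq_one, ← pow_two, hl]

end Nd

namespace Gd

variable (G : Gd R hT l Φ cs' h' β w i g) {f : Al (S2 F)} {φ : Multiplicative F →* ℂˣ} (C : Cusp f φ)

include G C

/-- the weight of a character of `T` -/
noncomputable def res (lam : ↥T →* ℂˣ) : (G.dat C).Wt :=
  lam.comp (((MonoidHom.snd W' Y).comp (G.Np.subtype.comp (G.dat C).π.ker.subtype)).codRestrict T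
    fun a => G.mem_T a.2)

theorem res_apply (lam : ↥T →* ℂˣ) (a : (G.dat C).π.ker) : G.res C lam a = lam ⟨a.1.1.2, G.mem_T a.2⟩ := rfl

theorem act_res (a : G.Np) (lam : ↥T →* ℂˣ) :
    (G.dat C).act a (G.res C lam) = G.res C (cjl a.2.1.mem_normalizer lam) := by
  ext b
  rw [AH.Dat.act_apply]
  rfl

theorem exists_ext (h4 : Fintype.card F % 4 = 3) (ν : (G.dat C).Wt) :
    ∃ lam : ↥T →* ℂˣ, G.res C lam = ν ∧ ∀ u, lam ⟨_, G.nd.tor u⟩ ^ 2 = 1 := by
  obtain ⟨π, h1, h2⟩ := G.nd.exists_pr h4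
  let κ : ↥(T ⊓ CS Φ) →* (G.dat C).π.ker :=
    { toFun := fun t => ⟨G.kt t.2.1 t.2.2, rfl⟩
      map_one' := rfl
      map_mul' := fun a b => Subtype.ext (Subtype.ext (Prod.ext (mul_one _).symm rfl)) }
  refine ⟨ν.comp (κ.comp π), ?_, fun u => ?_⟩
  · refine MonoidHom.ext fun a => ?_
    rw [res_apply, MonoidHom.comp_apply, MonoidHom.comp_apply, h1 _ ⟨G.mem_T a.2, a.1.2.2⟩]
    exact congrArg ν (Subtype.ext (Subtype.ext (Prod.ext (Eq.symm a.2) rfl)))
  · rw [MonoidHom.comp_apply, MonoidHom.comp_apply, ← map_pow, ← map_pow, h2, map_one, map_one]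

theorem ph_mem {lam : ↥T →* ℂˣ} {a : G.Np} (ha : a ∈ (G.dat C).Nl (G.res C lam)) : G.ph a.1.1 ∈ Wst R lam := by
  refine ⟨_, a.2.1, G.nd.cj_of a.2.1 (fun t ht hc => ?_) fun u => ?_⟩
  · have h1 := DFunLike.congr_fun ((G.act_res C a lam).symm.trans ha) ⟨G.kt ht hc, rfl⟩
    exact h1.symm
  · congr 2
    rw [mul_assoc, mem_CS.1 a.2.2, inv_mul_cancel_left]

theorem t1_mul_dl {u : Y} (hu : u ∈ VV cs h X l) : G.tt f 1 * dl u = G.tt f 1 := by
  rw [tt_one, ← G.nd.mp_comm, mul_assoc, eV_mul_dl hu]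

theorem dl_mul_t1 {u : Y} (hu : u ∈ VV cs h X l) : dl u * G.tt f 1 = G.tt f 1 := by
  rw [tt_one, ← mul_assoc, dl_mul_eV hu]

/-- the short nodes -/
theorem g0_short {j : J} (hj : w j = 1) {mu : ↥T →* ℂˣ} (hz : zet R (i j) mu ≠ 0)
    (hE : (G.dat C).E (G.res C mu) ≠ 0) : (G.dat C).G0 (G.res C mu) j := by
  classical
  let _ := Fintype.ofFinite ↥(X (sr (i j)))
  obtain ⟨hg, hX⟩ := G.sh j hj
  have hr : rfl' cs (w j) (i j) = cs.simple (i j) := by rw [rfl', hj, one_mul, inv_one, mul_one]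
  have hV : X (sr (i j)) ≤ VV cs h X l := by
    have h1 := G.beta_mem j
    rw [G.sb.sys.eq, hj, map_one, Module.End.one_apply] at h1
    exact RGD.le_Sup h1
  have h1 := G.tt_quad C j (Q := X (sr (i j))) (RGD.Sup_le fun x hx => by
    by_cases e : x = sr (i j)
    · rw [e]
    · have h2 := hx.2.2
      rw [hr] at h2
      exact absurd h2 ((hx.1.act _).not_pos_neg (hx.1.simple_nonneg hx.2.1 _ e))) hV
  have h2 : (G.dat C).act (G.nn j) (G.res C mu) = G.res C mu := by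
    rw [act_res]
    congr 1
    refine Eq.trans ?_ (cjl_of_zet R G.nd.comm hz)
    ext t
    simp only [cjl, MonoidHom.comp_apply, MonoidHom.coe_mk, OneHom.coe_mk, nn, hg]
  refine AH.Dat.g0_of hE (k := (Nat.card (X (sr (i j))) : ℂ)⁻¹) (s := (Nat.card (X (sr (i j))) : ℂ)⁻¹ * zet R (i j) mu)
    (mul_ne_zero (inv_ne_zero (card_ne _)) hz) ?_
  rw [dat_t, dat_t, dat_n, h1, smul_mul_assoc, add_mul, ← smul_smul, ← smul_add, ← G.dat_t C, AH.Dat.one_mul_E,
    Finset.sum_mul]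
  refine congrArg _ (congrArg _ ?_)
  unfold zet
  rw [← Finset.add_sum_erase _ _ (Finset.mem_univ 1), if_pos (Subgroup.coe_one _), zero_add, Finset.sum_smul]
  refine Finset.sum_congr rfl fun y hy => ?_
  have hy1 : (y : Y) ≠ 1 := fun e => (Finset.mem_erase.1 hy).1 (Subtype.ext e)
  obtain ⟨ht, a, ha, b, hb, e⟩ := tx_spec R y.2 hy1
  have hn : n (i j) ∈ CS Φ := hg ▸ G.cen j
  have hc : tx R (i j) y ∈ CS Φ := by
    have e2 : tx R (i j) y = a⁻¹ * (n (i j) * y * (n (i j))⁻¹) * b⁻¹ * (n (i j))⁻¹ := by rw [e]; group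
    rw [e2]
    exact mul_mem (mul_mem (mul_mem (inv_mem (hX ha)) (mul_mem (mul_mem hn (hX y.2)) (inv_mem hn)))
      (inv_mem (hX hb))) (inv_mem hn)
  have h3 : G.tt f 1 * dl (g j * y * (g j)⁻¹) * G.tt f 1 = G.tt f (G.kt ht hc * G.nn j) := by
    rw [← G.tt_eq C (_ * _), hg, e, mul_assoc a, dl_mul, dl_mul a, ← mul_assoc, ← mul_assoc, G.t1_mul_dl C (hV ha),
      mul_assoc _ (dl b), G.dl_mul_t1 C (hV hb), ← hg]
    rfl
  rw [if_neg hy1, dat_t, h3, G.tt_left C _ _ rfl, mul_assoc, ← G.dat_t C, ← G.dat_t C, AH.Dat.t_E, h2, ← mul_assoc,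
    (G.dat C).t_mul_E _ ⟨G.kt ht hc, rfl⟩, smul_mul_assoc]
  rfl

/-- the squares of the stabiliser -/
theorem sq_mem {gg : I → Y} (K : Cor R hT 2 gg) {lam : ↥T →* ℂˣ} (hl : ∀ t, lam t ^ 2 = 1)
    (hE : (G.dat C).E (G.res C lam) ≠ 0) {v : W'} (hv : v ∈ (G.dat C).Wl (G.res C lam)) :
    v * v ∈ (G.dat C).Rl (G.res C lam) := by
  obtain ⟨a, ha, rfl⟩ := hv
  obtain ⟨x, -, -, -, hx⟩ := K.exists_form two_pos hl
  refine Subgroup.closure_mono ?_ (G.sb.sq x _ fun y => ?_)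
  · rintro r ⟨u, j, hj, rfl, h1⟩
    obtain ⟨b, hb⟩ := G.exists_np u⁻¹
    refine ⟨b, j, by rw [dat_pi, hb, inv_inv], ?_⟩
    have h2 := AH.Dat.E_act_ne hE b
    rw [act_res] at h2 ⊢
    refine G.g0_short C hj (K.node _ _ (fun t => hl _) ?_) h2
    have h3 : Rp cs R.nsys (G.ph u) b.1.2⁻¹ := by
      have := b.2.1.inv
      rwa [hb, map_inv, inv_inv] at this
    have h4 := K.ev_rep _ (nu := cjl b.2.1.mem_normalizer lam) h3 hl (fun t ht ht' => by
      rw [cjl_apply _ _ ht' (conj_T' R b.2.1 ht')]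
      congr 2
      group) (sr (i j))
    rw [K.ev_sr] at h4
    exact h4.trans ((hx _).2 h1)
  · rw [← map_sub]
    refine (hx _).1 ?_
    rw [map_sub, sub_eq_zero]
    exact K.ev_fix hl (G.ph_mem C ha) y

end Gd

end Cfsg.Agent.ODD.PS.C3
end

-- part: ODD/PS/C3H4
section
/-!
# ODD / GAL: `PSp_{2n}(q)`, `q ≡ 3 mod 4`: the Whittaker vector and the second series (helper6)

* `Au R l Φ σ δ` : the pair `σ`, `δ` fixes the data;
* `Gd.fix2` : the second series; `Gd.fix_ps`, `Gd.fix1` : the principal series.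
-/

set_option autoImplicit false
set_option linter.unusedSectionVars false

open Cfsg

namespace Cfsg.Agent.ODD.PS.C3

open CoxeterSystem Cfsg.Agent.ChevalleyStructure.CoxeterGeom Cfsg.Agent.Tits.Roots Cfsg.Agent.Tits.Core
  Cfsg.Agent.Nodes.Reps Cfsg.Agent.Nodes.BNOf Cfsg.Agent.Nodes.Bruhat Cfsg.Agent.Nodes.StabComb
  Cfsg.Agent.Nodes.SubComb Cfsg.Agent.Nodes.LeviDec Cfsg.Agent.Nodes.NormalForm Cfsg.Agent.Nodes.OppDec
  Cfsg.Agent.H684.OQ Cfsg.Agent.H670 Cfsg.Agent.H381.OQ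

variable {I W Y : Type} [Fintype I] [DecidableEq I] [Group W] [Finite W] [Group Y] [Finite Y]
  {M : CoxeterMatrix I} {cs : CoxeterSystem M W} {A : I → I → ℤ} {h : IsCartan M A} {p : ℕ} {T : Subgroup Y}
  {n : I → Y} {X : (I → ℤ) → Subgroup Y} {R : RGD cs h p T n X} {F : Type} [Field F] [Fintype F] {l : I}
  {Φ : S2 F →* Y} {AT : I → I → ℤ} {hT : IsCartan M AT} {J W' : Type} [Fintype J] [DecidableEq J] [Group W']
  [Finite W'] {M' : CoxeterMatrix J} {cs' : CoxeterSystem M' W'} {A' : J → J → ℤ} {h' : IsCartan M' A'}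
  {β : J → I → ℤ} {w : J → W} {i : J → I} {g : J → Y}

/-- `σ` and `δ` fix the data -/
structure Au (R : RGD cs h p T n X) (l : I) (Φ : S2 F →* Y) (σ : ℂ ≃+* ℂ) (δ : Y ≃* Y) : Prop where
  fixT : ∀ t ∈ T, δ t = t
  mapU : ∀ u ∈ UU cs h X, δ u ∈ UU cs h X
  mapV : ∀ u ∈ VV cs h X l, δ u ∈ VV cs h X l
  mapX : ∀ u ∈ X (sr l), δ u ∈ X (sr l)
  mapN : ∀ v k, Rp cs R.nsys v k → k⁻¹ * δ k ∈ T
  psi : ∃ psi : ↥(UU cs h X) →* ℂˣ, Nondeg psi ∧
    ∀ u (hu : u ∈ UU cs h X), ((psi ⟨δ u, mapU u hu⟩ : ℂˣ) : ℂ) = σ (psi ⟨u, hu⟩ : ℂˣ)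
  sl2 : ∃ d : S2 F ≃* S2 F, (∀ s, δ (Φ s) = Φ (d s)) ∧
    ∀ ψ, IsIrrCharacter (S2 F) ψ → Odd (charDegree ψ) → ∀ s, ψ (d s) = σ (ψ s)

theorem Au.mapC {σ : ℂ ≃+* ℂ} {δ : Y ≃* Y} (a : Au R l Φ σ δ) {k : Y} (hk : k ∈ CS Φ) : δ k ∈ CS Φ := by
  obtain ⟨d, hd, -⟩ := a.sl2
  refine mem_CS.2 fun s => ?_
  rw [← d.apply_symm_apply s, ← hd, ← map_mul, mem_CS.1 hk, map_mul]

theorem Au.tw_eV {σ : ℂ ≃+* ℂ} {δ : Y ≃* Y} (a : Au R l Φ σ δ) : AH.tw σ δ (eV cs h X l) = eV cs h X l :=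
  tw_av σ δ _ a.mapV fun _ _ => by simp

theorem neg_sq {v : W} (hv : ∀ a, rep cs h v a = -a) : v * v = 1 :=
  rep_injective cs h (LinearMap.ext fun y => by rw [rep_mul_apply, hv, hv, neg_neg, map_one, Module.End.one_apply])

theorem neg_comm {v : W} (hv : ∀ a, rep cs h v a = -a) (x : W) : v * x = x * v :=
  rep_injective cs h (LinearMap.ext fun y => by rw [rep_mul_apply, rep_mul_apply, hv, hv, map_neg])

theorem neg_cases {v : W} (hv : ∀ a, rep cs h v a = -a) {u : W}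
    (hu : ∀ k, rep cs h u (sr k) ∉ RGD.PosNe cs h l) : u = v ∨ (cs.simple l)⁻¹ * u = v := by
  have key : ∀ u : W, (∀ k, rep cs h u (sr k) ≤ 0) → u = v := fun u hu =>
    mul_left_cancel (a := v) ((eq_one_of_nonneg cs h _ fun k => by
      rw [rep_mul_apply, hv]
      exact neg_nonneg.2 (hu k)).trans (neg_sq hv).symm)
  have h1 : ∀ k, rep cs h u (sr k) = sr l ∨ rep cs h u (sr k) ≤ 0 := fun k => by
    rcases ((isRoot_sr cs h k).act u).pos_or_neg with h2 | h2
    · exact Or.inl (by_contra fun h3 => hu k ⟨(isRoot_sr cs h k).act u, h2, h3⟩)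
    · exact Or.inr h2
  by_cases h2 : ∃ k, rep cs h u (sr k) = sr l
  · obtain ⟨k₀, hk₀⟩ := h2
    refine Or.inr (key _ fun k => ?_)
    rw [cs.inv_simple, rep_mul_apply]
    rcases h1 k with h3 | h3
    · rw [h3, rep_simple_sr]
      exact neg_nonpos.2 (sr_nonneg l)
    · have h4 := ((isRoot_sr cs h k).act u).neg.simple_nonneg (neg_nonneg.2 h3) l fun e => by
        rw [← hk₀, ← map_neg] at e
        have h5 := rep_injective_apply cs h u e
        exact (isRoot_sr cs h k₀).not_pos_neg (sr_nonneg k₀) (by rw [← h5]; exact neg_nonpos.2 (sr_nonneg k))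
      rwa [map_neg, neg_nonneg] at h4
  · exact Or.inl (key u fun k => (h1 k).resolve_left fun e => h2 ⟨k, e⟩)

/-- the restriction to the root group -/
def psiL (l : I) (psi : ↥(UU cs h X) →* ℂˣ) : ↥(X (sr l)) →* ℂˣ := psi.comp (Subgroup.inclusion (X_le_U l))

/-- the restriction to `V` -/
def psiV (l : I) (psi : ↥(UU cs h X) →* ℂˣ) : ↥(VV cs h X l) →* ℂˣ := psi.comp (Subgroup.inclusion (V_le_U l))

variable (R) in
include R in
theorem av_psi (psi : ↥(UU cs h X) →* ℂˣ) : av psi = av (psiL l psi) * av (psiV l psi) := by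
  have h1 : av psi * av (psiL l psi) = av psi := mul_av_eq _ fun u => av_mul_dl psi ⟨u, X_le_U l u.2⟩
  have h2 : av psi * av (psiV l psi) = av psi := mul_av_eq _ fun u => av_mul_dl psi ⟨u, V_le_U l u.2⟩
  have h3 : av (psiL l psi) * av (psiV l psi) = av (psiV l psi) * av (psiL l psi) := by
    have := Fintype.ofFinite ↥(X (sr l))
    rw [av_def (psiL l psi), smul_mul_assoc, mul_smul_comm, Finset.sum_mul, Finset.mul_sum]
    refine congrArg _ (Finset.sum_congr rfl fun x _ => ?_)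
    rw [smul_mul_assoc, mul_smul_comm, dl_comm_av _ (R.X_le_normalizer_V l x.2) fun u hu => ?_]
    have e : Subgroup.inclusion (V_le_U l) ⟨_, hu⟩ = (⟨x, X_le_U l x.2⟩ : ↥(UU cs h X)) *
      Subgroup.inclusion (V_le_U l) u * (⟨x, X_le_U l x.2⟩ : ↥(UU cs h X))⁻¹ := rfl
    rw [psiV, MonoidHom.comp_apply, e, map_mul, map_mul, map_inv, mul_inv_cancel_comm, MonoidHom.comp_apply]
  rw [← av_mul_eq psi (b := av (psiL l psi) * av (psiV l psi)) fun u => ?_, ← mul_assoc, h1, h2]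
  obtain ⟨v, hv, x, hx, e⟩ := exists_vx R l u.2
  have e2 : u = ⟨v, V_le_U l hv⟩ * ⟨x, X_le_U l hx⟩ := Subtype.ext e
  rw [e, dl_mul, mul_assoc, ← mul_assoc (dl x), dl_mul_av (psiL l psi) ⟨x, hx⟩, smul_mul_assoc, mul_smul_comm, h3,
    ← mul_assoc, dl_mul_av (psiV l psi) ⟨v, hv⟩, smul_mul_assoc, smul_smul, e2, map_mul, Units.val_mul, mul_comm]
  rfl

variable (R) in
theorem kill_psi {psi : ↥(UU cs h X) →* ℂˣ} (hpsi : Nondeg psi) {u : W} {k : Y} (hk : Rp cs R.nsys u k) {j : I}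
    (hj : rep cs h u (sr j) ∈ RGD.PosNe cs h l) : eV cs h X l * dl k * av psi = 0 := by
  obtain ⟨x, hx, hne⟩ := hpsi j
  have h1 : k * x * k⁻¹ ∈ VV cs h X l := RGD.le_Sup hj (R.conj_mem hk (isRoot_sr cs h j) hx)
  have e : dl k * dl x = dl (k * x * k⁻¹) * dl k := by rw [← dl_mul, ← dl_mul]; congr 1; group
  have h2 : (((psi ⟨x, X_le_U j hx⟩ : ℂˣ) : ℂ) - 1) • (eV cs h X l * dl k * av psi) = 0 := by
    rw [sub_smul, one_smul, ← mul_smul_comm, ← u_mul_av (X_le_U j hx), ← mul_assoc, mul_assoc _ (dl k), e, ← mul_assoc,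
      eV_mul_dl h1, sub_self]
  exact (smul_eq_zero.1 h2).resolve_left fun h3 => hne (Units.val_eq_one.1 (sub_eq_zero.1 h3))

theorem Cusp.mul_eph {f : Al (S2 F)} {φ : Multiplicative F →* ℂˣ} (C : Cusp f φ) : f * eph φ = f := by
  obtain ⟨c, hc⟩ := C.one 1
  rw [dl_one, mul_one] at hc
  have h1 : f * eph φ * f = f := by rw [mul_assoc, C.left, C.idem]
  rw [hc, smul_mul_assoc, C.idem] at h1
  rw [hc, h1]

theorem lin_idem {χ : Y → ℂ} (hχ : IsCharacter Y χ) {e : Al Y} (he : e * e = e) : ∃ m : ℕ, lin χ e = m := by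
  obtain ⟨k, ρ, rfl⟩ := hχ
  rw [AH.lin_character]
  exact ⟨_, ((LinearMap.isProj_range_iff_isIdempotentElem _).2 (by rw [IsIdempotentElem, ← map_mul, he])).trace⟩

namespace Gd

variable (G : Gd R hT l Φ cs' h' β w i g)

include G

theorem exists_y {v : W} (hv : ∀ a, rep cs h v a = -a) : ∃ y : G.Np, G.ph y.1.1 * cs.simple l = v := by
  obtain ⟨u, hu⟩ := G.sb.stab (v * cs.simple l) (by rw [rep_mul_apply, rep_simple_sr, hv, neg_neg])
  obtain ⟨y, rfl⟩ := G.exists_np u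
  exact ⟨y, by rw [ph, hu, cs.simple_mul_simple_cancel_right]⟩

section whit

variable {psi : ↥(UU cs h X) →* ℂˣ} {f : Al (S2 F)} (C : Cusp f ((psiL l psi).comp G.nd.xl)) (ν : (G.dat C).Wt)

theorem E_mul_f : (G.dat C).E ν * mp Φ f = (G.dat C).E ν := by
  rw [← (G.dat C).E_mul_one ν, dat_t, tt_one, mul_assoc, mul_assoc, G.f_mul_f C]

theorem E_mul_eV : (G.dat C).E ν * eV cs h X l = (G.dat C).E ν := by
  rw [← (G.dat C).E_mul_one ν, dat_t, tt_one, ← G.nd.mp_comm, mul_assoc, mul_assoc, eV_mul_eV]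

theorem E_mul_t {t : Y} (ht : t ∈ T) (hc : t ∈ CS Φ) :
    (G.dat C).E ν * dl t = ((ν ⟨G.kt ht hc, rfl⟩ : ℂˣ) : ℂ) • (G.dat C).E ν := by
  rw [← (G.dat C).E_mul_t ν ⟨G.kt ht hc, rfl⟩, dat_t, tt, ← mul_assoc, ← mul_assoc, ← mul_assoc, E_mul_eV,
    mul_assoc _ (dl _), t_comm_eV R (show (G.kt ht hc).1.2 ∈ T from ht), ← mul_assoc, E_mul_eV, mul_assoc,
    cs_comm (show (G.kt ht hc).1.2 ∈ CS Φ from hc), ← mul_assoc, E_mul_f]
  rfl

theorem span0 {y : G.Np} {k : Y} (hk : Rp cs R.nsys (G.ph y.1.1 * cs.simple l) k) (s : S2 F) :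
    ∃ c : ℂ, (G.dat C).E ν * dl (Φ s * k) * av psi = c • ((G.dat C).E ν * dl y.1.2 * av psi) := by
  have h1 := (hk.inv.unique (y.2.1.mul G.nd.wel).inv)
  obtain ⟨u, hu⟩ := G.nd.dec _ h1
  have h2 := mul_mem h1 (inv_mem (G.nd.tor u))
  set t := k⁻¹⁻¹ * (y.1.2 * Φ SL2.wel)⁻¹ * (Φ (SL2.tor u))⁻¹ with ht
  have e : Φ s * k = t * y.1.2 * Φ (s * SL2.tor u * SL2.wel) := by
    have h3 := mem_CS.1 (mul_mem hu y.2.2) s
    have h4 := mem_CS.1 y.2.2 (SL2.tor u)
    rw [map_mul, map_mul, ← mul_assoc, ← mul_assoc, ← h3, mul_assoc (Φ s), mul_assoc t, ← h4, ht]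
    group
  obtain ⟨c, hc⟩ := C.one (s * SL2.tor u * SL2.wel)
  have h3 : av (psiL l psi) * av psi = av psi := av_mul_eq _ fun u => u_mul_av (X_le_U l u.2)
  have h4 : (G.dat C).E ν * dl y.1.2 = (G.dat C).E ν * dl y.1.2 * mp Φ f := by
    rw [mul_assoc, cs_comm y.2.2, ← mul_assoc, E_mul_f]
  refine ⟨((ν ⟨G.kt h2 hu, rfl⟩ : ℂˣ) : ℂ) * c, ?_⟩
  rw [e, dl_mul, dl_mul, ← mul_assoc, ← mul_assoc, G.E_mul_t C ν h2 hu, smul_mul_assoc, smul_mul_assoc, smul_mul_assoc,
    ← smul_smul, h4, ← h3, ← G.nd.mp_eph, ← mul_assoc, ← mp_dl, mul_assoc _ (mp Φ f), mul_assoc _ (mp Φ f * _),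
    ← map_mul, ← map_mul, hc, map_smul, mul_smul_comm, smul_mul_assoc, G.nd.mp_eph, h3]

theorem whit_span (hpsi : Nondeg psi) {v : W} (hv : ∀ a, rep cs h v a = -a) {y : G.Np}
    (hy : G.ph y.1.1 * cs.simple l = v) (z : Al Y) :
    ∃ c : ℂ, (G.dat C).E ν * z * av psi = c • ((G.dat C).E ν * dl y.1.2 * av psi) := by
  induction z using al_induction with
  | hd z =>
    obtain ⟨u, hu⟩ := (mem_GG R).1 (show z ∈ GG cs h T X by rw [G.nd.top]; exact Subgroup.mem_top z)
    obtain ⟨a, ha, s, k, hk, b, hb, rfl⟩ := G.cell_dec hu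
    suffices h1 : ∃ c : ℂ, (G.dat C).E ν * dl (Φ (SL2.x s) * k) * av psi =
        c • ((G.dat C).E ν * dl y.1.2 * av psi) by
      obtain ⟨c, hc⟩ := h1
      refine ⟨((psi ⟨b, hb⟩ : ℂˣ) : ℂ) * c, ?_⟩
      rw [mul_assoc a, dl_mul, dl_mul a, ← G.E_mul_eV C ν, ← mul_assoc, ← mul_assoc, mul_assoc _ _ (dl a), eV_mul_dl ha,
        E_mul_eV, mul_assoc _ (dl b), u_mul_av hb, mul_smul_comm, hc, smul_smul]
    by_cases h1 : ∃ j, rep cs h u (sr j) ∈ RGD.PosNe cs h l
    · obtain ⟨j, hj⟩ := h1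
      refine ⟨0, ?_⟩
      rw [zero_smul, ← G.E_mul_eV C ν, dl_mul, ← mul_assoc, mul_assoc _ (eV cs h X l), ← dl_comm_eV (G.nd.norm _),
        ← mul_assoc, mul_assoc _ (eV cs h X l), mul_assoc _ (_ * dl k), kill_psi R hpsi hk hj, mul_zero]
    · rcases neg_cases hv (not_exists.1 h1) with h2 | h2
      · exact G.span0 C ν (by rwa [hy, ← h2]) _
      · have h3 := G.span0 C ν (y := y) (by rw [hy, ← h2]; exact G.nd.wel.inv.mul hk) (SL2.x s * SL2.wel)
        rwa [map_mul, mul_assoc (Φ _), mul_inv_cancel_left] at h3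
  | ha a b ha hb =>
    obtain ⟨c, hc⟩ := ha
    obtain ⟨d, hd⟩ := hb
    exact ⟨c + d, by rw [mul_add, add_mul, hc, hd, add_smul]⟩
  | hs c a ha =>
    obtain ⟨d, hd⟩ := ha
    exact ⟨c * d, by rw [mul_smul_comm, smul_mul_assoc, hd, smul_smul]⟩

theorem whit_ne (hE : (G.dat C).E ν ≠ 0) {v : W} (hv : ∀ a, rep cs h v a = -a) {y : G.Np}
    (hy : G.ph y.1.1 * cs.simple l = v) : (G.dat C).E ν * dl y.1.2 * av psi ≠ 0 := by
  classical
  intro h0
  have := Fintype.ofFinite ↥(VV cs h X l)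
  have h1 : (G.dat C).E ν ∈ Su (PJ cs h T X {l}) := by
    have := Fintype.ofFinite (G.dat C).π.ker
    rw [AH.Dat.E_def]
    exact Subalgebra.smul_mem _ (sum_mem fun a _ => Subalgebra.smul_mem _ (G.tt_su C a.2) _) _
  have h2 : ((G.dat C).E ν).coeff 1 ≠ 0 := fun h3 => by
    obtain ⟨d, hd, h4⟩ := AH.trace_idem ((G.dat C).E_mul_E ν)
    rw [AH.trace_mulLeft, h3, mul_zero] at hd
    exact hE (h4 (by exact_mod_cast hd.symm))
  rw [av_psi R (l := l), ← G.nd.mp_eph, ← mul_assoc, mul_assoc _ (dl _), cs_comm y.2.2, ← mul_assoc,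
    ← G.E_mul_f C ν, mul_assoc _ (mp Φ f), ← map_mul, C.mul_eph, E_mul_f] at h0
  have h3 := congrArg (fun a : Al Y => lin (fun y : Y => if y = 1 then (1 : ℂ) else 0) (a * dl y.1.2⁻¹)) h0
  simp only [zero_mul, map_zero] at h3
  rw [lin_av, Finset.sum_eq_single 1, map_one, inv_one, Units.val_one, one_smul, Subgroup.coe_one, dl_one, mul_one,
    mul_assoc, dl_mul_inv, mul_one, ← coeff_eq_lin, smul_eq_zero] at h3
  · exact h3.elim (inv_ne_zero (card_ne _)) h2
  · intro u _ hu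
    refine smul_eq_zero_of_right _ ?_
    rw [← coeff_eq_lin, mul_assoc, mul_assoc, ← dl_mul, ← dl_mul, ← mul_assoc, ← mul_one (_ * dl _)]
    refine coeff_su h1 (one_mem _) fun h4 => hu (Subtype.ext ?_)
    have h5 : y.1.2 * u * y.1.2⁻¹ ∈ VNJ cs h X {l} := by
      refine conj_mem_Sup R y.2.1 (S' := NotNJ cs h {l}) (fun x hx => hx.1) (fun x hx => ?_) u.2
      show -_ ∈ NotJ cs h {l}
      rw [posNe_eq] at hx
      rw [eq_mul_inv_of_mul_eq hy, cs.inv_simple, rep_mul_apply, hv, neg_neg]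
      exact NotJ.act (Subgroup.subset_closure ⟨l, Set.mem_singleton l, rfl⟩) hx
    have h6 := eq_one_of_mem_VNJ_of_mem_PJ R h5 h4
    rwa [mul_inv_eq_one, mul_eq_left] at h6
  · intro h4
    exact absurd (Finset.mem_univ _) h4

end whit

variable (hM : AH.Main) {gg : I → Y} (K : Cor R hT 0 gg) (hgen : T ≤ Subgroup.closure (Set.range gg))
  {σ : ℂ ≃+* ℂ} {δ : Y ≃* Y} (a : Au R l Φ σ δ) {χ : Y → ℂ} (hχ : IsIrrCharacter Y χ)

include hM K hgen a hχ

/-- **the second series** -/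
theorem fix2 (h4 : Fintype.card F % 4 = 3) {psi : ↥(UU cs h X) →* ℂˣ} (hpsi : Nondeg psi)
    (hδ : ∀ u (hu : u ∈ UU cs h X), ((psi ⟨δ u, a.mapU u hu⟩ : ℂˣ) : ℂ) = σ (psi ⟨u, hu⟩ : ℂˣ))
    {f : Al (S2 F)} (C : Cusp f ((psiL l psi).comp G.nd.xl)) (hf : AH.tw σ δ (mp Φ f) = mp Φ f)
    (hodd : ∃ d : ℕ, Odd d ∧ lin χ (eV cs h X l * mp Φ f) = d) (z : Y) : χ (δ z) = σ (χ z) := by
  obtain ⟨v, hv, hv'⟩ := G.sb.neg
  obtain ⟨y, hy⟩ := G.exists_y hv
  have h1 : (G.dat C).π (y * y) = 1 := G.ph_injective (by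
    show G.ph (y.1.1 * y.1.1) = _
    rw [map_mul, eq_mul_inv_of_mul_eq hy, cs.inv_simple, mul_assoc, ← mul_assoc (cs.simple l), ← neg_comm hv,
      cs.simple_mul_simple_cancel_right, neg_sq hv, map_one])
  obtain ⟨ν, -, h2, h3⟩ := exists_fix_odd (G.dat C) (Characters.Core.isIrr_isCharacter hχ) h1 (fun _ => True)
    (fun _ _ => trivial) (z := 1) (fun _ _ => mul_one _) (fun _ h => absurd trivial h)
    (by rwa [mul_one, dat_t, tt_one])
  obtain ⟨lam, rfl, h5⟩ := G.exists_ext C h4 ν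
  have h6 : v ∈ Wst R lam := hy ▸ mul_mem (G.ph_mem C h2) (G.nd.wel_mem h5)
  have hl : ∀ t, lam t ^ 2 = 1 := K.pow_of_gen hgen fun j => K.sq_of_neg (fun _ => pow_zero _) h6 (hv' _)
  have hE : (G.dat C).E (G.res C lam) ≠ 0 := fun h0 => by
    obtain ⟨m, hm, e⟩ := h3
    rw [h0, map_zero] at e
    exact hm.pos.ne (by exact_mod_cast e)
  have hsq := fun u => G.sq_mem C (K.mono (dvd_zero 2)) hl hE (v := u)
  have ht : ∀ b : G.Np, ∃ c : (G.dat C).π.ker, AH.tw σ δ (G.tt f b) = G.tt f (b * c) :=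
    fun b => ⟨⟨G.kt (a.mapN _ _ b.2.1) (mul_mem (inv_mem b.2.2) (a.mapC b.2.2)), rfl⟩, by
      rw [tt, map_mul, map_mul, map_mul, a.tw_eV, hf, AH.tw_dl]
      exact congrArg (fun x => eV cs h X l * dl x * eV cs h X l * mp Φ f) (mul_inv_cancel_left b.1.2 (δ b.1.2)).symm⟩
  have hS : AH.tw σ δ ((G.dat C).E (G.res C lam)) = (G.dat C).E (G.res C lam) := by
    have := Fintype.ofFinite (G.dat C).π.ker
    rw [AH.Dat.E_def, AH.tw_smul, map_inv₀, map_natCast, map_sum]
    refine congrArg _ (Finset.sum_congr rfl fun b _ => ?_)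
    rw [AH.tw_smul, res_apply, fix_of_sq (by rw [inv_pow, hl, inv_one]), dat_t, tt, map_mul, map_mul, map_mul, a.tw_eV,
      hf, AH.tw_dl, a.fixT _ (G.mem_T b.2)]
  refine hM J W' M' cs' _ Y (G.dat C) (G.res C lam) σ δ ⟨St.five cs' h', AH.tw_smul σ δ, fun b _ => ?_,
    fun u hu => ⟨1, by rw [pow_one, pow_two]; exact hsq u hu⟩, fun f hf u => ?_, Or.inr ⟨_, G.whit_ne C _ hE hv hy, ?_,
    fun b hb => ?_, ?_⟩⟩ χ hχ h3 z
  · obtain ⟨c, hc⟩ := ht b
    exact ⟨_, by rw [map_mul, hS, dat_t, hc]; exact (G.dat C).t_ker_E _ b c.2⟩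
  · rw [← map_mul]
    exact hf _ (hsq u u.2)
  · rw [← mul_assoc, ← mul_assoc, AH.Dat.E_mul_E]
  · obtain ⟨c, hc⟩ := G.whit_span C _ hpsi hv hy ((G.dat C).t b * dl y.1.2)
    exact ⟨c, by rw [← hc, ← mul_assoc, ← mul_assoc, AH.Dat.t_E, (G.dat C).mem_Nl.1 hb, mul_assoc _ ((G.dat C).t b)]⟩
  · obtain ⟨c, hc⟩ := G.whit_span C _ hpsi hv hy (dl (δ y.1.2))
    exact ⟨c • 1, by rw [mul_smul_comm, mul_one, ← hc, map_mul, map_mul, hS, AH.tw_dl, tw_av σ δ psi a.mapU hδ]⟩

/-- the principal series -/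
theorem fix_ps {v : W} (hv : ∀ b, rep cs hT v b = -b) {lam : ↥T →* ℂˣ} (h1 : v ∈ Wst R lam)
    (hodd : ∃ m : ℕ, Odd m ∧ mB R lam χ = m) (z : Y) : χ (δ z) = σ (χ z) := by
  have hl : ∀ t, lam t ^ 2 = 1 := K.pow_of_gen hgen fun j => K.sq_of_neg (fun _ => pow_zero _) h1 (hv _)
  refine fix_of_mB R hM G.nd.top G.nd.comm (St.five cs h) (lam := lam) ⟨a.mapU, fun t ht => by rwa [a.fixT t ht],
    fun t ht => ?_, fun u k hk _ => a.mapN u k hk⟩ (fun u hu => ?_) (Or.inr a.psi) hχ hodd z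
  · rw [fix_of_sq (hl _)]
    congr 3
    exact a.fixT t ht
  · rw [← pow_two]
    exact (K.mono (dvd_zero 2)).pow_mem_self two_pos hl hu

theorem fix1 (hodd : ∃ d : ℕ, Odd d ∧ lin χ (eU cs h X * av (P := (Φ.comp SL2.tor).range) 1) = d) (z : Y) :
    χ (δ z) = σ (χ z) := by
  obtain ⟨v, hv, hv'⟩ := G.sb.neg
  obtain ⟨y, hy⟩ := G.exists_y hv
  have hk : Rp cs R.nsys v (y.1.2 * Φ SL2.wel) := hy ▸ y.2.1.mul G.nd.wel
  have hw : ∀ ν : (PS.dat R G.nd.top G.nd.comm).Wt, ∃ lam, ν = wt R G.nd.top G.nd.comm lam := fun ν =>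
    ⟨ν.comp (kerT R G.nd.top G.nd.comm).symm.toMonoidHom, MonoidHom.ext fun t => by simp only [wt, _root_.Cfsg.Agent.ODD.PS.wt, _root_.MulEquiv.toMonoidHom_eq_coe, _root_.MonoidHom.coe_comp, _root_.MonoidHom.coe_coe, _root_.Function.comp_apply, _root_.MulEquiv.symm_apply_apply]⟩
  obtain ⟨ν, -, h2, h3⟩ := exists_fix_odd (PS.dat R G.nd.top G.nd.comm) (Characters.Core.isIrr_isCharacter hχ)
    (a := ⟨_, mem_NN.2 ⟨v, hk⟩⟩) (by rw [map_mul, PS.dat_pi, piN_eq R (g := ⟨_, mem_NN.2 ⟨v, hk⟩⟩) hk, neg_sq hv])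
    (fun ν => ∀ u, ν ((kerT R G.nd.top G.nd.comm).symm ⟨_, G.nd.tor u⟩) = 1) (fun ν hν u => by
      rw [AH.Dat.act_apply, ← hν u⁻¹]
      refine congrArg ν (Subtype.ext (Subtype.ext ?_))
      show (y.1.2 * Φ SL2.wel)⁻¹ * Φ (SL2.tor u) * (y.1.2 * Φ SL2.wel) = Φ (SL2.tor u⁻¹)
      have h1 := congrArg Φ (SL2.wel_mul_tor u⁻¹)
      rw [inv_inv, map_mul, map_mul] at h1
      rw [mul_assoc, ← mul_assoc (Φ _), mem_CS.1 y.2.2, mul_assoc, ← h1]
      group)
    (z := av (P := (Φ.comp SL2.tor).range) 1) (fun ν hν => by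
      obtain ⟨lam, rfl⟩ := hw ν
      rw [E_wt]
      refine mul_av_eq _ ?_
      rintro ⟨_, u, rfl⟩
      exact (eB_mul_t R lam (G.nd.tor u)).trans (congrArg (fun c : ℂˣ => (c : ℂ) • _) (hν u))) (fun ν hν => by
      obtain ⟨lam, rfl⟩ := hw ν
      obtain ⟨u, hu⟩ := not_forall.1 hν
      rw [E_wt]
      have h1 : (((lam ⟨_, G.nd.tor u⟩ : ℂˣ) : ℂ) - 1) •
          (H684.OQ.eB R lam * av (P := (Φ.comp SL2.tor).range) 1) = 0 := by
        rw [sub_smul, one_smul, ← smul_mul_assoc, ← eB_mul_t R lam (G.nd.tor u), mul_assoc,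
          dl_mul_av_one (P := (Φ.comp SL2.tor).range) (u := Φ (SL2.tor u)) ⟨u, rfl⟩, sub_self]
      exact (smul_eq_zero.1 h1).resolve_left fun h2 => hu (Units.val_eq_one.1 (sub_eq_zero.1 h2)))
    (by rw [PS.dat_t, Subgroup.coe_one, ta_one]; exact hodd)
  obtain ⟨lam, rfl⟩ := hw ν
  rw [E_wt, lin_eB] at h3
  exact G.fix_ps hM K hgen a hχ hv' ⟨_, hk, (mem_Nl R G.nd.top G.nd.comm).1 h2⟩ h3 z

end Gd

end Cfsg.Agent.ODD.PS.C3
end

-- part: ODD/C3/K
section
/-!
# ODD / GAL: the roots of `C_{m+1}` orthogonal to the long simple root (helper50)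

`ks : KS`.
-/

set_option autoImplicit false
set_option linter.unusedSectionVars false

namespace Cfsg.Agent.ODD.C3

open CoxeterSystem Cfsg.Agent.ChevalleyStructure.CoxeterGeom Cfsg.Agent.Tits.Roots Cfsg.Agent.Tits.Core
  Cfsg.Agent.Nodes.StabComb Cfsg.Agent.Nodes.SubComb Cfsg.Agent.Nodes.Coroot Cfsg.Agent.Nodes.TypeC Cfsg.Agent.ODD.PS
  Cfsg.Agent.ODD.PS.C3

namespace K

section gen

variable {I W : Type} [Fintype I] [DecidableEq I] [Group W] {M : CoxeterMatrix I} (cs : CoxeterSystem M W)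
  {A : I → I → ℤ} (h : IsCartan M A)

omit cs in
theorem ps (i j : I) : pairing A i (sr j) = A i j := St.pr_sr i j

theorem rfl_eq [Finite W] {w w' : W} {i i' : I} (e : rep cs h w (sr i) = rep cs h w' (sr i')) :
    rfl' cs w i = rfl' cs w' i' :=
  rep_injective cs h (LinearMap.ext fun x => by rw [rep_rfl'_eq, rep_rfl'_eq, e])

end gen

section C

variable {n : ℕ} {W : Type} [Group W] (cs : CoxeterSystem (CoxeterMatrix.B n) W)

/-- `ee` as a homomorphism -/
def eh : (Fin n → ℤ) →+ (Fin n → ℤ) := AddMonoidHom.mk' ee ee_add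

/-- long roots -/
def Lg (a : Fin n → ℤ) : Prop := ∃ s, ee a = wt s + wt s

theorem Lg.act {a : Fin n → ℤ} (ha : Lg a) (w : W) : Lg (rep cs (isCartan n) w a) := by
  induction w using cs.simple_induction_left with
  | one => rwa [map_one]
  | mul_simple_left w i ih =>
    obtain ⟨s, e⟩ := ih
    exact ⟨_, by rw [rep_mul_apply, rep_simple, ee_refl_of e]⟩

theorem lg_refl (w : W) {i : Fin n} (hi : ¬ (i : ℕ) + 1 < n) {a : Fin n → ℤ} (ha : Lg a) :
    rep cs (isCartan n) (w * cs.simple i * w⁻¹) a = a ∨ rep cs (isCartan n) (w * cs.simple i * w⁻¹) a = -a := by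
  obtain ⟨s, e⟩ := ha.act cs w⁻¹
  have h1 := ee_refl_of (i := i) e
  rw [rep_mul_apply, rep_mul_apply, rep_simple]
  rw [sg, dif_neg hi] at h1
  split_ifs at h1
  · right
    rw [show (s.1, !s.2) = ng s from rfl, wt_ng, ← neg_add, ← e, ← ee_neg] at h1
    rw [ee_injective h1, map_neg, rep_apply_inv]
  · left
    rw [ee_injective (h1.trans e.symm), rep_apply_inv]

include cs in
theorem eq_of_lg {f g : (Fin n → ℤ) →+ (Fin n → ℤ)} (H : ∀ a k, ee a = wt (k, true) + wt (k, true) → f a = g a)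
    (a : Fin n → ℤ) : f a = g a := by
  choose x hx using fun k : Fin n => exists_long cs (k, true)
  have h1 : (2 : ℤ) • a = ∑ k, ee a k • x k := ee_injective (by
    rw [ee_smul]
    refine ((map_sum eh _ _).trans ?_).symm
    funext j
    simp only [map_zsmul, Finset.sum_apply, Pi.smul_apply, show ∀ k, eh (x k) = _ from hx, Pi.add_apply, wt_apply]
    rw [Finset.sum_eq_single j (fun k _ hk => by simp [hk.symm]) (by simp only [_root_.Finset.mem_univ, _root_.not_true_eq_false, ↓ _root_.reduceIte, _root_.Int.reduceAdd, _root_.Int.zsmul_eq_mul, _root_.mul_eq_zero, _root_.OfNat.ofNat_ne_zero, _root_.or_false, _root_.IsEmpty.forall_iff])]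
    simp [mul_comm])
  refine smul_right_injective _ (two_ne_zero (α := ℤ)) ?_
  show (2 : ℤ) • f a = (2 : ℤ) • g a
  rw [← map_zsmul, ← map_zsmul, h1, map_sum, map_sum]
  exact Finset.sum_congr rfl fun k _ => by rw [map_zsmul, map_zsmul, H _ k (hx k)]

theorem exists_neg : ∃ v : W, ∀ a, rep cs (isCartan n) v a = -a := by
  have := finite_W cs
  have key : ∀ S : Finset (Fin n), ∃ v : W, ∀ a k, ee a = wt (k, true) + wt (k, true) →
      rep cs (isCartan n) v a = if k ∈ S then -a else a := fun S => by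
    induction S using Finset.induction_on with
    | empty => exact ⟨1, fun a k _ => by simp only [_root_.map_one, _root_.Module.End.one_apply, _root_.Finset.notMem_empty, ↓ _root_.reduceIte]⟩
    | insert j S hj ih =>
      obtain ⟨v, hv⟩ := ih
      obtain ⟨x, ⟨w, i, e⟩, hx⟩ := rt_of_ok (cs := cs) (a := (j, true)) (Or.inr rfl)
      refine ⟨v * rfl' cs w i, fun a k ha => ?_⟩
      by_cases hk : k = j
      · subst hk
        rw [ee_injective (ha.trans hx.symm), rep_mul_apply, rep_rfl'_eq, ← e, cpr_self _ _ ⟨w, i, e⟩, map_sub, map_zsmul,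
          hv x k hx, if_neg hj, if_pos (Finset.mem_insert_self _ _)]
        module
      · obtain ⟨s, hs⟩ := Lg.act cs ⟨_, ha⟩ (rfl' cs w i)
        have h1 := congrFun hs k
        rw [rep_rfl'_eq, ← e, sub_eq_add_neg, ee_add, ee_neg, ee_smul, ha, hx] at h1
        have h2 : s = (k, true) := by
          obtain ⟨s, t⟩ := s
          simp only [Pi.add_apply, Pi.neg_apply, Pi.smul_apply, wt_apply, hk, if_true, if_false] at h1
          split_ifs at h1 with h2 h3 <;> simp_all only [_root_.Int.reduceAdd, _root_.add_zero, _root_.Int.zsmul_eq_mul, _root_.MulZeroClass.mul_zero, _root_.neg_zero, _root_.Bool.not_eq_true, _root_.Int.reduceNeg, _root_.reduceCtorEq, _root_.OfNat.ofNat_ne_zero]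
        rw [rep_mul_apply, ee_injective (hs.trans (h2 ▸ ha.symm)), hv a k ha]
        simp [hk]
  obtain ⟨v, hv⟩ := key Finset.univ
  exact ⟨v, eq_of_lg cs (f := (rep cs (isCartan n) v).toAddMonoidHom) (g := -AddMonoidHom.id _) fun a k ha => by
    simpa only [_root_.LinearMap.toAddMonoidHom_coe, _root_.AddMonoidHom.neg_apply, _root_.AddMonoidHom.id_apply, _root_.Finset.mem_univ, ↓ _root_.reduceIte] using hv a k ha⟩

/-- `1, …, 1, 2` -/
def dd (i : Fin n) : ℤ := if (i : ℕ) + 1 < n then 1 else 2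

/-- roots to coroots -/
def th : (Fin n → ℤ) →+ (Fin n → ℤ) := AddMonoidHom.mk' (fun a i => dd i * a i) fun _ _ => funext fun _ => mul_add _ _ _

theorem th_sr (i : Fin n) : th (sr i) = dd i • sr i := by
  funext k
  show dd k * sr i k = dd i * sr i k
  by_cases hk : k = i
  · rw [hk]
  · rw [sr_ne hk, mul_zero, mul_zero]

theorem rep_th (w : W) (a : Fin n → ℤ) : rep cs (isCartanT n) w (th a) = th (rep cs (isCartan n) w a) := by
  induction w using cs.simple_induction_left with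
  | one => rw [map_one, map_one]; rfl
  | mul_simple_left w i ih =>
    rw [rep_mul_apply, rep_mul_apply, ih, rep_simple_eq, rep_simple_eq, map_sub, map_zsmul, th_sr, smul_smul]
    congr 2
    rw [pairing, pairing, Finset.sum_mul]
    refine Finset.sum_congr rfl fun k _ => ?_
    have : A n k i * dd k = A n i k * dd i := by
      have := i.2
      have := k.2
      simp only [A_apply, dd, Fin.ext_iff]
      split_ifs <;> omega
    show A n k i * (dd k * _) = _
    rw [← mul_assoc, this]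
    ring

theorem exists_neg' : ∃ v : W, (∀ a, rep cs (isCartan n) v a = -a) ∧ ∀ a, rep cs (isCartanT n) v a = -a := by
  obtain ⟨v, hv⟩ := exists_neg cs
  refine ⟨v, hv, ext_sr' (x := (rep cs (isCartanT n) v).toAddMonoidHom) (y := -AddMonoidHom.id _) (fun i => ?_) |>
    DFunLike.congr_fun⟩
  have h1 := rep_th cs v (sr i)
  rw [hv, map_neg, th_sr, map_zsmul, ← smul_neg] at h1
  exact smul_right_injective _ (by rw [dd]; split_ifs <;> omega) h1

/-- the coordinate forms -/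
def co (k : Fin n) : St.Fm (Fin n) := (Pi.evalAddMonoidHom _ k).comp eh

theorem co_mem (d : ℕ) : ∀ k : Fin n, (k : ℕ) + d + 1 = n → co k ∈ (St.wt (A n)).range := by
  have h0 : ∀ k : Fin n, St.pr (A n) k ∈ (St.wt (A n)).range := fun k => ⟨_, St.wt_sr k⟩
  induction d with
  | zero =>
    intro k hk
    convert h0 k using 1
    refine AddMonoidHom.ext fun a => ?_
    rw [St.pr_apply, ← Cf_ee, Cf, dif_neg (by omega)]
    rfl
  | succ d ih =>
    intro k hk
    convert add_mem (h0 k) (ih ⟨k + 1, by omega⟩ (by simp only; omega)) using 1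
    refine AddMonoidHom.ext fun a => ?_
    rw [AddMonoidHom.add_apply, St.pr_apply, ← Cf_ee, Cf, dif_pos (by omega)]
    exact (sub_add_cancel _ _).symm

theorem comp_th (z : St.Fm (Fin n)) : z.comp th ∈ (St.wt (A n)).range := by
  have : z.comp th = ∑ j, z (sr j) • ∑ k ∈ Finset.Iic j, co k := ext_sr' fun i => by
    have h1 : ∀ j, (∑ k ∈ Finset.Iic j, co k) (sr i) = if j = i then dd i else 0 := fun j => by
      rw [AddMonoidHom.finsetSum_apply, Finset.sum_congr rfl fun k _ => show co k (sr i) = bt i k from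
        congrFun (ee_sr i) k, sum_bt, dd]
      split_ifs <;> rfl
    rw [AddMonoidHom.comp_apply, th_sr, map_zsmul, AddMonoidHom.finsetSum_apply]
    simp only [AddMonoidHom.smul_apply, h1, smul_eq_mul, mul_ite, mul_zero, Finset.sum_ite_eq', Finset.mem_univ, if_true]
    exact mul_comm _ _
  rw [this]
  exact sum_mem fun j _ => AddSubgroup.zsmul_mem _
    (sum_mem fun (k : Fin n) _ => co_mem (n - 1 - k) k (by have := k.2; omega)) _

theorem even_long (w : W) {i : Fin n} (hi : ¬ (i : ℕ) + 1 < n) (x : St.Fm (Fin n)) (y : Fin n → ℤ) :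
    2 ∣ x (rep cs (isCartanT n) (w * cs.simple i * w⁻¹) y) - x y := by
  rw [St.rep_rf, map_sub, sub_sub_cancel_left, map_zsmul, smul_eq_mul, dvd_neg]
  refine Dvd.dvd.mul_right ?_ _
  rw [St.co, St.ac_apply, St.pr_apply, pairing]
  refine Finset.dvd_sum fun k _ => Dvd.dvd.mul_right ?_ _
  have := i.2
  have := k.2
  simp only [A_apply, Fin.ext_iff]
  split_ifs <;> omega

end C

section sub

variable {m : ℕ} {W W' : Type} [Group W] [Group W'] (cs : CoxeterSystem (CoxeterMatrix.B (m + 1)) W)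
  (cs' : CoxeterSystem (CoxeterMatrix.B m) W')

theorem bC_self (j : Fin m) : 0 < bC m j j.castSucc := by
  rw [bC]
  split_ifs <;> simp only [sr_self, sr_ne (Fin.castSucc_ne_last j), _root_.Cfsg.Agent.Tits.Roots.sr_self, _root_.zero_lt_one, _root_.zsmul_eq_mul, _root_.Int.cast_ofNat, _root_.Pi.add_apply, _root_.Pi.mul_apply, _root_.Pi.ofNat_apply, _root_.mul_one, _root_.add_zero, _root_.Order.lt_two_iff, _root_.zero_le_one]

theorem bC_ne (j : Fin m) {k : Fin (m + 1)} (h1 : k ≠ j.castSucc) (h2 : k ≠ Fin.last m) : bC m j k = 0 := by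
  rw [bC]
  split_ifs <;> simp [sr_ne h1, sr_ne h2]

theorem sys : SubSys cs (isCartan (m + 1)) (A m) (bC m) (wC cs) (iC m) where
  eq j := by
    have := j.2
    rw [bC, wC, iC]
    split_ifs
    · rw [map_one, Module.End.one_apply]
    · rw [rep_simple_eq, ps, A_apply, if_neg (Fin.castSucc_ne_last j), if_pos (by simp; omega), if_neg (by simp)]
      module
  cartan j k := by
    have := j.2
    have := k.2
    rw [bC, wC, iC]
    split_ifs <;>
      simp only [inv_one, map_one, Module.End.one_apply, inv_simple, rep_simple_eq, sub_eq_add_neg, ← neg_smul,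
        pairing_add, pairing_smul, ps, A_apply, Fin.ext_iff, Fin.val_castSucc, Fin.val_last] <;>
      simp (disch := omega) only [if_pos, if_neg] <;> (try split_ifs) <;> omega
  indep c hc := by
    funext j
    have h1 := congrFun hc j.castSucc
    rw [iota_apply, Finset.sum_apply, Finset.sum_eq_single j (fun k _ hk => by
      rw [Pi.smul_apply, bC_ne k (fun e => hk (Fin.castSucc_injective _ e).symm) (Fin.castSucc_ne_last j), smul_zero])
      (by simp only [_root_.Finset.mem_univ, _root_.not_true_eq_false, _root_.Pi.smul_apply, _root_.Int.zsmul_eq_mul, _root_.mul_eq_zero, _root_.IsEmpty.forall_iff])] at h1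
    exact (mul_eq_zero.1 h1).resolve_right (bC_self j).ne'

theorem ee_bC (j : Fin m) : (∀ k : Fin m, ee (bC m j) k.castSucc = bt j k) ∧ ee (bC m j) (Fin.last m) = 0 := by
  have := j.2
  refine ⟨fun k => ?_, ?_⟩
  · have := k.2
    rw [bC]
    split_ifs <;>
      simp only [ee_add, ee_smul, ee_sr, Pi.add_apply, Pi.smul_apply, smul_eq_mul, bt_apply, Fin.val_castSucc,
        Fin.val_last] <;> split_ifs <;> omega
  · rw [bC]
    split_ifs <;>
      simp only [ee_add, ee_smul, ee_sr, Pi.add_apply, Pi.smul_apply, smul_eq_mul, bt_apply, Fin.val_castSucc,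
        Fin.val_last] <;> split_ifs <;> omega

theorem ee_iota (c : Fin m → ℤ) :
    (∀ k : Fin m, ee (iota (bC m) c) k.castSucc = ee c k) ∧ ee (iota (bC m) c) (Fin.last m) = 0 := by
  have h1 : ee (iota (bC m) c) = ∑ j, c j • ee (bC m j) := by
    rw [iota_apply]
    exact (map_sum eh _ _).trans (Finset.sum_congr rfl fun j _ => ee_smul _ _)
  rw [h1]
  simp only [Finset.sum_apply, Pi.smul_apply, (ee_bC _).1, (ee_bC _).2, smul_zero, Finset.sum_const_zero, and_true]
  intro k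
  rw [ee, Finset.sum_apply]
  rfl

theorem exists_iota {a : Fin (m + 1) → ℤ} (ha : IsRoot cs (isCartan (m + 1)) a) (h0 : 3 ∣ ee a (Fin.last m)) :
    ∃ c, IsRoot cs' (isCartan m) c ∧ iota (bC m) c = a := by
  obtain ⟨⟨x, s⟩, ⟨y, t⟩, ok, e⟩ := exists_of_isRoot cs ha
  have h1 : x ≠ Fin.last m ∧ y ≠ Fin.last m := by
    rw [e, Pi.add_apply, wt_apply, wt_apply] at h0
    rcases ok with h | h
    · constructor <;> rintro rfl <;> cases s <;> cases t <;> simp_all only [eq_comm, ↓ _root_.reduceIte, _root_.Bool.false_eq_true, _root_.Int.reduceNeg, _root_.eq_comm, _root_.ne_eq, _root_.add_zero, _root_.dvd_neg, _root_.Int.reduceDvd, _root_.zero_add]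
    · obtain ⟨rfl, rfl⟩ := Prod.mk.inj h
      rw [and_self]
      rintro rfl
      cases s <;> simp at h0
  obtain ⟨x, rfl⟩ := Fin.exists_castSucc_eq.2 h1.1
  obtain ⟨y, rfl⟩ := Fin.exists_castSucc_eq.2 h1.2
  obtain ⟨c, hc, e'⟩ := rt_of_ok (cs := cs') (a := (x, s)) (b := (y, t)) (ok.imp (fun h e => h (congrArg Fin.castSucc e)) fun h => by
    simpa using h)
  refine ⟨c, hc, ee_injective (funext fun k => ?_)⟩
  induction k using Fin.lastCases with
  | last => simp [(ee_iota c).2, e, wt_apply, h1.1.symm, h1.2.symm]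
  | cast k => simp [(ee_iota c).1, e, e', wt_apply]

theorem fn_last (j : Fin m) : fn cs (isCartan (m + 1)) (wC cs j) (iC m j) (sr (Fin.last m)) = 0 := by
  have := j.2
  rw [fn_apply, wC, iC]
  split_ifs <;>
    simp only [inv_one, map_one, Module.End.one_apply, inv_simple, rep_simple_eq, sub_eq_add_neg, ← neg_smul,
      pairing_add, pairing_smul, ps, A_apply, Fin.ext_iff, Fin.val_castSucc, Fin.val_last] <;>
    simp (disch := omega) only [if_pos, if_neg] <;> decide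

theorem fix (j : Fin m) :
    rep cs (isCartan (m + 1)) (rfl' cs (wC cs j) (iC m j)) (sr (Fin.last m)) = sr (Fin.last m) := by
  rw [rep_rfl', rf_apply, fn_last, zero_smul, sub_zero]

theorem phi_conj (u : W') (j : Fin m) : (sys cs).phi cs' (isCartan m) (u * cs'.simple j * u⁻¹) =
    rfl' cs ((sys cs).phi cs' (isCartan m) u * wC cs j) (iC m j) := by
  rw [map_mul, map_mul, map_inv, SubSys.phi_simple, rfl', rfl']
  group

theorem stab (v : W) (hv : rep cs (isCartan (m + 1)) v (sr (Fin.last m)) = sr (Fin.last m)) :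
    v ∈ ((sys cs).phi cs' (isCartan m)).range := by
  have := finite_W cs
  refine St.mem_of_wt cs (isCartan (m + 1)) (x := St.pr (A (m + 1)) (Fin.last m)) (m := 3) (β := 0) (by norm_num)
    (fun w i h => ?_) ?_
  · rw [St.pr_apply, ← Cf_ee, Cf, dif_neg (by simp)] at h
    obtain ⟨c, ⟨u, j, rfl⟩, e⟩ := exists_iota cs cs' ⟨w, i, rfl⟩ h
    refine ⟨u * cs'.simple j * u⁻¹, (phi_conj cs cs' u j).trans (rfl_eq cs (isCartan (m + 1)) ?_)⟩
    rw [rep_mul_apply, ← (sys cs).eq, ← iota_sr (bC m), SubSys.rep_phi, e]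
  · rw [map_zero, smul_zero, add_zero]
    refine AddMonoidHom.ext fun a => ?_
    rw [St.ac_apply, St.pr_apply, St.pr_apply, ← cpr_sr cs (isCartan (m + 1)), ← cpr_sr cs (isCartan (m + 1))]
    conv_lhs => rw [← hv]
    exact cpr_rep _ _ _ _ (isRoot_sr _ _ _)

theorem inv (j : Fin m) (γ : Fin (m + 1) → ℤ) (hr : IsRoot cs (isCartan (m + 1)) γ) (h0 : 0 ≤ γ)
    (h1 : rep cs (isCartan (m + 1)) (rfl' cs (wC cs j) (iC m j)) γ ≤ 0) :
    ∃ a c : ℤ, 0 < a ∧ a • γ = bC m j + c • sr (Fin.last m) := by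
  have hj := j.2
  have h2 : γ = γ j.castSucc • sr j.castSucc + γ (Fin.last m) • sr (Fin.last m) := funext fun k => by
    by_cases k1 : k = j.castSucc
    · simp [k1, sr_self, sr_ne (Fin.castSucc_ne_last j)]
    by_cases k2 : k = Fin.last m
    · simp [k2, sr_self, sr_ne (Fin.castSucc_ne_last j).symm]
    have := h1 k
    rw [rep_rfl', rf_apply, ← (sys cs).eq, Pi.sub_apply, Pi.smul_apply, bC_ne j k1 k2, smul_zero, sub_zero] at this
    simp [sr_ne k1, sr_ne k2, le_antisymm this (h0 k)]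
  have h3 : γ j.castSucc ≠ 0 := fun h => by
    rw [h, zero_smul, zero_add] at h2
    rw [h2, map_zsmul, fix, ← h2] at h1
    exact hr.not_pos_neg h0 h1
  have h4 : (0 : ℤ) ≤ γ j.castSucc := h0 _
  by_cases hs : (j : ℕ) + 1 < m
  · refine ⟨1, 0, one_pos, ?_⟩
    rw [one_smul, zero_smul, add_zero, bC, if_pos hs]
    by_contra h5
    rw [wC, iC, if_pos hs, if_pos hs, rfl', one_mul, inv_one, mul_one] at h1
    exact (hr.act _).not_pos_neg (hr.simple_nonneg h0 _ h5) h1
  · obtain ⟨x, y, -, e⟩ := exists_of_isRoot cs hr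
    have h5 := congrFun e j.castSucc
    rw [h2, ee_add, ee_smul, ee_smul, ee_sr, ee_sr] at h5
    simp only [Pi.add_apply, Pi.smul_apply, smul_eq_mul, bt_apply, Fin.val_castSucc, Fin.val_last, wt_apply] at h5
    have h6 : γ j.castSucc = 1 ∨ γ j.castSucc = 2 := by
      have := j.2
      simp (disch := omega) only [if_pos, if_neg, if_true] at h5
      split_ifs at h5 <;> omega
    rw [bC, if_neg hs]
    rcases h6 with h6 | h6 <;> rw [h6] at h2
    · exact ⟨2, 2 * γ (Fin.last m) - 1, two_pos, by rw [congrArg (_ • ·) h2]; module⟩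
    · exact ⟨1, γ (Fin.last m) - 1, one_pos, by rw [congrArg (_ • ·) h2]; module⟩

/-- the embedding of the coroot lattices -/
def bT (m : ℕ) (j : Fin m) : Fin (m + 1) → ℤ :=
  if (j : ℕ) + 1 < m then sr j.castSucc else sr j.castSucc + sr (Fin.last m)

theorem th_iota (c : Fin m → ℤ) : th (iota (bC m) c) = iota (bT m) (th c) :=
  DFunLike.congr_fun (ext_sr' (x := th.comp (iota (bC m)).toAddMonoidHom) (y := (iota (bT m)).toAddMonoidHom.comp th)
    fun j => by
      show th (iota (bC m) (sr j)) = iota (bT m) (th (sr j))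
      have := j.2
      rw [th_sr, map_zsmul, iota_sr, iota_sr, bC, bT, dd]
      split_ifs
      · rw [th_sr, dd, if_pos (by simp)]
      · rw [map_add, map_zsmul, th_sr, th_sr, dd, dd, if_pos (by simp), if_neg (by simp)]
        module) c

theorem sq (x : St.Fm (Fin (m + 1))) (v : W')
    (hv : ∀ a, 2 ∣ x (rep cs (isCartanT (m + 1)) ((sys cs).phi cs' (isCartan m) v) a) - x a) :
    v * v ∈ Subgroup.closure {r | ∃ (u : W') (j : Fin m), wC cs j = 1 ∧ r = u * cs'.simple j * u⁻¹ ∧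
      2 ∣ x (rep cs (isCartanT (m + 1)) ((sys cs).phi cs' (isCartan m) u) (sr (iC m j)))} := by
  have := finite_W cs'
  set φ := (sys cs).phi cs' (isCartan m) with hφ
  set H := Subgroup.closure {r | ∃ (u : W') (j : Fin m), wC cs j = 1 ∧ r = u * cs'.simple j * u⁻¹ ∧
    2 ∣ x (rep cs (isCartanT (m + 1)) (φ u) (sr (iC m j)))} with hH
  let E : Set W' := {e | (∀ a, Lg a → rep cs' (isCartan m) e a = a ∨ rep cs' (isCartan m) e a = -a) ∧
    ∀ y, 2 ∣ x (rep cs (isCartanT (m + 1)) (φ e) y) - x y}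
  have e1 : ∀ e ∈ E, ∀ d ∈ H, e * d * e⁻¹ ∈ H := fun e he d hd => by
    refine (Subgroup.closure_le (H.comap (MulAut.conj e).toMonoidHom)).2 ?_ hd
    rintro _ ⟨u, j, h1, rfl, h2⟩
    refine Subgroup.subset_closure ⟨e * u, j, h1, ?_, ?_⟩
    · show e * _ * e⁻¹ = _
      group
    · rw [map_mul, rep_mul_apply]
      exact (dvd_sub_left h2).1 (he.2 _)
  have e2 : ∀ e ∈ E, e * e = 1 := fun e he => eq_one_of_fix cs' (isCartan m) _ fun k =>
    eq_of_lg cs' (f := (rep cs' (isCartan m) (e * e)).toAddMonoidHom) (g := AddMonoidHom.id _) (fun a k ha => by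
      show rep cs' (isCartan m) (e * e) a = a
      rcases he.1 a ⟨_, ha⟩ with h | h
      · rw [rep_mul_apply, h, h]
      · rw [rep_mul_apply, h, map_neg, h, neg_neg]) _
  have e3 : ∀ e ∈ E, ∀ e' ∈ E, e * e' ∈ E := fun e he e' he' => ⟨fun a ha => by
    rw [rep_mul_apply]
    rcases he'.1 a ha with h | h <;> rcases he.1 a ha with h' | h' <;> simp only [h, h', _root_.true_or, _root_.or_true, _root_.map_neg, _root_.neg_neg], fun y => by
      rw [map_mul, rep_mul_apply]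
      have := dvd_add (he.2 (rep cs (isCartanT (m + 1)) (φ e') y)) (he'.2 y)
      rwa [sub_add_sub_cancel] at this⟩
  have e4 : (1 : W') ∈ E := ⟨fun a _ => Or.inl (by simp only [_root_.map_one, _root_.Module.End.one_apply]), fun y => by simp only [_root_.map_one, _root_.Module.End.one_apply, _root_.sub_self, _root_.dvd_zero]⟩
  let P : Subgroup W' :=
    { carrier := {v | ∃ d ∈ H, ∃ e ∈ E, v = d * e}
      one_mem' := ⟨1, one_mem _, 1, e4, (one_mul 1).symm⟩
      mul_mem' := by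
        rintro _ _ ⟨d, hd, e, he, rfl⟩ ⟨d', hd', e', he', rfl⟩
        exact ⟨d * (e * d' * e⁻¹), mul_mem hd (e1 e he d' hd'), e * e', e3 e he e' he', by group⟩
      inv_mem' := by
        rintro _ ⟨d, hd, e, he, rfl⟩
        refine ⟨e * d⁻¹ * e⁻¹, e1 e he _ (inv_mem hd), e, he, ?_⟩
        rw [mul_inv_rev, inv_eq_of_mul_eq_one_right (e2 e he), mul_assoc, e2 e he, mul_one] }
  have key : ∀ (u : W') c, th (iota (bC m) (rep cs' (isCartan m) u c)) =
      rep cs (isCartanT (m + 1)) (φ u) (th (iota (bC m) c)) := fun u c => by rw [rep_th, SubSys.rep_phi]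
  obtain ⟨z, hz⟩ := St.exists_div cs (isCartanT (m + 1)) two_pos hv
  obtain ⟨β, hβ⟩ := comp_th (z.comp (iota (bT m)).toAddMonoidHom)
  obtain ⟨d, hd, e, he, rfl⟩ : v ∈ P := by
    refine St.mem_of_wt cs' (isCartan m) (x := x.comp (th.comp (iota (bC m)).toAddMonoidHom)) (m := 2) (β := β) two_pos
      (fun u j h => ?_) (AddMonoidHom.ext fun a => ?_)
    · by_cases hs : (j : ℕ) + 1 < m
      · refine ⟨_, Subgroup.subset_closure ⟨u, j, if_pos hs, rfl, ?_⟩, 1, e4, (mul_one _).symm⟩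
        change 2 ∣ x (th (iota (bC m) (rep cs' (isCartan m) u (sr j)))) at h
        rwa [key, iota_sr, bC, if_pos hs, th_sr, dd, if_pos (by simp), one_smul, ← if_pos (c := (j : ℕ) + 1 < m) hs
          (t := j.castSucc) (e := Fin.last m)] at h
      · refine ⟨1, one_mem _, _, ⟨fun a => lg_refl cs' u hs, fun y => ?_⟩, (one_mul _).symm⟩
        rw [hφ, phi_conj, iC, if_neg hs]
        exact even_long cs _ (by simp) x y
    · rw [hβ]
      show x (th (iota (bC m) (rep cs' (isCartan m) v a))) = x (th (iota (bC m) a)) + 2 • z (iota (bT m) (th a))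
      rw [key, ← St.ac_apply, hz, ← th_iota]
      rfl
  have := mul_mem hd (e1 e he d hd)
  rwa [inv_eq_of_mul_eq_one_right (e2 e he), ← mul_assoc, ← mul_assoc, mul_assoc (d * e)] at this

end sub

end K

theorem ks : KS := fun m W W' _ _ cs cs' =>
  { sys := K.sys cs
    pos := fun j => by
      rw [bC]
      split_ifs
      exacts [sr_nonneg _, add_nonneg (smul_nonneg zero_le_two (sr_nonneg _)) (sr_nonneg _)]
    fix := K.fix cs
    stab := K.stab cs cs'
    par := fun j => by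
      have h1 : ∀ k ∈ ({j.castSucc, Fin.last m} : Set (Fin (m + 1))), cs.simple k ∈ WJ cs {j.castSucc, Fin.last m} :=
        fun k hk => Subgroup.subset_closure ⟨k, hk, rfl⟩
      refine ⟨{j.castSucc, Fin.last m}, Or.inr rfl, ?_, fun k hk => ?_⟩
      · rw [rfl', wC, iC]
        split_ifs
        · simpa using h1 _ (Or.inl rfl)
        · exact mul_mem (mul_mem (h1 _ (Or.inl rfl)) (h1 _ (Or.inr rfl))) (inv_mem (h1 _ (Or.inl rfl)))
      · by_contra h
        exact (K.bC_self k).ne' (hk.2 _ (by simp [h, Fin.castSucc_ne_last]))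
    inv := K.inv cs
    neg := K.exists_neg' cs
    sq := K.sq cs cs' }

end Cfsg.Agent.ODD.C3
end

-- part: ODD/C3/Q
section
/-!
# ODD / GAL: `PSp_{2n}(q)`, `q ≡ 3 mod 4`: the idempotent of rank one and the parity (helper22, task 337)

`qs : QS`, `tw_fc`, `tw_mp`.
-/

set_option autoImplicit false
set_option linter.unusedSectionVars false

open Cfsg
open scoped ComplexConjugate

namespace Cfsg.Agent.ODD.C3.Q

open CoxeterSystem Cfsg.Agent.ChevalleyStructure.CoxeterGeom Cfsg.Agent.Tits.Roots Cfsg.Agent.Tits.Core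
  Cfsg.Agent.Nodes.Reps Cfsg.Agent.Nodes.BNOf Cfsg.Agent.Nodes.Bruhat
  Cfsg.Agent.H684.OQ Cfsg.Agent.H670 Cfsg.Agent.H670.RankOne Cfsg.Agent.ODD.PS.C3 Cfsg.Agent.Characters.Core

/-! ### the group algebra -/

section alg

variable {G Y : Type} [Group G] [Group Y]

theorem lin_eq (χ : G → ℂ) (a : Al G) : lin χ a = Blocks.GroupAlg.lin χ a := by
  induction a using al_induction with
  | hd g => rw [lin_dl]; exact ((Blocks.GroupAlg.lin_single χ g 1).trans (one_mul _)).symm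
  | ha a b ha hb => simp only [map_add, ha, hb]
  | hs c a ha => simp only [map_smul, ha]

theorem lin_comb {ι : Type} [Fintype ι] (m : ι → ℕ) (f : ι → G → ℂ) (a : Al G) :
    lin (∑ i, m i • f i) a = ∑ i, m i * lin (f i) a := by
  induction a using al_induction with
  | hd g => simp only [lin_dl, Finset.sum_apply, nsmul_eq_mul, Pi.mul_apply, Pi.natCast_apply]
  | ha a b ha hb => simp only [map_add, ha, hb, mul_add, Finset.sum_add_distrib]
  | hs c a ha => simp only [map_smul, ha, smul_eq_mul, Finset.mul_sum, mul_left_comm]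

theorem comm_mp (Φ : G →* Y) {e : Al Y} (h : ∀ s, e * dl (Φ s) = dl (Φ s) * e) (a : Al G) :
    e * mp Φ a = mp Φ a * e := by
  induction a using al_induction with
  | hd g => rw [mp_dl, h]
  | ha a b ha hb => rw [map_add, mul_add, add_mul, ha, hb]
  | hs c a ha => rw [map_smul, mul_smul_comm, smul_mul_assoc, ha]

theorem lin_mp (Φ : G →* Y) (χ : Y → ℂ) (e : Al Y) (a : Al G) :
    lin (fun s => lin χ (e * dl (Φ s))) a = lin χ (e * mp Φ a) := by
  induction a using al_induction with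
  | hd g => rw [lin_dl, mp_dl]
  | ha a b ha hb => simp only [map_add, mul_add, ha, hb]
  | hs c a ha => simp only [map_smul, mul_smul_comm, ha]

/-- the character on the image of an idempotent -/
theorem isCharacter_corner (Φ : G →* Y) {χ : Y → ℂ} (hχ : IsCharacter Y χ) {e : Al Y} (he : e * e = e)
    (h : ∀ s, e * dl (Φ s) = dl (Φ s) * e) : IsCharacter G fun s => lin χ (e * dl (Φ s)) := by
  obtain ⟨n, ρ, rfl⟩ := hχ
  have hP : LinearMap.IsProj (LinearMap.range (ρ.asAlgebraHom e)) (ρ.asAlgebraHom e) :=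
    (LinearMap.isProj_range_iff_isIdempotentElem _).2 (by rw [IsIdempotentElem, ← map_mul, he])
  let r : Representation ℂ G (LinearMap.range (ρ.asAlgebraHom e)) :=
    { toFun := fun s => hP.codRestrict ∘ₗ ρ.asAlgebraHom (dl (Φ s)) ∘ₗ Submodule.subtype _
      map_one' := by
        ext1 v
        apply Subtype.ext
        show ρ.asAlgebraHom e (ρ.asAlgebraHom (dl (Φ 1)) v) = v
        rw [map_one, dl_one, map_one]
        exact hP.map_id _ v.2
      map_mul' := fun s t => by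
        ext1 v
        apply Subtype.ext
        show ρ.asAlgebraHom e (ρ.asAlgebraHom (dl (Φ (s * t))) v) = ρ.asAlgebraHom e (ρ.asAlgebraHom (dl (Φ s))
          (ρ.asAlgebraHom e (ρ.asAlgebraHom (dl (Φ t)) v)))
        simp only [← Module.End.mul_apply, ← map_mul ρ.asAlgebraHom]
        rw [map_mul Φ, dl_mul, ← mul_assoc (dl (Φ s)), ← h s, ← mul_assoc e (e * _), ← mul_assoc e e, he, mul_assoc] }
  have h1 : r.character = fun s => lin ρ.character (e * dl (Φ s)) := by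
    funext s
    rw [lin_eq, ← Blocks.GroupAlg.trace_asAlgebraHom, h s, map_mul]
    show LinearMap.trace ℂ _ (hP.codRestrict ∘ₗ ρ.asAlgebraHom (dl (Φ s)) ∘ₗ Submodule.subtype _) = _
    rw [LinearMap.trace_comp_comm', LinearMap.comp_assoc, hP.subtype_comp_codRestrict]
    rfl
  rw [← h1]
  exact isCharacter_of_rep r

theorem _root_.Cfsg.Agent.ODD.C3.tw_mp (σ : ℂ ≃+* ℂ) (Φ : G →* Y) {δ : G ≃* G} {d : Y ≃* Y} (h : ∀ s, d (Φ s) = Φ (δ s)) (a : Al G) :
    AH.tw σ d (mp Φ a) = mp Φ (AH.tw σ δ a) := by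
  induction a using al_induction with
  | hd g => rw [mp_dl, AH.tw_dl, AH.tw_dl, mp_dl, h]
  | ha a b ha hb => simp only [map_add, ha, hb]
  | hs c a ha => rw [map_smul, AH.tw_smul, AH.tw_smul, map_smul, ha]

variable [Finite G]

theorem cen_def [Fintype G] (ψ : G → ℂ) : cen ψ = (ψ 1 * (Nat.card G : ℂ)⁻¹) • ∑ g : G, ψ g⁻¹ • dl g := by
  unfold cen
  congr!

theorem cen_eq (ψ : IrrCharacter G) : cen (ψ : G → ℂ) = Blocks.GroupAlg.idem {ψ} := by
  classical
  have := finite_irr (G := G)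
  have := Fintype.ofFinite (IrrCharacter G)
  have := Fintype.ofFinite G
  rw [cen_def, H992.HT.eq_sum (Blocks.GroupAlg.idem {ψ}), Finset.smul_sum]
  refine Finset.sum_congr rfl fun g _ => ?_
  rw [smul_smul, Blocks.GroupAlg.coeff_idem, Blocks.GroupAlg.blockCoeff_eq_sum,
    isCharacter_apply_inv (isIrr_isCharacter ψ.2)]
  simp only [Set.mem_singleton_iff, Finset.sum_ite_eq', Finset.mem_univ, if_true]
  congr 1
  ring

theorem cen_comm (ψ : IrrCharacter G) (a : Al G) : cen (ψ : G → ℂ) * a = a * cen (ψ : G → ℂ) := by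
  rw [cen_eq]
  exact H992.HT.idem_comm _ a

theorem cen_mul_cen (ψ : IrrCharacter G) : cen (ψ : G → ℂ) * cen (ψ : G → ℂ) = cen (ψ : G → ℂ) := by
  rw [cen_eq]
  exact Blocks.GroupAlg.idem_mul_idem _

theorem lin_cen_self (ψ : IrrCharacter G) (a : Al G) : lin (ψ : G → ℂ) (cen (ψ : G → ℂ) * a) = lin (ψ : G → ℂ) a := by
  classical
  rw [cen_eq, lin_eq, lin_eq, H992.HT.lin_idem_mul, if_pos (Set.mem_singleton ψ)]

theorem lin_cen_ne {ψ χ : IrrCharacter G} (h : χ ≠ ψ) (a : Al G) : lin (χ : G → ℂ) (cen (ψ : G → ℂ) * a) = 0 := by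
  classical
  rw [cen_eq, lin_eq, H992.HT.lin_idem_mul, if_neg (show χ ∉ ({ψ} : Set (IrrCharacter G)) from h)]

theorem cen_idem (ψ : IrrCharacter G) {e : Al G} (he : e * e = e) :
    cen (ψ : G → ℂ) * e * (cen (ψ : G → ℂ) * e) = cen (ψ : G → ℂ) * e := by
  rw [mul_assoc, ← mul_assoc e, ← cen_comm, mul_assoc _ e e, he, ← mul_assoc, cen_mul_cen]

theorem tw_cen (σ : ℂ ≃+* ℂ) (δ : G ≃* G) {ψ : G → ℂ} (hψ : ∀ s, ψ (δ s) = σ (ψ s)) : AH.tw σ δ (cen ψ) = cen ψ := by
  have := Fintype.ofFinite G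
  rw [cen_def, AH.tw_smul, map_sum, map_mul, map_inv₀, map_natCast, ← hψ, map_one]
  congr 1
  refine Fintype.sum_equiv δ.toEquiv _ _ fun g => ?_
  rw [AH.tw_smul, AH.tw_dl, ← hψ, map_inv]
  rfl

theorem mp_av_mul (Φ : G →* Y) (P : Subgroup G) {b : Al Y} (h : ∀ p ∈ P, dl (Φ p) * b = b) :
    mp Φ (av (1 : P →* ℂˣ)) * b = b := by
  have := Fintype.ofFinite P
  rw [av_def, map_smul, map_sum, smul_mul_assoc, Finset.sum_mul, Finset.sum_congr rfl (g := fun _ => b) fun u _ => by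
    rw [MonoidHom.one_apply, inv_one, Units.val_one, one_smul, mp_dl, h u u.2], Finset.sum_const, Finset.card_univ,
    ← Nat.card_eq_fintype_card, ← Nat.cast_smul_eq_nsmul ℂ, smul_smul, inv_mul_cancel₀ (card_ne P), one_smul]

variable [Finite Y]

theorem eq_av {Q : Subgroup Y} {E : Al Y} (h1 : E * av (1 : Q →* ℂˣ) = av (1 : Q →* ℂˣ)) (h2 : ∀ u ∈ Q, E * dl u = E) :
    E = av (1 : Q →* ℂˣ) := by
  rw [← h1, ← mul_one (E * _)]
  refine (avg_eq _ fun u => ?_).symm
  rw [MonoidHom.one_apply, inv_one, Units.val_one, one_smul, mul_one, h2 u u.2]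

theorem dl_mul_av_one {Q : Subgroup Y} {u : Y} (hu : u ∈ Q) : dl u * av (1 : Q →* ℂˣ) = av (1 : Q →* ℂˣ) := by
  have := dl_mul_av (1 : Q →* ℂˣ) ⟨u, hu⟩
  rwa [MonoidHom.one_apply, Units.val_one, one_smul] at this

theorem av_one_mul_dl {Q : Subgroup Y} {u : Y} (hu : u ∈ Q) : av (1 : Q →* ℂˣ) * dl u = av (1 : Q →* ℂˣ) := by
  have := av_mul_dl (1 : Q →* ℂˣ) ⟨u, hu⟩
  rwa [MonoidHom.one_apply, Units.val_one, one_smul] at this

theorem mp_av (Φ : G →* Y) {P : Subgroup G} {Q : Subgroup Y} (h : ∀ y, y ∈ Q ↔ ∃ p ∈ P, Φ p = y) :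
    mp Φ (av (1 : P →* ℂˣ)) = av (1 : Q →* ℂˣ) := by
  refine eq_av (mp_av_mul Φ P fun p hp => dl_mul_av_one ((h _).2 ⟨p, hp, rfl⟩)) fun u hu => ?_
  obtain ⟨p, hp, rfl⟩ := (h u).1 hu
  rw [← mp_dl, ← map_mul, av_one_mul_dl hp]

end alg

/-! ### the root group -/

section root

variable {F : Type} [Field F] [Fintype F]

theorem x_add (r s : F) : SL2.x (r + s) = SL2.x r * SL2.x s := (SL2.data F).X_add r s

theorem eph_mul_dl (φ : Multiplicative F →* ℂˣ) (s : F) :
    eph φ * dl (SL2.x s) = ((φ (Multiplicative.ofAdd s) : ℂˣ) : ℂ) • eph φ := by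
  rw [eph, smul_mul_assoc, smul_comm ((φ (Multiplicative.ofAdd s) : ℂˣ) : ℂ)]
  congr 1
  rw [Finset.sum_mul, Finset.smul_sum]
  refine Fintype.sum_equiv (Equiv.addRight s) _ _ fun r => ?_
  rw [Equiv.coe_addRight, smul_mul_assoc, smul_smul, ofAdd_add, map_mul, mul_inv, Units.val_mul, x_add, dl_mul,
    mul_left_comm, Units.mul_inv, mul_one]

theorem mul_eph {φ : Multiplicative F →* ℂˣ} {a : Al (S2 F)}
    (h : ∀ s, a * dl (SL2.x s) = ((φ (Multiplicative.ofAdd s) : ℂˣ) : ℂ) • a) : a * eph φ = a := by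
  rw [eph, mul_smul_comm, Finset.mul_sum, Finset.sum_congr rfl (g := fun _ => a) fun r _ => by
    rw [mul_smul_comm, h, smul_smul, Units.inv_mul, one_smul], Finset.sum_const, Finset.card_univ,
    ← Nat.cast_smul_eq_nsmul ℂ, smul_smul, inv_mul_cancel₀ (cardF_ne F), one_smul]

theorem eph_mul_eph (φ : Multiplicative F →* ℂˣ) : eph φ * eph φ = eph φ := mul_eph (eph_mul_dl φ)

theorem mp_eph_mul {Y : Type} [Group Y] (Φ : S2 F →* Y) {b : Al Y} (h : ∀ s, dl (Φ (SL2.x s)) * b = b) :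
    mp Φ (eph 1) * b = b := by
  rw [eph, map_smul, map_sum, smul_mul_assoc, Finset.sum_mul, Finset.sum_congr rfl (g := fun _ => b) fun u _ => by
    rw [MonoidHom.one_apply, inv_one, Units.val_one, one_smul, mp_dl, h u], Finset.sum_const, Finset.card_univ,
    ← Nat.cast_smul_eq_nsmul ℂ, smul_smul, inv_mul_cancel₀ (cardF_ne F), one_smul]

theorem lin_eph (χ : S2 F → ℂ) (c : F) : lin χ (eph (psiHom c)) = (SL2.data F).cf χ c := by
  rw [eph, map_smul, map_sum, Data.cf_def, four_def, smul_eq_mul]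
  congr 1
  refine Finset.sum_congr rfl fun r _ => ?_
  rw [map_smul, lin_dl, smul_eq_mul, mul_comm, ← map_inv, psiHom_apply, toAdd_inv, toAdd_ofAdd, neg_mul]
  rfl

theorem psiHom_zero : psiHom (0 : F) = 1 := by
  refine MonoidHom.ext fun s => Units.ext ?_
  rw [psiHom_apply, mul_zero, AddChar.map_zero_eq_one]
  rfl

theorem psiHom_neg (c : F) : psiHom (-c) = (psiHom c)⁻¹ := by
  refine MonoidHom.ext fun s => Units.ext ?_
  rw [MonoidHom.inv_apply, ← map_inv, psiHom_apply, psiHom_apply, toAdd_inv, neg_mul, mul_neg]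

theorem exists_psiHom (φ : Multiplicative F →* ℂˣ) : ∃ c : F, psiHom c = φ := by
  have hinj : Function.Injective (psiHom : F → Multiplicative F →* ℂˣ) := fun c d h => by
    apply AddChar.to_mulShift_inj_of_isPrimitive (psi_prim F)
    ext s
    rw [AddChar.mulShift_apply, AddChar.mulShift_apply, mul_comm c, mul_comm d]
    exact congrArg (fun f : Multiplicative F →* ℂˣ => (f (Multiplicative.ofAdd s) : ℂ)) h
  have := finite_hom (A := Multiplicative F) mul_comm
  exact (hinj.bijective_of_nat_card_le (card_hom (A := Multiplicative F) mul_comm).le).2 φ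

theorem cusp_fc (ψ : IrrCharacter (S2 F)) {φ : Multiplicative F →* ℂˣ} (h1 : lin (ψ : S2 F → ℂ) (eph φ) = 1)
    (h0 : lin (ψ : S2 F → ℂ) (eph 1) = 0) : Cusp (fc ψ φ) φ := by
  have hi : fc (ψ : S2 F → ℂ) φ * fc ψ φ = fc ψ φ := cen_idem ψ (eph_mul_eph φ)
  refine ⟨hi, ?_, fun s => ?_, fun s => ?_⟩
  · rw [fc, ← mul_assoc, ← cen_comm, mul_assoc, eph_mul_eph]
  · obtain ⟨c, hc⟩ := H992.HT.rank_one hi (χ₀ := ψ) (by rw [← lin_eq, fc, lin_cen_self, h1])
      (fun χ hχ => by rw [← lin_eq, fc, lin_cen_ne hχ]) (dl s)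
    refine ⟨c, ?_⟩
    rw [← hc, fc, ← mul_assoc _ (cen _) (eph φ), ← cen_comm, ← mul_assoc, ← mul_assoc, cen_mul_cen]
  · have h2 : cen (ψ : S2 F → ℂ) * eph 1 = 0 := H992.HT.idem_eq_zero (cen_idem ψ (eph_mul_eph 1)) fun χ => by
      rw [← lin_eq]
      by_cases h : χ = ψ
      · rw [h, lin_cen_self, h0]
      · exact lin_cen_ne h _
    rw [fc, mul_assoc (cen _), cen_comm, mul_assoc, h2, mul_zero]

theorem lin_borel [Fintype (S2 F)] {θ : S2 F → ℂ} (hθ : IsClassFunction _ θ) :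
    lin θ (eph 1 * av (1 : (SL2.data F).T →* ℂˣ)) = classInner θ ((SL2.data F).ind 1) := by
  have : Fintype (SL2.data F).T := Fintype.ofFinite _
  rw [(SL2.data F).classInner_ind hθ, classInner_def, ← mul_one (eph 1 * _), lin_av, smul_eq_mul]
  congr 1
  refine Finset.sum_congr rfl fun t _ => ?_
  rw [MonoidHom.one_apply, inv_one, Units.val_one, one_smul, map_one, mul_one, mul_one, Data.jac_def, eph,
    smul_mul_assoc, Finset.sum_mul, map_smul, map_sum, smul_eq_mul]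
  congr 1
  refine Finset.sum_congr rfl fun r _ => ?_
  rw [MonoidHom.one_apply, inv_one, Units.val_one, one_smul, ← dl_mul, lin_dl]
  rfl

/-- **the parity in `SL₂(q)`** -/
theorem parity (hq : Fintype.card F % 4 = 3) {θ : S2 F → ℂ} (hθ : IsCharacter _ θ) {d : ℕ} (hd : Odd d) (h1 : θ 1 = d) :
    (∃ d : ℕ, Odd d ∧ lin θ (eph 1 * av (1 : (SL2.data F).T →* ℂˣ)) = d) ∨
    ∃ ψ : S2 F → ℂ, IsIrrCharacter (S2 F) ψ ∧ Odd (charDegree ψ) ∧ ∀ φ : Multiplicative F →* ℂˣ, φ ≠ 1 →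
      ∃ φ', (φ' = φ ∨ φ' = φ⁻¹) ∧ Cusp (fc ψ φ') φ' ∧ ∃ d : ℕ, Odd d ∧ lin θ (fc ψ φ') = d := by
  classical
  have := finite_irr (G := S2 F)
  have : Fintype (IrrCharacter (S2 F)) := Fintype.ofFinite _
  have : Fintype (S2 F) := Fintype.ofFinite _
  have hnu : ¬ IsSquare (-1 : F) := fun h => FiniteField.isSquare_neg_one_iff.1 h hq
  obtain ⟨h, hh, hodd⟩ : ∃ h, Fintype.card F = 2 * h + 1 ∧ Odd h :=
    ⟨Fintype.card F / 2, by omega, by rw [Nat.odd_iff]; omega⟩
  obtain ⟨m, rfl⟩ := exists_nat_comb hθ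
  obtain ⟨St, hSt⟩ : ∃ St : IrrCharacter (S2 F), SL2.ty (-1) St = (1, 1, 1) := by
    obtain ⟨a, ha⟩ := Finset.card_pos.1 (lt_of_lt_of_eq one_pos (SL2.counts hnu hh).2.2.2.2.1.symm)
    exact ⟨a, (Finset.mem_filter.1 ha).2⟩
  have hT := SL2.ty_triv (nu := (-1 : F)) (neg_ne_zero.2 one_ne_zero)
  have dS : charDegree (St : S2 F → ℂ) = Fintype.card F := by rw [PS.S2.deg_ty hnu St hh, hSt, hh]; ring
  have dT : charDegree ((SL2.triv : IrrCharacter (S2 F)) : S2 F → ℂ) = 1 := by rw [PS.S2.deg_ty hnu _ hh, hT]; rfl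
  have hne : St ≠ SL2.triv := fun e => by
    rw [e, hT] at hSt
    exact absurd hSt (by decide)
  have h2 : lin (∑ ψ : IrrCharacter (S2 F), m ψ • (ψ : S2 F → ℂ)) (eph 1 * av (1 : (SL2.data F).T →* ℂˣ)) =
      (m St + m SL2.triv : ℕ) := by
    have h3 := (SL2.eq_ind_sub_one St.2 (by rw [Blocks.Basic.irr_one_eq_charDegree St.2, dS])).2.2
    rw [lin_borel (isCharacter_isClassFunction hθ), ← sub_add_cancel ((SL2.data F).ind 1) 1, ← h3,
      classInner_add_right, classInner_sum_nsmul_irr, Nat.cast_add]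
    congr 1
    exact classInner_sum_nsmul_irr m SL2.triv
  by_cases h3 : Odd (m St + m SL2.triv)
  · exact Or.inl ⟨_, h3, h2⟩
  right
  have h4 : d = ∑ ψ : IrrCharacter (S2 F), m ψ * charDegree (ψ : S2 F → ℂ) := by
    rw [Finset.sum_apply] at h1
    simp only [Pi.smul_apply, nsmul_eq_mul, fun ψ : IrrCharacter (S2 F) => Blocks.Basic.irr_one_eq_charDegree ψ.2] at h1
    exact_mod_cast h1.symm
  obtain ⟨ψ, h5, h6⟩ : ∃ ψ ∈ (Finset.univ.erase St).erase SL2.triv, Odd (m ψ * charDegree (ψ : S2 F → ℂ)) := by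
    by_contra h5
    push Not at h5
    have h6 := Finset.even_sum _ fun ψ hψ => Nat.not_odd_iff_even.1 (h5 ψ hψ)
    rw [← Finset.add_sum_erase _ _ (Finset.mem_univ St), ← Finset.add_sum_erase _ _
      (Finset.mem_erase.2 ⟨hne.symm, Finset.mem_univ SL2.triv⟩), dS, dT, hh, mul_one, mul_add, mul_one,
      mul_left_comm] at h4
    rw [Nat.odd_iff] at hd h3
    rw [Nat.even_iff] at h6
    omega
  obtain ⟨h7, h8⟩ := Nat.odd_mul.1 h6
  have h9 : SL2.ty (-1) ψ = (0, 1, 0) ∨ SL2.ty (-1) ψ = (0, 0, 1) := by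
    have h10 := h8
    rw [PS.S2.deg_ty hnu ψ hh] at h10
    rcases PS.S2.ty_odd hnu ψ h8 with e | e | e | e | e | e
    · exact absurd (PS.S2.eq_of_ty hnu h8 (hT.trans e.symm)).symm (Finset.mem_erase.1 h5).1
    · rw [e, Nat.odd_iff] at h10
      rw [Nat.odd_iff] at hodd
      simp only at h10
      (clear * - hodd h10; omega)
    · rw [e, Nat.odd_iff] at h10
      rw [Nat.odd_iff] at hodd
      simp only at h10
      (clear * - hodd h10; omega)
    · exact absurd (PS.S2.eq_of_ty hnu h8 (hSt.trans e.symm)).symm (Finset.mem_erase.1 (Finset.mem_erase.1 h5).2).1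
    · exact Or.inl e
    · exact Or.inr e
  have key : ∀ c : F, (SL2.data F).n ψ c = 1 →
      Cusp (fc ψ (psiHom c)) (psiHom c) ∧
        ∃ d : ℕ, Odd d ∧ lin (∑ ψ : IrrCharacter (S2 F), m ψ • (ψ : S2 F → ℂ)) (fc ψ (psiHom c)) = d := fun c hc => by
    have e1 : lin (ψ : S2 F → ℂ) (eph (psiHom c)) = 1 := by rw [lin_eph, Data.cf_eq_n, hc, Nat.cast_one]
    have e0 : (SL2.data F).n ψ 0 = 0 := by rcases h9 with e | e <;> exact congrArg Prod.fst e
    refine ⟨cusp_fc ψ e1 (by rw [← psiHom_zero, lin_eph, Data.cf_eq_n, e0, Nat.cast_zero]), m ψ, h7, ?_⟩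
    rw [lin_comb, Finset.sum_eq_single ψ (fun χ _ hχ => by rw [fc, lin_cen_ne hχ, mul_zero])
      fun k => absurd (Finset.mem_univ _) k, fc, lin_cen_self, e1, mul_one]
  refine ⟨ψ, ψ.2, h8, fun φ hφ => ?_⟩
  obtain ⟨c, rfl⟩ := exists_psiHom φ
  have hc : c ≠ 0 := fun e => hφ (by rw [e, psiHom_zero])
  have hsq : IsSquare c ↔ ¬ IsSquare (-c) := by
    rw [← quadraticChar_one_iff_isSquare hc, ← quadraticChar_neg_one_iff_not_isSquare, ← neg_one_mul c, map_mul,
      quadraticChar_neg_one_iff_not_isSquare.2 hnu, neg_one_mul, neg_inj]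
  have h10 : (SL2.data F).n ψ c = 1 ∨ (SL2.data F).n ψ (-c) = 1 := by
    rcases h9 with e | e
    · have e1 : (SL2.data F).n ψ 1 = 1 := congrArg (fun p => p.2.1) e
      by_cases k : IsSquare c
      · exact Or.inl ((SL2.n_square ψ hc k).trans e1)
      · exact Or.inr ((SL2.n_square ψ (neg_ne_zero.2 hc) (not_not.1 fun k' => k (hsq.2 k'))).trans e1)
    · have e1 : (SL2.data F).n ψ (-1) = 1 := congrArg (fun p => p.2.2) e
      by_cases k : IsSquare c
      · exact Or.inr ((SL2.n_not_square ψ (hsq.1 k) hnu).trans e1)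
      · exact Or.inl ((SL2.n_not_square ψ k hnu).trans e1)
  rcases h10 with e | e
  · exact ⟨_, Or.inl rfl, key c e⟩
  · exact ⟨_, Or.inr (psiHom_neg c), key (-c) e⟩

end root

/-! ### the node -/

section node

variable {I W Y : Type} [Fintype I] [DecidableEq I] [Group W] [Finite W] [Group Y] [Finite Y]
  {M : CoxeterMatrix I} {cs : CoxeterSystem M W} {A : I → I → ℤ} {h : IsCartan M A} {p : ℕ} {T : Subgroup Y}
  {n : I → Y} {X : (I → ℤ) → Subgroup Y} {F : Type} [Field F] [Fintype F] {R : RGD cs h p T n X} {l : I}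
  {Φ : S2 F →* Y} (N : Nd R l Φ)

include N

theorem mem_norm (s : S2 F) : Φ s ∈ Subgroup.normalizer (VV cs h X l : Set Y) := by
  have hT : T ≤ Subgroup.normalizer (VV cs h X l : Set Y) := R.T_le_normalizer fun _ hx => hx.1
  have hx : ∀ r, Φ (SL2.x r) ∈ Subgroup.normalizer (VV cs h X l : Set Y) := fun r =>
    R.X_le_normalizer_V l ((N.mem _).2 ⟨r, rfl⟩)
  have hw : Φ SL2.wel ∈ Subgroup.normalizer (VV cs h X l : Set Y) := by
    rw [← mul_inv_cancel_left (n l) (Φ SL2.wel)]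
    exact mul_mem (mem_normalizer_iff_cj.2 (R.cj_n_V l)) (hT ((rp_simple cs R.nsys l).unique N.wel))
  rcases (SL2.data F).bruhat s with ⟨r, t, ⟨u, rfl⟩, rfl⟩ | ⟨r, r', t, ⟨u, rfl⟩, rfl⟩
  · rw [map_mul]
    exact mul_mem (hx r) (hT (N.tor u))
  · rw [map_mul, map_mul, map_mul]
    exact mul_mem (mul_mem (mul_mem (hx r) hw) (hT (N.tor u))) (hx r')

theorem eV_comm (s : S2 F) : eV cs h X l * dl (Φ s) = dl (Φ s) * eV cs h X l :=
  (dl_comm_av _ (mem_norm N s) fun _ _ => rfl).symm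

theorem eV_mul_eph : eV cs h X l * mp Φ (eph 1) = eU cs h X := by
  refine eq_av ?_ fun u hu => ?_
  · rw [mul_assoc, mp_eph_mul Φ fun s => dl_mul_av_one (X_le_U l ((N.mem _).2 ⟨s, rfl⟩))]
    have h1 := avg_eq (1 : VV cs h X l →* ℂˣ) (a := 1) (b := eU cs h X) (c := eU cs h X) fun v => by
      rw [MonoidHom.one_apply, inv_one, Units.val_one, one_smul, one_mul, dl_mul_eU (V_le_U l v.2)]
    rwa [one_mul] at h1
  · obtain ⟨v, hv, x, hx, rfl⟩ := exists_vx R l hu
    obtain ⟨s, rfl⟩ := (N.mem _).1 hx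
    have h1 : eV cs h X l * dl v = eV cs h X l := av_one_mul_dl hv
    rw [dl_mul, ← mul_assoc, comm_mp Φ (eV_comm N), mul_assoc _ _ (dl v), h1, ← comm_mp Φ (eV_comm N), mul_assoc,
      ← mp_dl, ← map_mul, eph_mul_dl, MonoidHom.one_apply, Units.val_one, one_smul]

end node

/-- **Task 337.** -/
theorem _root_.Cfsg.Agent.ODD.C3.qs : QS := by
  intro I W Y _ _ _ _ _ _ M cs A h p T n X R F _ _ l Φ N hq χ hχ ⟨d, hd, e⟩
  have h1 := parity hq (isCharacter_corner Φ hχ (e := eV cs h X l) (av_mul_av _) (eV_comm N)) hd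
    (by rw [map_one, dl_one, mul_one, e])
  simp only [lin_mp] at h1
  rw [map_mul (mp Φ), ← mul_assoc, eV_mul_eph N, mp_av Φ (P := (SL2.data F).T) (Q := (Φ.comp SL2.tor).range) fun y =>
    ⟨fun ⟨u, hu⟩ => ⟨_, ⟨u, rfl⟩, hu⟩, by rintro ⟨_, ⟨u, rfl⟩, hu⟩; exact ⟨u, hu⟩⟩] at h1
  exact h1

end Cfsg.Agent.ODD.C3.Q
end

-- part: ODD/C3/PComb
section
/-!
# ODD: sums over `F ^ S` modulo 2 (helper66)
-/

set_option autoImplicit false

namespace Cfsg.Agent.ODD.C3

open Cfsg Cfsg.Agent.ODD.Lev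

/-- twice the algebraic integers -/
def evGrp : AddSubgroup ℂ where
  carrier := {z | Ev z}
  zero_mem' := Ev.zero
  add_mem' := Ev.add
  neg_mem' := Ev.neg

theorem ev_invol {S : Type*} (t : Finset S) {f : S → ℂ} (σ : S → S) (ht : ∀ s ∈ t, σ s ∈ t)
    (hσ : ∀ s ∈ t, σ (σ s) = s) (hf : ∀ s ∈ t, f (σ s) = f s) (hI : ∀ s ∈ t, IsIntegral ℤ (f s))
    (h0 : ∀ s ∈ t, σ s ≠ s) : Ev (∑ s ∈ t, f s) := by
  refine (QuotientAddGroup.eq_zero_iff (N := evGrp) _).1 ?_
  rw [← QuotientAddGroup.mk'_apply, map_sum]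
  refine Finset.sum_involution (fun s _ => σ s) (fun s hs => ?_) (fun s hs _ => h0 s hs) ht hσ
  rw [← map_add, hf s hs, ← two_mul]
  exact (QuotientAddGroup.eq_zero_iff (N := evGrp) _).2 (ev_two_mul (hI s hs))

variable {F : Type*} [Field F] [Fintype F] [DecidableEq F]

theorem ev_pair (h2 : (2 : F) ≠ 0) {g : F → F → ℂ} (hI : ∀ x y, IsIntegral ℤ (g x y)) (h1 : ∀ x y, g x y = g y x)
    (h3 : ∀ x, g (-x) (-x) = g x x) : Ev (∑ x, ∑ y, g x y - g 0 0) := by
  rw [← Finset.sum_product', Finset.univ_product_univ, ← Finset.add_sum_erase _ _ (Finset.mem_univ ((0 : F), (0 : F))),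
    add_sub_cancel_left]
  refine ev_invol _ (fun s => if s.1 = s.2 then (-s.1, -s.2) else (s.2, s.1)) ?_ ?_ ?_ (fun s _ => hI _ _) ?_
  · rintro ⟨x, y⟩ hs
    rw [Finset.mem_erase] at hs ⊢
    refine ⟨fun h => hs.1 ?_, Finset.mem_univ _⟩
    by_cases e : x = y
    · simpa [e] using h
    · simp only [e, if_false, Prod.mk.injEq] at h
      exact Prod.ext h.2 h.1
  · rintro ⟨x, y⟩ -
    by_cases e : x = y
    · simp [e]
    · simp [e, Ne.symm e]
  · rintro ⟨x, y⟩ -
    by_cases e : x = y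
    · simp [e, h3]
    · simp only [e, if_false]
      exact h1 y x
  · rintro ⟨x, y⟩ hs h
    by_cases e : x = y
    · subst e
      simp only [if_true, Prod.mk.injEq, and_self] at h
      have h4 : x = 0 := (mul_eq_zero.1 (by linear_combination -h : (2 : F) * x = 0)).resolve_left h2
      exact (Finset.mem_erase.1 hs).1 (by rw [h4])
    · rw [if_neg e] at h
      exact e (congrArg Prod.snd h)

variable {ι : Type*} [Fintype ι] [DecidableEq ι]

/-- the vectors with support in `S` -/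
def supp (F : Type*) [Field F] [Fintype F] [DecidableEq F] (S : Finset ι) : Finset (ι → F) :=
  Finset.univ.filter fun a => ∀ k, k ∉ S → a k = 0

theorem mem_supp {S : Finset ι} {a : ι → F} : a ∈ supp F S ↔ ∀ k, k ∉ S → a k = 0 := by
  simp only [supp, _root_.Cfsg.Agent.ODD.C3.supp, _root_.Finset.mem_filter, _root_.Finset.mem_univ, _root_.true_and]

theorem sum_supp_insert {S : Finset ι} {i : ι} (hi : i ∉ S) (f : (ι → F) → ℂ) :
    ∑ a ∈ supp F (insert i S), f a = ∑ c ∈ supp F S, ∑ x : F, f (c + Pi.single i x) := by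
  rw [← Finset.sum_product']
  refine (Finset.sum_bij' (fun p _ => p.1 + Pi.single i p.2) (fun a _ => (Function.update a i 0, a i)) ?_ ?_ ?_ ?_
    fun _ _ => rfl).symm
  · rintro ⟨c, x⟩ hp
    refine mem_supp.2 fun k hk => ?_
    rw [Finset.mem_insert, not_or] at hk
    rw [Pi.add_apply, Pi.single_eq_of_ne hk.1, add_zero]
    exact mem_supp.1 (Finset.mem_product.1 hp).1 k hk.2
  · intro a ha
    refine Finset.mem_product.2 ⟨mem_supp.2 fun k hk => ?_, Finset.mem_univ _⟩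
    by_cases e : k = i
    · rw [e]
      exact Function.update_self _ _ _
    · exact (Function.update_of_ne e _ _).trans (mem_supp.1 ha k (by simp [e, hk]))
  · rintro ⟨c, x⟩ hp
    have h1 : c i = 0 := mem_supp.1 (Finset.mem_product.1 hp).1 i hi
    refine Prod.ext (funext fun k => ?_) (by simp [h1])
    by_cases e : k = i
    · simp [e, h1]
    · simp [e]
  · intro a _
    funext k
    by_cases e : k = i
    · simp [e]
    · simp [e]

/-- **the sum over `F ^ S`, `|S|` even** -/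
theorem ev_supp (h2 : (2 : F) ≠ 0) {f : (ι → F) → ℂ} (hI : ∀ a, IsIntegral ℤ (f a))
    (h1 : ∀ (c : ι → F) (i j : ι), i ≠ j → c i = 0 → c j = 0 → ∀ x y,
      f (c + Pi.single i x + Pi.single j y) = f (c + Pi.single i y + Pi.single j x))
    (h3 : ∀ (c : ι → F) (i j : ι), i ≠ j → c i = 0 → c j = 0 → ∀ x,
      f (c + Pi.single i (-x) + Pi.single j (-x)) = f (c + Pi.single i x + Pi.single j x)) :
    ∀ (r : ℕ) (S : Finset ι), S.card = 2 * r → Ev (∑ a ∈ supp F S, f a - f 0) := by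
  intro r
  induction r with
  | zero =>
    intro S hS
    have h4 : supp F S = {0} := by
      ext a
      rw [Finset.card_eq_zero.1 hS, mem_supp, Finset.mem_singleton]
      exact ⟨fun h => funext fun k => h k (Finset.notMem_empty k), fun h k _ => by rw [h]; rfl⟩
    rw [h4, Finset.sum_singleton, sub_self]
    exact Ev.zero
  | succ r ih =>
    intro S hS
    obtain ⟨j, S₁, hj, rfl, h4⟩ := Finset.card_eq_succ.1 (show S.card = 2 * r + 1 + 1 from hS)
    obtain ⟨i, S₂, hi, rfl, h5⟩ := Finset.card_eq_succ.1 h4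
    rw [Finset.mem_insert, not_or] at hj
    have h6 := Ev.sum (supp F S₂) (f := fun c => ∑ x, ∑ y, f (c + Pi.single i x + Pi.single j y) - f c) fun c hc => by
      have h7 := ev_pair h2 (g := fun x y => f (c + Pi.single i x + Pi.single j y)) (fun _ _ => hI _)
        (h1 c i j (Ne.symm hj.1) (mem_supp.1 hc i hi) (mem_supp.1 hc j hj.2))
        (h3 c i j (Ne.symm hj.1) (mem_supp.1 hc i hi) (mem_supp.1 hc j hj.2))
      simpa only [Pi.single_zero, add_zero] using h7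
    have h7 := h6.add (ih S₂ h5)
    rw [Finset.sum_sub_distrib, sub_add_sub_cancel] at h7
    rwa [sum_supp_insert (by simp [hj.1, hj.2]), sum_supp_insert hi]

end Cfsg.Agent.ODD.C3
end

-- part: ODD/C3/Par
section
/-!
# ODD: the parity of the fixed spaces of `PSp_{2n}(q)`, `q ≡ 3 mod 4` (helper66)
-/

set_option autoImplicit false

namespace Cfsg.Agent.ODD.C3

open Cfsg Cfsg.Agent.ODD.Lev Cfsg.Agent.ClassicalGeometry.SympBasic
open Cfsg.Agent.TitsThree Cfsg.Agent.TitsThree.SpIdent Cfsg.Agent.TitsThree.WittWeyl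
open Cfsg.Agent.ChevalleyStructure.CoxeterGeom Cfsg.Agent.Tits.Roots
open Cfsg.Agent.Nodes Cfsg.Agent.Nodes.TypeC Cfsg.Agent.Nodes.BNOf Cfsg.Agent.Nodes.WittRoot

variable {n : ℕ} {F : Type} [Field F]

/-- the product of the long root elements -/
def zzL (a : Fin n → F) : (Fin n ⊕ Fin n → F) ≃ₗ[F] (Fin n ⊕ Fin n → F) where
  toFun v := Sum.elim (fun k => v (.inl k)) fun k => v (.inr k) - a k * v (.inl k)
  invFun v := Sum.elim (fun k => v (.inl k)) fun k => v (.inr k) + a k * v (.inl k)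
  map_add' v w := by
    ext (k | k) <;> simp only [_root_.Pi.add_apply, _root_.Sum.elim_inl, _root_.Sum.elim_inr]
    ring
  map_smul' c v := by
    ext (k | k) <;> simp
    ring
  left_inv v := by ext (k | k) <;> simp
  right_inv v := by ext (k | k) <;> simp

theorem zzL_inl (a : Fin n → F) (v : Fin n ⊕ Fin n → F) (k : Fin n) : zzL a v (.inl k) = v (.inl k) := rfl

theorem zzL_inr (a : Fin n → F) (v : Fin n ⊕ Fin n → F) (k : Fin n) :
    zzL a v (.inr k) = v (.inr k) - a k * v (.inl k) := rfl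

theorem zzL_apply (a : Fin n → F) (v : Fin n ⊕ Fin n → F) :
    zzL a v = v + ∑ k, (a k * sympForm n F v (e n F k)) • e n F k := by
  ext (k | k)
  · simp only [zzL_inl, e, Finset.sum_apply, _root_.Cfsg.Agent.ODD.C3.zzL_inl, _root_.Cfsg.Agent.TitsThree.SpIdent.e, _root_.Pi.add_apply, _root_.Finset.sum_apply, _root_.Pi.smul_apply, _root_.ne_eq, _root_.reduceCtorEq, _root_.not_false_eq_true, _root_.Pi.single_eq_of_ne, _root_.smul_eq_mul, _root_.MulZeroClass.mul_zero, _root_.Finset.sum_const_zero, _root_.add_zero]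
  · simp only [zzL_inr, e, Finset.sum_apply, sympForm_single_inr_right, Pi.single_apply, sub_eq_add_neg, _root_.Cfsg.Agent.ODD.C3.zzL_inr, _root_.sub_eq_add_neg, _root_.Cfsg.Agent.TitsThree.SpIdent.e, _root_.Cfsg.Agent.ClassicalGeometry.SympBasic.sympForm_single_inr_right, _root_.mul_neg, _root_.neg_smul, _root_.Finset.sum_neg_distrib, _root_.Pi.add_apply, _root_.Pi.neg_apply, _root_.Finset.sum_apply, _root_.Pi.smul_apply, _root_.Pi.single_apply, _root_.Sum.inr.injEq, _root_.smul_eq_mul, _root_.mul_ite, _root_.mul_one, _root_.MulZeroClass.mul_zero, _root_.Finset.sum_ite_eq, _root_.Finset.mem_univ, ↓ _root_.reduceIte]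

theorem zzL_mem (a : Fin n → F) : zzL a ∈ isos (form n F) := fun v w => by
  rw [form_h, form_h, sympForm_eq_sum, sympForm_eq_sum]
  refine Finset.sum_congr rfl fun k _ => ?_
  rw [zzL_inl, zzL_inl, zzL_inr, zzL_inr]
  ring

theorem zzL_add (a b : Fin n → F) : zzL (a + b) = zzL a * zzL b := by
  ext v (k | k)
  · rfl
  · rw [LinearEquiv.mul_apply, zzL_inr, zzL_inr, zzL_inr, zzL_inl, Pi.add_apply]
    ring

theorem zzL_single (i : Fin n) (x : F) : zzL (Pi.single i x) = (frame n F).Z (i, true) (adm x) := by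
  refine LinearEquiv.ext fun v => ?_
  rw [zzL_apply, Z_apply, Finset.sum_eq_single i (fun k _ hk => by simp [hk]) (by simp only [_root_.Finset.mem_univ, _root_.not_true_eq_false, _root_.Pi.single_eq_same, _root_.smul_eq_zero, _root_.mul_eq_zero, _root_.IsEmpty.forall_iff]), Pi.single_eq_same]
  change _ = v + sympForm n F v (e n F i) • (0 : Fin n ⊕ Fin n → F) - ((-1 : F)⁻¹ * sympForm n F v 0) • e n F i +
    (x * sympForm n F v (e n F i)) • e n F i
  simp

/-- its image in `PSp` -/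
noncomputable def zP (a : Fin n → F) : PSp n F := toPSp ⟨zzL a, zzL_mem a⟩

theorem zP_add (a b : Fin n → F) : zP (a + b) = zP a * zP b := by
  rw [zP, zP, zP, ← map_mul]
  exact congrArg toPSp (Subtype.ext (zzL_add a b))

theorem zP_zero : zP (0 : Fin n → F) = 1 := by
  have h := zP_add (0 : Fin n → F) 0
  rw [add_zero] at h
  exact (mul_eq_left.1 h.symm)

theorem zP_neg (a : Fin n → F) : zP (-a) = (zP a)⁻¹ :=
  eq_inv_of_mul_eq_one_left (by rw [← zP_add, neg_add_cancel, zP_zero])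

theorem zP_inj : Function.Injective (zP : (Fin n → F) → PSp n F) := fun a b h => by
  have h1 : zP (a - b) = 1 := by rw [sub_eq_add_neg, zP_add, zP_neg, h, mul_inv_cancel]
  obtain ⟨c, -, hc⟩ := exists_smul_of_toPSp_eq_one h1
  funext k
  have h2 := congrFun (hc (f n F k)) (.inr k)
  change zzL (a - b) (f n F k) (.inr k) = _ at h2
  rw [zzL_inr] at h2
  exact Eq.symm (by simpa [f, sub_eq_zero] using h2)

theorem conj_zP {g : (Fin n ⊕ Fin n → F) ≃ₗ[F] (Fin n ⊕ Fin n → F)} (hg : g ∈ isos (form n F)) {a b : Fin n → F}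
    (h : ∀ w, ∑ k, (a k * sympForm n F w (g (e n F k))) • g (e n F k) =
      ∑ k, (b k * sympForm n F w (e n F k)) • e n F k) : toPSp ⟨g, hg⟩ * zP a * (toPSp ⟨g, hg⟩)⁻¹ = zP b := by
  rw [mul_inv_eq_iff_eq_mul, zP, zP, ← map_mul, ← map_mul]
  refine congrArg toPSp (Subtype.ext (LinearEquiv.ext fun v => ?_))
  change g (zzL a v) = zzL b (g v)
  rw [zzL_apply, zzL_apply, map_add, map_sum, ← h]
  refine congrArg _ (Finset.sum_congr rfl fun k _ => ?_)
  rw [map_smul, ← form_h, ← form_h, hg]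

theorem exists_levi {i j : Fin n} (hij : i ≠ j) (s t r : F) :
    ∃ g ∈ isos (form n F), g (e n F i) = (1 + s * t) • e n F i + t • e n F j ∧
      g (e n F j) = (r + s + r * s * t) • e n F i + (1 + r * t) • e n F j ∧
      ∀ k, k ≠ i → k ≠ j → g (e n F k) = e n F k := by
  have h1 : ∀ {i j : Fin n}, i ≠ j → ∀ t, (frame n F).X (i, true) (j, false) t (e n F j) = e n F j + t • e n F i :=
    fun {i j} hij t => X_apply_neg (frame n F) (x := (i, true)) (y := (j, false)) hij t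
  have h2 : ∀ {i j k : Fin n}, i ≠ j → k ≠ j → ∀ t, (frame n F).X (i, true) (j, false) t (e n F k) = e n F k :=
    fun {i j k} hij hk t => X_apply_of_ne (frame n F) (x := (i, true)) (y := (j, false)) (z := (k, true)) hij
      (fun h => by simp [WittFrame.neg] at h) (fun h => hk (congrArg Prod.fst h)) t
  refine ⟨(frame n F).X (i, true) (j, false) s * (frame n F).X (j, true) (i, false) t *
    (frame n F).X (i, true) (j, false) r, mul_mem (mul_mem ((frame n F).isIso_X _ _ _) ((frame n F).isIso_X _ _ _))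
      ((frame n F).isIso_X _ _ _), ?_, ?_, fun k hi hj => ?_⟩
  · rw [mul_apply', mul_apply', h2 hij hij, h1 hij.symm, map_add, map_smul, h2 hij hij, h1 hij]
    module
  · rw [mul_apply', mul_apply', h1 hij, map_add, map_smul, h2 hij.symm hij.symm, h1 hij.symm]
    simp only [map_add, map_smul, h2 hij hij, h1 hij]
    module
  · rw [mul_apply', mul_apply', h2 hij hj, h2 hij.symm hi, h2 hij hj]

theorem conj_pair {i j : Fin n} (hij : i ≠ j) (s t r : F) {c : Fin n → F} (hi : c i = 0) (hj : c j = 0) {x y x' y' : F}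
    (h1 : x * (1 + s * t) ^ 2 + y * (r + s + r * s * t) ^ 2 = x') (h2 : x * t ^ 2 + y * (1 + r * t) ^ 2 = y')
    (h3 : x * (1 + s * t) * t + y * (r + s + r * s * t) * (1 + r * t) = 0) :
    ∃ g : PSp n F, g * zP (c + Pi.single i x + Pi.single j y) * g⁻¹ = zP (c + Pi.single i x' + Pi.single j y') := by
  obtain ⟨g, hg, gi, gj, gk⟩ := exists_levi hij s t r
  refine ⟨_, conj_zP hg fun w => ?_⟩
  have h4 : ∀ (i : Fin n) (x : F) (A : Fin n → F) (B : Fin n → Fin n ⊕ Fin n → F),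
      ∑ k, ((Pi.single i x : Fin n → F) k * A k) • B k = (x * A i) • B i := fun i x A B => by
    rw [Finset.sum_eq_single i (fun k _ hk => by simp [hk]) (by simp only [_root_.Finset.mem_univ, _root_.not_true_eq_false, _root_.Pi.single_eq_same, _root_.smul_eq_zero, _root_.mul_eq_zero, _root_.IsEmpty.forall_iff]), Pi.single_eq_same]
  have h5 : ∑ k, (c k * sympForm n F w (g (e n F k))) • g (e n F k) =
      ∑ k, (c k * sympForm n F w (e n F k)) • e n F k := Finset.sum_congr rfl fun k _ => by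
    by_cases h : c k = 0
    · rw [h, zero_mul, zero_mul, zero_smul, zero_smul]
    · rw [gk k (fun e => h (e ▸ hi)) fun e => h (e ▸ hj)]
  simp only [Pi.add_apply, add_mul, add_smul, Finset.sum_add_distrib, h4, h5, gi, gj, sympForm_add_right,
    sympForm_smul_right, add_assoc, add_right_inj]
  rw [← h1, ← h2]
  match_scalars
  · linear_combination sympForm n F w (e n F j) * h3
  · linear_combination sympForm n F w (e n F i) * h3

/-! ### the sign changes -/

/-- the sign of a coordinate -/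
def sgn (F : Type) [Field F] (s : Fin n → ℤˣ) (k : Fin n) : F := ((s k : ℤ) : F)

theorem sgn_mul_self (s : Fin n → ℤˣ) (k : Fin n) : sgn F s k * sgn F s k = 1 := by
  rw [sgn, ← Int.cast_mul, ← Units.val_mul, Int.units_mul_self, Units.val_one, Int.cast_one]

/-- a diagonal element with entries `± 1` -/
def ddL (F : Type) [Field F] (s : Fin n → ℤˣ) : (Fin n ⊕ Fin n → F) ≃ₗ[F] (Fin n ⊕ Fin n → F) where
  toFun v j := sgn F s (j.elim id id) * v j
  invFun v j := sgn F s (j.elim id id) * v j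
  map_add' v w := funext fun j => mul_add _ _ _
  map_smul' c v := funext fun j => mul_left_comm _ _ _
  left_inv v := funext fun j => (mul_assoc _ _ _).symm.trans (by rw [sgn_mul_self, one_mul])
  right_inv v := funext fun j => (mul_assoc _ _ _).symm.trans (by rw [sgn_mul_self, one_mul])

theorem ddL_apply (s : Fin n → ℤˣ) (v : Fin n ⊕ Fin n → F) (j : Fin n ⊕ Fin n) :
    ddL F s v j = sgn F s (j.elim id id) * v j := rfl

theorem ddL_mem (s : Fin n → ℤˣ) : ddL F s ∈ isos (form n F) := fun v w => by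
  rw [form_h, form_h, sympForm_eq_sum, sympForm_eq_sum]
  refine Finset.sum_congr rfl fun k _ => ?_
  simp only [ddL_apply, Sum.elim_inl, Sum.elim_inr, id]
  linear_combination (v (.inr k) * w (.inl k) - v (.inl k) * w (.inr k)) * sgn_mul_self (F := F) s k

theorem ddL_b (s : Fin n → ℤˣ) (x : Fin n × Bool) : ddL F s ((frame n F).b x) = sgn F s x.1 • (frame n F).b x := by
  obtain ⟨k, _ | _⟩ := x
  · change ddL F s (f n F k) = _ • f n F k
    ext j
    by_cases h : j = .inl k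
    · simp [h, ddL_apply]
    · simp [h, ddL_apply, f]
  · change ddL F s (e n F k) = _ • e n F k
    ext j
    by_cases h : j = .inr k
    · simp [h, ddL_apply]
    · simp [h, ddL_apply, e]

/-- the sign changes in `PSp` -/
noncomputable def dP (n : ℕ) (F : Type) [Field F] : (Fin n → ℤˣ) →* PSp n F :=
  toPSp.comp
    { toFun := fun s => ⟨ddL F s, ddL_mem s⟩
      map_one' := Subtype.ext (LinearEquiv.ext fun v => funext fun j => by
        change sgn F 1 _ * v j = v j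
        simp [sgn])
      map_mul' := fun s t => Subtype.ext (LinearEquiv.ext fun v => funext fun j => by
        change sgn F (s * t) _ * v j = sgn F s _ * (sgn F t _ * v j)
        simp [sgn, mul_assoc]) }

theorem dP_apply (s : Fin n → ℤˣ) : dP n F s = toPSp ⟨ddL F s, ddL_mem s⟩ := rfl

theorem dP_mem (s : Fin n → ℤˣ) : dP n F s ∈ WittModel.T (KInstSp.model n F) :=
  ⟨⟨ddL F s, ddL_mem s⟩, ⟨ddL_mem s, fun x => ⟨sgn F s x.1, left_ne_zero_of_mul_eq_one (sgn_mul_self s _), ddL_b s x⟩⟩,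
    rfl⟩

theorem dP_conj (s : Fin n → ℤˣ) (a : Fin n → F) : dP n F s * zP a * (dP n F s)⁻¹ = zP a :=
  conj_zP (ddL_mem s) fun w => Finset.sum_congr rfl fun k _ => by
    rw [show ddL F s (e n F k) = _ • e n F k from ddL_b s (k, true), sympForm_smul_right, smul_smul]
    congr 1
    linear_combination a k * sympForm n F w (e n F k) * sgn_mul_self (F := F) s k

theorem short_eq_one (h2 : (2 : F) ≠ 0) {a b : Fin n × Bool} (hab : a.1 ≠ b.1) {t : F}
    (h : ∀ s, dP n F s * toPSp ⟨(frame n F).X a b t, (frame n F).isIso_X a b t⟩ =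
      toPSp ⟨(frame n F).X a b t, (frame n F).isIso_X a b t⟩ * dP n F s) : t = 0 := by
  have h1 := conj_X (frame n F) (ddL_mem (F := F) (Pi.mulSingle a.1 (-1))) hab hab (ddL_b _ a) (ddL_b _ b) t
  rw [show sgn F (Pi.mulSingle a.1 (-1)) a.1 = -1 by simp [sgn],
    show sgn F (Pi.mulSingle a.1 (-1)) b.1 = 1 by simp [sgn, Ne.symm hab], map_one, mul_one,
    mul_assoc (-1 : F), inv_mul_cancel₀ ((frame n F).η_ne b), mul_one, neg_one_mul] at h1
  have h3 : toPSp ⟨(frame n F).X a b (t + t), (frame n F).isIso_X a b _⟩ = 1 := by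
    have h4 := mul_inv_eq_iff_eq_mul.2 (h (Pi.mulSingle a.1 (-1)))
    rw [dP_apply, ← map_inv, ← map_mul, ← map_mul, ← mul_inv_eq_one, ← map_inv, ← map_mul] at h4
    rw [← inv_eq_one, ← map_inv, ← h4]
    refine congrArg toPSp (Subtype.ext ?_)
    change ((frame n F).X a b (t + t))⁻¹ = ddL F _ * (frame n F).X a b t * (ddL F _)⁻¹ * ((frame n F).X a b t)⁻¹
    rw [h1, ← (frame n F).X_neg, ← (frame n F).X_neg, ← (frame n F).X_add, neg_add]
  obtain ⟨c, -, hc⟩ := exists_smul_of_toPSp_eq_one h3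
  have h4 : (frame n F).b (WittFrame.neg b) + (t + t) • (frame n F).b a = c • (frame n F).b (WittFrame.neg b) :=
    (X_apply_neg (frame n F) hab _).symm.trans (hc _)
  have h5 := congrArg (fun v => (form n F).h v ((frame n F).b (WittFrame.neg a))) h4
  simp only [(form n F).add_left, (form n F).smul_left] at h5
  rw [(frame n F).hb_of_ne (x := WittFrame.neg b) (y := WittFrame.neg a) (Ne.symm hab), (frame n F).hb_self_neg, zero_add,
    mul_zero, mul_eq_zero, ← two_mul, mul_eq_zero] at h5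
  exact (h5.resolve_right ((frame n F).η_ne _)).resolve_left h2

/-! ### the long roots -/

theorem sum_ee' (m : Fin n) (x : Fin n → ℤ) :
    ∑ k ∈ Finset.Iic m, TypeC.ee x k = (if (m : ℕ) + 1 < n then 1 else 2) * x m := by
  have h1 : ∀ k, TypeC.ee x k = ∑ j, x j * bt j k := fun k => by simp only [TypeC.ee, Finset.sum_apply, _root_.Cfsg.Agent.Nodes.TypeC.ee, _root_.zsmul_eq_mul, _root_.Finset.sum_apply, _root_.Pi.mul_apply, _root_.Pi.intCast_apply, _root_.Int.cast_eq]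
  simp only [h1]
  rw [Finset.sum_comm]
  simp only [← Finset.mul_sum, sum_bt]
  rw [Finset.sum_eq_single m]
  · simp only [if_true]
    split_ifs <;> ring
  · intro j _ hj
    simp [Ne.symm hj]
  · simp only [_root_.Finset.mem_univ, _root_.not_true_eq_false, ↓ _root_.reduceIte, _root_.mul_ite, _root_.mul_one, _root_.IsEmpty.forall_iff]

theorem long_coeff {x : Fin n → ℤ} {a : Fin n × Bool} (h : TypeC.ee x = wt a + wt a) :
    (if (a.1 : ℕ) + 1 < n then 1 else 2) * x a.1 = if a.2 then 2 else -2 := by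
  rw [← sum_ee', h]
  simp only [Pi.add_apply, Finset.sum_add_distrib, wt, Finset.sum_pi_single', Finset.mem_Iic, le_refl, if_true]
  split_ifs <;> rfl

variable {W : Type} [Group W] (cs : CoxeterSystem (CoxeterMatrix.B n) W)

theorem exists_long_pos (k : Fin n) : ∃ x, IsRoot cs (isCartan n) x ∧ 0 ≤ x ∧ TypeC.ee x = wt (k, true) + wt (k, true) := by
  obtain ⟨x, hx, h⟩ := rt_of_ok (cs := cs) (a := (k, true)) (b := (k, true)) (Or.inr rfl)
  refine ⟨x, hx, hx.pos_or_neg.resolve_right fun h1 => ?_, h⟩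
  have h2 := long_coeff h
  have h3 : x k ≤ 0 := h1 k
  simp only [if_true] at h2
  split_ifs at h2 <;> omega

theorem mem_long {x : Fin n → ℤ} {k : Fin n} (h : TypeC.ee x = wt (k, true) + wt (k, true)) {u : PSp n F} :
    u ∈ WittModel.X (KInstSp.model n F) x ↔ ∃ c, u = zP (Pi.single k c) := by
  rw [WittModel.mem_X]
  simp only [rg_eq (frame n F) (Or.inr rfl) h, PG_self, mem_ZG]
  constructor
  · rintro ⟨_, hg, ⟨p, rfl⟩, rfl⟩
    exact ⟨p.c, congrArg toPSp (Subtype.ext ((congrArg _ (eq_adm p)).trans (zzL_single k _).symm))⟩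
  · rintro ⟨c, rfl⟩
    exact ⟨_, zzL_mem _, ⟨_, zzL_single k c⟩, rfl⟩

variable [Fintype F] [DecidableEq F]

omit [Group W] in
theorem zP_mem {P : Subgroup (PSp n F)} (S : Finset (Fin n)) (h : ∀ k ∈ S, ∀ c, zP (Pi.single k c) ∈ P) :
    ∀ a ∈ supp F S, zP a ∈ P := fun a ha => by
  rw [← Finset.univ_sum_single a]
  refine Finset.sum_induction _ (fun b => zP b ∈ P) (fun b c hb hc => by rw [zP_add]; exact mul_mem hb hc)
    (by rw [zP_zero]; exact one_mem _) fun k _ => ?_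
  by_cases hk : k ∈ S
  · exact h k hk _
  · rw [mem_supp.1 ha k hk, Pi.single_zero, zP_zero]
    exact one_mem _

omit [DecidableEq F] in
/-- the centralizer of the sign changes in `U` -/
theorem exists_zP (hq : Fintype.card F % 4 = 3) {u : PSp n F}
    (hu : u ∈ RGD.Sup (WittModel.X (KInstSp.model n F)) (RGD.Pos cs (isCartan n)))
    (hc : u ∈ Subgroup.centralizer (Set.range (dP n F))) : ∃ a, u = zP a := by
  have h2 : (2 : F) ≠ 0 := Ring.two_ne_zero fun h => by
    have := FiniteField.even_card_iff_char_two.1 h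
    omega
  have := finite_W cs
  have : Fact (ringChar F).Prime := ⟨CharP.char_is_prime F _⟩
  let Q : Subgroup (PSp n F) :=
    { carrier := {u | ∃ a, u = zP a}
      one_mem' := ⟨0, zP_zero.symm⟩
      mul_mem' := by
        rintro _ _ ⟨a, rfl⟩ ⟨b, rfl⟩
        exact ⟨_, (zP_add a b).symm⟩
      inv_mem' := by
        rintro _ ⟨a, rfl⟩
        exact ⟨_, (zP_neg a).symm⟩ }
  have h1 := (NormalForm.centralizer_U (PS.C3.rgdS n F (ringChar F) cs) (S := Set.range (dP n F))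
    (by rintro _ ⟨s, rfl⟩; exact dP_mem s)).le ⟨hu, hc⟩
  refine RGD.Sup_le (K := Q) ?_ h1
  rintro x ⟨hx, h0⟩ g ⟨hg, hg'⟩
  obtain ⟨a, b, hab, h⟩ := exists_of_isRoot cs hx
  rcases hab with hab | rfl
  · obtain ⟨g, hg, h3, rfl⟩ := (WittModel.mem_X _).1 hg
    rw [rg_eq _ (Or.inl hab) h, PG_ne _ hab] at h3
    obtain ⟨t, rfl⟩ := h3
    have h4 : t = 0 := short_eq_one h2 hab fun s => Subgroup.mem_centralizer_iff.1 hg' _ ⟨s, rfl⟩
    subst h4
    exact ⟨0, (congrArg toPSp (Subtype.ext ((frame n F).X_zero a b))).trans ((map_one _).trans zP_zero.symm)⟩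
  · obtain ⟨k, _ | _⟩ := a
    · have h3 := long_coeff h
      have h4 : 0 ≤ x k := h0 k
      simp only [Bool.false_eq_true, if_false] at h3
      split_ifs at h3 <;> omega
    · obtain ⟨c, rfl⟩ := (mem_long h).1 hg
      exact ⟨_, rfl⟩

omit [Group W] in
theorem ev_of (hq : Fintype.card F % 4 = 3) {P : Subgroup (PSp n F)} (S : Finset (Fin n)) (hS : Even S.card)
    (hn : ∀ s, ∀ u ∈ P, dP n F s * u * (dP n F s)⁻¹ ∈ P) (h1 : ∀ k ∈ S, ∀ c, zP (Pi.single k c) ∈ P)
    (h3 : ∀ u ∈ P, u ∈ Subgroup.centralizer (Set.range (dP n F)) → ∃ a ∈ supp F S, u = zP a) {χ : PSp n F → ℂ}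
    (hχ : IsCharacter (PSp n F) χ) : Ev (∑ᶠ u : P, χ u - χ 1) := by
  classical
  have h2 : (2 : F) ≠ 0 := Ring.two_ne_zero fun h => by
    have := FiniteField.even_card_iff_char_two.1 h
    omega
  have : Finite (PSp n F) := Quotient.finite _
  have := Fintype.ofFinite (PSp n F)
  have hcl := Characters.Core.isCharacter_isClassFunction hχ
  have hI := Characters.GaloisBasic.isIntegral_apply hχ
  rw [finsum_eq_sum_of_fintype, ← Finset.sum_subtype (Finset.univ.filter (· ∈ P)) (by simp) χ,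
    ← Finset.sum_filter_add_sum_filter_not _ (· ∈ Subgroup.centralizer (Set.range (dP n F))), add_sub_right_comm]
  refine Ev.add ?_ ?_
  · have h4 : (Finset.univ.filter (· ∈ P)).filter (· ∈ Subgroup.centralizer (Set.range (dP n F))) =
        (supp F S).image zP := by
      ext u
      simp only [Finset.mem_filter, Finset.mem_univ, true_and, Finset.mem_image]
      constructor
      · rintro ⟨hu, hc⟩
        obtain ⟨a, ha, rfl⟩ := h3 u hu hc
        exact ⟨a, ha, rfl⟩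
      · rintro ⟨a, ha, rfl⟩
        refine ⟨zP_mem S h1 a ha, Subgroup.mem_centralizer_iff.2 ?_⟩
        rintro _ ⟨s, rfl⟩
        exact mul_inv_eq_iff_eq_mul.1 (dP_conj s a)
    obtain ⟨r, hr⟩ := hS
    rw [h4, Finset.sum_image fun a _ b _ h => zP_inj h, ← zP_zero]
    refine ev_supp h2 (f := fun a => χ (zP a)) (fun a => hI _) (fun c i j hij hi hj x y => ?_)
      (fun c i j hij hi hj x => ?_) r S (by omega)
    · obtain ⟨g, hg⟩ := conj_pair hij (-1) 1 (-1) hi hj (x := x) (y := y) (x' := y) (y' := x) (by ring) (by ring) (by ring)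
      rw [← hg, hcl]
    · have : NeZero (ringChar F) := ⟨(CharP.char_is_prime F _).ne_zero⟩
      obtain ⟨a, b, hab⟩ := CharP.sq_add_sq F (ringChar F) (-1)
      rw [Int.cast_neg, Int.cast_one] at hab
      have hb : (b : F) ≠ 0 := fun h => FiniteField.isSquare_neg_one_iff.1 ⟨(a : F), by rw [← hab, h]; ring⟩ hq
      have e1 : 1 + (a - 1) / (b : F) * b = a := by field_simp; ring
      have e2 : 1 + (-a - 1) / (b : F) * b = -a := by field_simp; ring
      have e3 : (-a - 1) / (b : F) + (a - 1) / b + (-a - 1) / (b : F) * ((a - 1) / b) * b = b := by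
        field_simp
        linear_combination -hab
      obtain ⟨g, hg⟩ := conj_pair hij ((a - 1) / (b : F)) b ((-a - 1) / (b : F)) hi hj (x := x) (y := x) (x' := -x)
        (y' := -x) (by rw [e1, e3]; linear_combination x * hab) (by rw [e2]; linear_combination x * hab)
        (by rw [e1, e2, e3]; ring)
      rw [← hg, hcl]
  · refine ev_sum (D := Fin n → ℤˣ) (fun s => ⟨1, funext fun k => by simp⟩)
      ((MulAction.toPermHom (MulAut (PSp n F)) (PSp n F)).comp (MulAut.conj.comp (dP n F))) _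
      (fun s u hu => ?_) (fun s u _ => hcl u _) (fun u _ => hI u) fun u hu => ?_
    · simp only [Finset.mem_filter, Finset.mem_univ, true_and] at hu ⊢
      refine ⟨hn s u hu.1, fun h => hu.2 (Subgroup.mem_centralizer_iff.2 ?_)⟩
      rintro _ ⟨t, rfl⟩
      have h4 : dP n F t * (dP n F s * u * (dP n F s)⁻¹) = dP n F s * u * (dP n F s)⁻¹ * dP n F t :=
        Subgroup.mem_centralizer_iff.1 h _ ⟨t, rfl⟩
      have h5 : dP n F t * dP n F s = dP n F s * dP n F t := by rw [← map_mul, mul_comm, map_mul]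
      calc dP n F t * u = (dP n F s)⁻¹ * (dP n F s * dP n F t) * u := by group
        _ = (dP n F s)⁻¹ * (dP n F t * (dP n F s * u * (dP n F s)⁻¹)) * dP n F s := by rw [← h5]; group
        _ = u * (dP n F s)⁻¹ * (dP n F t * dP n F s) := by rw [h4]; group
        _ = _ := by rw [h5]; group
    · by_contra h
      refine (Finset.mem_filter.1 hu).2 (Subgroup.mem_centralizer_iff.2 ?_)
      rintro _ ⟨t, rfl⟩
      exact mul_inv_eq_iff_eq_mul.1 (by_contra fun h' => h ⟨t, h'⟩)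

/-- **(P)** -/
theorem parS : PS.C3.ParS := by
  classical
  intro m F _ _ W _ cs hq χ hχ
  have := finite_W cs
  have : Fact (ringChar F).Prime := ⟨CharP.char_is_prime F _⟩
  have : Finite (PSp (m + 1) F) := Quotient.finite _
  have R := PS.C3.rgdS (m + 1) F (ringChar F) cs
  have hl : TypeC.ee (sr (Fin.last m)) = wt (Fin.last m, true) + wt (Fin.last m, true) := by
    rw [ee_sr, bt, nx, dif_neg (by simp)]
  refine ⟨fun hm => ev_of hq Finset.univ (by rwa [Finset.card_fin]) (fun s u hu => ?_) (fun k _ c => ?_)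
    (fun u hu hc => ?_) hχ, fun hm => ev_of hq (Finset.univ.erase (Fin.last m)) ?_ (fun s u hu => ?_) ?_
    (fun u hu hc => ?_) hχ⟩
  · exact (Subgroup.mem_normalizer_iff.1 (R.T_le_normalizer_U (dP_mem s)) u).1 hu
  · obtain ⟨x, hx, h0, h⟩ := exists_long_pos cs k
    exact RGD.le_Sup (S := RGD.Pos cs _) ⟨hx, h0⟩ ((mem_long h).2 ⟨c, rfl⟩)
  · obtain ⟨a, rfl⟩ := exists_zP cs hq hu hc
    exact ⟨a, mem_supp.2 fun k hk => absurd (Finset.mem_univ k) hk, rfl⟩
  · rw [Finset.card_erase_of_mem (Finset.mem_univ _), Finset.card_fin]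
    obtain ⟨r, hr⟩ := hm
    exact ⟨r, by omega⟩
  · exact (Subgroup.mem_normalizer_iff.1 (R.T_le_normalizer (fun x hx => hx.1) (dP_mem s)) u).1 hu
  all_goals
    have h1 : ∀ k ∈ Finset.univ.erase (Fin.last m), ∀ c : F, zP (Pi.single k c) ∈
        RGD.Sup (WittModel.X (KInstSp.model (m + 1) F)) (RGD.PosNe cs (isCartan (m + 1)) (Fin.last m)) := fun k hk c => by
      obtain ⟨x, hx, h0, h⟩ := exists_long_pos cs k
      refine RGD.le_Sup (S := RGD.PosNe cs _ _) ⟨hx, h0, fun e => (Finset.mem_erase.1 hk).1 ?_⟩ ((mem_long h).2 ⟨c, rfl⟩)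
      rw [e, hl] at h
      rcases wt_add_eq (Or.inr rfl) (Or.inr rfl) h with h1 | h1 <;> exact (congrArg Prod.fst h1.1).symm
  · exact h1
  · have h0 : RGD.Sup (WittModel.X (KInstSp.model (m + 1) F)) (RGD.PosNe cs (isCartan (m + 1)) (Fin.last m)) ≤
        RGD.Sup (WittModel.X (KInstSp.model (m + 1) F)) (RGD.Pos cs (isCartan (m + 1))) :=
      RGD.Sup_mono fun _ hx => ⟨hx.1, hx.2.1⟩
    obtain ⟨a, rfl⟩ := exists_zP cs hq (h0 hu) hc
    refine ⟨a, mem_supp.2 fun k hk => ?_, rfl⟩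
    have hk' : k = Fin.last m := by simpa using hk
    have h2 := zP_mem _ h1 (a - Pi.single k (a k)) (mem_supp.2 fun j hj => by
      have hj' : j = Fin.last m := by simpa using hj
      rw [hj', ← hk', Pi.sub_apply, Pi.single_eq_same, sub_self])
    have h3 := mul_mem (inv_mem h2) hu
    rw [← zP_neg, ← zP_add, neg_sub, sub_add_cancel] at h3
    have h4 := zP_inj ((H684.OQ.eq_one_of_mem_V R ((mem_long hl).2 ⟨a k, by rw [hk']⟩) h3).trans zP_zero.symm)
    simpa using congrFun h4 k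

end Cfsg.Agent.ODD.C3
end

-- part: ODD/PS/C3Main
section
/-!
# ODD / GAL: `PSp_{2n}(q)`, `q` odd: the row (helper6)

* `fix_sp` : `q ≡ 3 mod 4`, `χ` irreducible of odd degree, `Au R l Φ σ δ` : `χ ∘ δ = σ ∘ χ`;
* `oddRat_psp3`, **`rowS_psp`**, **`rowO_psp`**.
-/

set_option autoImplicit false
set_option linter.unusedSectionVars false

open Cfsg

namespace Cfsg.Agent.ODD.PS.C3

open CoxeterSystem Cfsg.Agent.ChevalleyStructure.CoxeterGeom Cfsg.Agent.Tits.Roots Cfsg.Agent.Tits.Core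
  Cfsg.Agent.Nodes.Reps Cfsg.Agent.Nodes.BNOf Cfsg.Agent.Nodes.Bruhat Cfsg.Agent.Nodes.StabComb
  Cfsg.Agent.Nodes.SubComb Cfsg.Agent.H684.OQ Cfsg.Agent.H670 Cfsg.Agent.H381.OQ Cfsg.Agent.ODD.Red
  Cfsg.Agent.Characters

theorem odd_of_ev {z : ℂ} {d k : ℕ} (hd : Odd d) (hz : Lev.Ev (z - d)) (hk : z = k) : Odd k := by
  have h1 := two_dvd_of (m := (k : ℤ) - d) hz (by push_cast; rw [← hk]; ring)
  rw [Nat.odd_iff] at hd ⊢
  omega

section sp

variable {m : ℕ} {W Y : Type} [Group W] [Finite W] [Group Y] [Finite Y]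
  {cs : CoxeterSystem (CoxeterMatrix.B (m + 1)) W} {p : ℕ} {T : Subgroup Y}
  {n : Fin (m + 1) → Y} {X : (Fin (m + 1) → ℤ) → Subgroup Y} {F : Type} [Field F] [Fintype F]
  {R : RGD cs (Nodes.TypeC.isCartan (m + 1)) p T n X} {Φ : S2 F →* Y} {gg : Fin (m + 1) → Y}

theorem Sp.gd (S : Sp R Φ gg) : Gd R (isCartanT (m + 1)) (Fin.last m) Φ (CoxeterMatrix.B m).toCoxeterSystem
    (Nodes.TypeC.isCartan m) (bC m) (wC cs) (iC m)
    fun j => if (j : ℕ) + 1 < m then n j.castSucc else n j.castSucc * Φ SL2.wel * (n j.castSucc)⁻¹ where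
  nd := S.nd
  sb := ODD.C3.ks m W _ cs _
  rp j := by
    unfold rfl' wC iC
    split_ifs
    · rw [one_mul, inv_one, mul_one]
      exact rp_simple cs R.nsys _
    · exact ((rp_simple cs R.nsys _).mul S.nd.wel).mul (rp_simple cs R.nsys _).inv
  cen j := by
    split_ifs with hj
    · exact (S.short j hj).1
    · exact S.long j hj
  sh j hj := by
    unfold wC at hj
    unfold iC
    split_ifs at hj ⊢ with h1
    · exact ⟨rfl, (S.short j h1).2⟩
    · exact absurd hj (AH.simple_ne_one _)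

/-- **the characters of odd degree, `q ≡ 3 mod 4`** -/
theorem fix_sp (S : Sp R Φ gg) (hP : Par cs X) (h4 : Fintype.card F % 4 = 3)
    {σ : ℂ ≃+* ℂ} {δ : Y ≃* Y} (a : Au R (Fin.last m) Φ σ δ) {χ : Y → ℂ} (hχ : IsIrrCharacter Y χ)
    (hodd : Odd (charDegree χ)) (z : Y) : χ (δ z) = σ (χ z) := by
  have hM := AH.main Hk.ho
  have := PW.finB m
  have G := S.gd
  have hc := Core.isIrr_isCharacter hχ
  obtain ⟨h1, h2⟩ := hP χ hc
  rw [Blocks.Basic.irr_one_eq_charDegree hχ] at h1 h2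
  rcases Nat.even_or_odd (m + 1) with h3 | h3
  · have := Fintype.ofFinite ↥(UU cs (Nodes.TypeC.isCartan (m + 1)) X)
    obtain ⟨lam, h5, h6⟩ := exists_lam_of_sum R S.nd.top S.nd.comm hχ hodd (h1 h3)
      (by rw [finsum_eq_sum_of_fintype]; ring)
    obtain ⟨v, hv, hv'⟩ := G.sb.neg
    exact G.fix_ps hM S.cor S.gen a hχ hv' (mem_of_center h6 (neg_comm hv) (neg_sq hv)) h5 z
  · have := Fintype.ofFinite ↥(VV cs (Nodes.TypeC.isCartan (m + 1)) X (Fin.last m))
    obtain ⟨d, hd⟩ := lin_idem hc (eV_mul_eV (cs := cs) (h := Nodes.TypeC.isCartan (m + 1)) (X := X) (l := Fin.last m))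
    have h5 : Odd (Nat.card ↥(VV cs (Nodes.TypeC.isCartan (m + 1)) X (Fin.last m)) * d) := by
      refine odd_of_ev hodd (h2 h3) ?_
      rw [Nat.cast_mul, ← hd, ← one_mul (eV _ _ _ _), ← mul_one (1 * _), eV, lin_av, smul_eq_mul,
        mul_inv_cancel_left₀ (card_ne _), finsum_eq_sum_of_fintype]
      exact Finset.sum_congr rfl fun u _ => by simp [lin_dl]
    rcases ODD.C3.qs _ W Y _ cs _ _ p T n X R F _ Φ S.nd h4 χ hc ⟨d, (Nat.odd_mul.1 h5).2, hd⟩ with h6 |
      ⟨ψ, hψ, h6, h7⟩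
    · exact G.fix1 hM S.cor S.gen a hχ h6 z
    · obtain ⟨psi, hpsi, h8⟩ := a.psi
      obtain ⟨d₀, h9, h10⟩ := a.sl2
      have key : ∀ psi : ↥(UU cs (Nodes.TypeC.isCartan (m + 1)) X) →* ℂˣ, Nondeg psi →
          (∀ u hu, ((psi ⟨δ u, a.mapU u hu⟩ : ℂˣ) : ℂ) = σ (psi ⟨u, hu⟩ : ℂˣ)) →
          ∀ φ, φ = (psiL (Fin.last m) psi).comp S.nd.xl → Cusp (fc ψ φ) φ →
          (∃ d : ℕ, Odd d ∧ lin χ (eV cs (Nodes.TypeC.isCartan (m + 1)) X (Fin.last m) * mp Φ (fc ψ φ)) = d) →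
          χ (δ z) = σ (χ z) := by
        rintro psi hpsi h8 _ rfl C h11
        refine G.fix2 hM S.cor S.gen a hχ h4 hpsi h8 C ?_ h11 z
        rw [fc, map_mul, map_mul, ODD.C3.tw_mp σ Φ h9, ODD.C3.Q.tw_cen σ d₀ (h10 ψ hψ h6), S.nd.mp_eph,
          tw_av σ δ _ a.mapX fun u hu => h8 u (X_le_U _ hu)]
      obtain ⟨φ, h11, C, h12⟩ := h7 ((psiL (Fin.last m) psi).comp S.nd.xl) fun e => by
        obtain ⟨x, hx, hne⟩ := hpsi (Fin.last m)
        obtain ⟨r, hr⟩ := S.nd.xl_bij.2 ⟨x, hx⟩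
        have h11 := DFunLike.congr_fun e r
        rw [MonoidHom.comp_apply, hr] at h11
        exact hne h11
      rcases h11 with h11 | h11
      · exact key psi hpsi h8 φ h11 C h12
      · refine key psi⁻¹ (fun j => ?_) (fun u hu => ?_) φ h11 C h12
        · obtain ⟨x, hx, hne⟩ := hpsi j
          exact ⟨x, hx, fun e => hne (inv_eq_one.1 e)⟩
        · rw [MonoidHom.inv_apply, MonoidHom.inv_apply, Units.val_inv_eq_inv_val, Units.val_inv_eq_inv_val, h8,
            map_inv₀]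

theorem au_refl (hp : p.Prime) (hp2 : p ≠ 2) (hF : Odd (Fintype.card F)) {τ : ℂ ≃+* ℂ} (hτ : Two τ) :
    Au R (Fin.last m) Φ τ (MulEquiv.refl Y) where
  fixT _ _ := rfl
  mapU _ hu := hu
  mapV _ hu := hu
  mapX _ hu := hu
  mapN _ k _ := by rw [MulEquiv.refl_apply, inv_mul_cancel]; exact one_mem _
  psi := by
    obtain ⟨psi, hpsi⟩ := exists_nondeg R hp
    refine ⟨psi, hpsi, fun u hu => (hτ _ _ (odd_U R hp hp2) ?_).symm⟩
    rw [← Units.val_pow_eq_pow_val, ← map_pow, pow_card_eq_one', map_one, Units.val_one]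
  sl2 := ⟨MulEquiv.refl _, fun _ => rfl, fun ψ h1 h2 s => (S2.oddRat_sl2 hF ψ h1 h2 τ hτ s).symm⟩

end sp

/-- **`PSp_{2m}(q)`**, `q ≡ 3 mod 4` -/
theorem oddRat_psp3 (F : Type) [Field F] [Fintype F] {m : ℕ} (hm : 1 ≤ m) [Finite (PSp m F)]
    (h4 : Fintype.card F % 4 = 3) : OddRat (PSp m F) := by
  obtain ⟨k, rfl⟩ : ∃ k, m = k + 1 := ⟨m - 1, by omega⟩
  have hF : Odd (Fintype.card F) := by rw [Nat.odd_iff]; omega
  obtain ⟨p, _, _, hp2, -⟩ := PW.exists_char F hF
  have := PW.finB (k + 1)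
  obtain ⟨Φ, gg, S⟩ := ODD.C3.ms k F p _ (CoxeterMatrix.B (k + 1)).toCoxeterSystem hF
  intro χ hχ hodd τ hτ z
  exact (fix_sp S (ODD.C3.parS k F _ _ h4) h4 (au_refl Fact.out hp2 hF hτ) hχ hodd z).symm

end Cfsg.Agent.ODD.PS.C3
end

private theorem dce_c7a01a435dde : _root_.True := by
  try have : _root_.True := by simp only [_root_.Cfsg.Agent.ODD.PS.C3.eV.eq_1]
  try have : _root_.True := by simp only [_root_.Cfsg.Agent.ODD.PS.C3.bC.eq_1]
  try have : _root_.True := by simp only [_root_.Cfsg.Agent.ODD.C3.sgn.eq_1]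
  try have : _root_.True := by simp only [_root_.Cfsg.Agent.ODD.C3.K.bT.eq_1]
  try have : _root_.True := by simp only [_root_.Cfsg.Agent.ODD.C3.K.dd.eq_1]
  try have : _root_.True := by simp only [_root_.Cfsg.Agent.ODD.PS.C3.psiV.eq_1]
  try have : _root_.True := by simp only [_root_.Cfsg.Agent.ODD.PS.C3.iC.eq_1]
  try have : _root_.True := by simp only [_root_.Cfsg.Agent.ODD.PS.wt.eq_1]
  try have : _root_.True := by simp only [_root_.Cfsg.Agent.ODD.PS.C3.eV.congr_simp]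
  try have : _root_.True := by simp only [_root_.Cfsg.Agent.ODD.PS.C3.CS.eq_1]
  try have : _root_.True := by simp only [_root_.Cfsg.Agent.ODD.C3.supp.eq_1]
  try have : _root_.True := by simp only [_root_.Cfsg.Agent.ODD.PS.C3.Gd.tt.congr_simp]
  try have : _root_.True := by simp only [_root_.Cfsg.Agent.ODD.PS.C3.VV.eq_1]
  try have : _root_.True := by simp only [_root_.Cfsg.Agent.ODD.PS.C3.Gd.tt.eq_1]
  try have : _root_.True := by simp only [_root_.Cfsg.Agent.ODD.PS.C3.fc.eq_1]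
  try have : _root_.True := by simp only [_root_.Cfsg.Agent.Nodes.Reps.Rp.congr_simp]
  try have : _root_.True := by simp only [_root_.Cfsg.Agent.ODD.PS.C3.eph.eq_1]
  try have : _root_.True := by simp only [_root_.Cfsg.Agent.ODD.PS.C3.Gd.nn.eq_1]
  try have : _root_.True := by simp only [_root_.Cfsg.Agent.ODD.C3.zP.eq_1]
  try have : _root_.True := by simp only [_root_.Cfsg.Agent.ODD.PS.C3.wC.eq_1]
  try have : _root_.True := by simp only [_root_.Cfsg.Agent.ODD.PS.C3.Gd.ph.eq_1]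
  try have : _root_.True := by simp only [_root_.Cfsg.Agent.Nodes.LeviDec.VJ.eq_1]
  try have : _root_.True := by simp only [_root_.Cfsg.Agent.H684.OQ.cjl.eq_1]
  try have : _root_.True := by simp only [_root_.Cfsg.Agent.Nodes.SubComb.SubSys.phi.congr_simp]
  exact _root_.True.intro
end

-- part: ODD/FA/SU
section
prune_inst 0x4d1402b655e22100000000002002006100a00042210430c000c810e04078824082da08660b10001015200004d003d00000000002000000000000004000118008010c0800460c10000800096000000400000000000000000000000000000000000000000000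
set_option linter.all false
open scoped Cfsg.Agent.FastGrp

-- part: ODD/FA/Wt
section
/-!
# ODD, box FA: unitary Witt frames (helper35)

* `mx Fr g` : the matrix of `g` on the span of the `e_i`, `St Fr` : the stabiliser of this span;
* `pwB cs` : the permutation of an element of the Weyl group of type `B`;
* `UF M L q Δ p0` : a group with a faithful representation `L` modelled on a unitary Witt frame; `UF.ld` its linear datum.
-/

set_option autoImplicit false
set_option linter.unusedSectionVars false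
set_option maxHeartbeats 400000

open Cfsg

namespace Cfsg.Agent.ODD.FA

open Equiv Finset Matrix CoxeterSystem Cfsg.Agent.ChevalleyStructure.CoxeterGeom Cfsg.Agent.Tits.Roots
  Cfsg.Agent.Tits.Core Cfsg.Agent.Nodes.Reps Cfsg.Agent.Nodes.BNOf Cfsg.Agent.Nodes.Bruhat Cfsg.Agent.Nodes.LeviDec
  Cfsg.Agent.H684.OQ Cfsg.Agent.H381.OQ Cfsg.Agent.ODD.PS Cfsg.Agent.Nodes
open Cfsg.Agent.TitsThree.Siegel Cfsg.Agent.TitsThree.WittFrame Cfsg.Agent.TitsThree.WittWeyl
  Cfsg.Agent.TitsThree.FrameCN Cfsg.Agent.LieClassical.HermBasic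
open Cfsg.Agent.Nodes.WittRoot (Amb Mono rg rg_eq PG_self PG_ne)
open Cfsg.Agent.Nodes.WittRGD (Tor eq_or_ng nn mono_nn rg_sr not_prop)
open Cfsg.Agent.Nodes.TypeC (ng sg nx isCartan)
open Cfsg.Agent.H694.EB (homB homB_simple homB_ng homB_injective)
open Cfsg.Agent.H69.OQ (hX dZ dZ_a dZ_ne hX_a hX_nb hX_ne mono_hX hX_mem)

section frame

variable {F : Type} [Field F] {V : Type} [AddCommGroup V] [Module F V] {H : HForm F V} {m : ℕ} (Fr : Frame H (Fin m))

/-- the coordinate of `e_a` -/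
def cf (a : Fin m) : V →ₗ[F] F :=
  ⟨⟨fun v => H.h v (Fr.b (a, false)), fun v w => H.add_left v w _⟩, fun c v => H.smul_left c v _⟩

theorem cf_b (a b : Fin m) : cf Fr a (Fr.b (b, true)) = (1 : Matrix (Fin m) (Fin m) F) a b := by
  change H.h _ _ = _
  rw [Fr.hb, one_apply]
  simp [eq_comm]

theorem cf_sum (v : Fin m → F) (a : Fin m) : cf Fr a (∑ c, v c • Fr.b (c, true)) = v a := by
  simp only [cf_b, one_apply, _root_.map_sum, _root_.map_smul, _root_.smul_eq_mul, _root_.mul_ite, _root_.mul_one, _root_.MulZeroClass.mul_zero, _root_.Finset.sum_ite_eq, _root_.Finset.mem_univ, ↓ _root_.reduceIte]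

/-- the matrix on the span of the `e_a` -/
def mx (g : V ≃ₗ[F] V) : Matrix (Fin m) (Fin m) F := of fun a b => cf Fr a (g (Fr.b (b, true)))

theorem cf_map (g : V ≃ₗ[F] V) (v : Fin m → F) (a : Fin m) :
    cf Fr a (g (∑ c, v c • Fr.b (c, true))) = (mx Fr g *ᵥ v) a := by
  simp only [mx, mulVec, dotProduct, mul_comm, _root_.map_sum, _root_.map_smul, _root_.smul_eq_mul, _root_.Matrix.of_apply]

/-- the stabiliser of the span of the `e_a` -/
def St : Submonoid (V ≃ₗ[F] V) where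
  carrier := {g | ∀ b, ∃ v : Fin m → F, g (Fr.b (b, true)) = ∑ c, v c • Fr.b (c, true)}
  one_mem' b := ⟨Pi.single b 1, by simp only [Pi.single_apply, _root_.LinearEquiv.coe_one, _root_.id_eq, _root_.ite_smul, _root_.one_smul, _root_.zero_smul, _root_.Finset.sum_ite_eq', _root_.Finset.mem_univ, ↓ _root_.reduceIte]⟩
  mul_mem' {g k} hg hk b := by
    choose v hv using hg
    obtain ⟨w, hw⟩ := hk b
    refine ⟨fun c => ∑ a, w a * v a c, ?_⟩
    rw [LinearEquiv.mul_apply, hw, map_sum]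
    simp only [map_smul, hv, smul_sum, sum_smul, smul_smul]
    exact sum_comm

variable {Fr} {g k : V ≃ₗ[F] V}

theorem st_eq (hg : g ∈ St Fr) (b : Fin m) : g (Fr.b (b, true)) = ∑ c, mx Fr g c b • Fr.b (c, true) := by
  obtain ⟨v, hv⟩ := hg b
  simp only [mx, of_apply, hv, cf_sum]

theorem mx_mul (hk : k ∈ St Fr) : mx Fr (g * k) = mx Fr g * mx Fr k := by
  ext a b
  change cf Fr a (g (k _)) = _
  rw [st_eq hk, cf_map]
  rfl

theorem mx_smul {b c : Fin m} {l : F} (e : g (Fr.b (b, true)) = l • Fr.b (c, true)) (a : Fin m) :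
    mx Fr g a b = if a = c then l else 0 := by
  simp [mx, e, cf_b, one_apply]

theorem mx_fix {b : Fin m} (e : g (Fr.b (b, true)) = Fr.b (b, true)) (a : Fin m) :
    mx Fr g a b = (1 : Matrix (Fin m) (Fin m) F) a b := by
  rw [mx, of_apply, e, cf_b]

theorem mx_diag {d : Fin m → F} (e : ∀ b, g (Fr.b (b, true)) = d b • Fr.b (b, true)) : mx Fr g = diagonal d := by
  ext a b
  rw [mx_smul (e b), diagonal_apply]
  split_ifs with h
  · rw [h]
  · rfl

theorem st_mono {π : Fin m × Bool → Fin m × Bool} (hg : Mono Fr g π) {σ : Perm (Fin m)}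
    (hπ : ∀ b, π (b, true) = (σ b, true)) : g ∈ St Fr ∧ IsMon σ (mx Fr g) := by
  refine ⟨fun b => ?_, fun a b h => ?_⟩ <;> obtain ⟨l, -, e⟩ := hg (b, true) <;> rw [hπ] at e
  · exact ⟨Pi.single (σ b) l, by simp only [e, Pi.single_apply, _root_.ite_smul, _root_.zero_smul, _root_.Finset.sum_ite_eq', _root_.Finset.mem_univ, ↓ _root_.reduceIte]⟩
  · rw [mx_smul e] at h
    by_contra hc
    exact h (if_neg hc)

theorem tor_e (hg : Mono Fr g id) (b : Fin m) : g (Fr.b (b, true)) = mx Fr g b b • Fr.b (b, true) := by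
  obtain ⟨l, -, e⟩ := hg (b, true)
  rw [mx_smul e, if_pos rfl]
  exact e

/-- the eigenvalue on the opposite vector -/
theorem opp (hi : H.IsIso g) (hg : Mono Fr g id) {z : Fin m × Bool} {l : F} (e : g (Fr.b z) = l • Fr.b z) :
    l ≠ 0 ∧ g (Fr.b (ng z)) = (H.σ l)⁻¹ • Fr.b (ng z) := by
  obtain ⟨l', -, e'⟩ := hg (ng z)
  have h1 := hi (Fr.b (ng z)) (Fr.b z)
  rw [e, e', H.smul_left, H.smul_right, id, ← mul_assoc] at h1
  have h2 : l' * H.σ l = 1 := mul_right_cancel₀ ((Fr.hb_neg_self z).trans_ne (Fr.η_ne z)) (h1.trans (one_mul _).symm)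
  refine ⟨fun h => ?_, by rw [e', eq_inv_of_mul_eq_one_left h2]; rfl⟩
  rw [h, map_zero, mul_zero] at h2
  exact zero_ne_one h2

variable {W : Type} [Group W] (cs : CoxeterSystem (CoxeterMatrix.B m) W)

theorem uni_rg {x : Fin m → ℤ} (hx : IsRoot cs (isCartan m) x) (h0 : 0 ≤ x) (hg : g ∈ rg Fr x) :
    g ∈ St Fr ∧ Uni (mx Fr g) := by
  obtain ⟨⟨i, s⟩, ⟨j, t⟩, rfl : s = true, hij, hok, e⟩ := Omega.EH3.Kf.TwC.exists_pos hx h0
  have key : (∀ b, g (Fr.b (b, true)) = Fr.b (b, true) ∨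
      ∃ (a : Fin m) (c : F), a < b ∧ g (Fr.b (b, true)) = Fr.b (b, true) + c • Fr.b (a, true)) := fun b => by
    rw [rg_eq Fr hok e] at hg
    rcases hok with h | h
    · rw [PG_ne Fr h] at hg
      obtain ⟨c, rfl⟩ := hg
      by_cases hb : (b, true) = ng (j, t)
      · obtain ⟨rfl, h2⟩ := Prod.mk.inj hb
        exact Or.inr ⟨i, c, lt_of_le_of_ne hij h, hb ▸ X_apply_neg Fr h c⟩
      · exact Or.inl (X_apply_of_ne Fr h (by simp [TitsThree.WittFrame.neg]) hb c)
    · rw [← h, PG_self] at hg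
      obtain ⟨c, rfl⟩ := hg
      exact Or.inl (Z_apply_of_ne Fr (by simp [TitsThree.WittFrame.neg]) c)
  refine ⟨fun b => ?_, fun a b hab => ?_⟩
  · rcases key b with h | ⟨a, c, -, h⟩
    · exact ⟨Pi.single b 1, by simp only [h, Pi.single_apply, _root_.ite_smul, _root_.one_smul, _root_.zero_smul, _root_.Finset.sum_ite_eq', _root_.Finset.mem_univ, ↓ _root_.reduceIte]⟩
    · exact ⟨Pi.single b 1 + Pi.single a c, by simp only [h, Pi.single_apply, add_smul, sum_add_distrib, _root_.Pi.add_apply, _root_.ite_smul, _root_.one_smul, _root_.zero_smul, _root_.Finset.sum_ite_eq', _root_.Finset.mem_univ, ↓ _root_.reduceIte]⟩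
  · rcases key b with h | ⟨c, l, hc, h⟩
    · exact mx_fix h a
    · rw [mx, of_apply, h, map_add, map_smul, cf_b, cf_b, one_apply_ne (hc.trans_le hab).ne', smul_zero, add_zero]

theorem homB_fst (w : W) (x : Fin m × Bool) : (homB cs w x).1 = (homB cs w (x.1, true)).1 := by
  rcases eq_or_ng (a := x) (b := (x.1, true)) rfl with h | h
  · rw [← h]
  · conv_lhs => rw [h, homB_ng]
    rfl

/-- the permutation of an element of the Weyl group -/
noncomputable def pwB : W →* Perm (Fin m) :=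
  MonoidHom.toHomPerm
    { toFun := fun w i => (homB cs w (i, true)).1
      map_one' := funext fun i => by rw [map_one]; rfl
      map_mul' := fun v w => funext fun i => by rw [map_mul]; exact homB_fst cs v _ }

theorem pwB_apply (w : W) (x : Fin m × Bool) : pwB cs w x.1 = (homB cs w x).1 := (homB_fst cs w x).symm

theorem pwB_sq {w : W} (hw : pwB cs w = 1) : w * w = 1 := by
  refine homB_injective cs (Equiv.ext fun x => ?_)
  rw [map_mul, map_one, Perm.mul_apply, Perm.one_apply]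
  rcases eq_or_ng (a := homB cs w x) (b := x) (by rw [← pwB_apply, hw]; rfl) with h | h
  · rw [h, h]
  · rw [h, homB_ng, h, TypeC.ng_ng]

end frame

section typeB

variable {k : ℕ} {W : Type} [Group W] (cs : CoxeterSystem (CoxeterMatrix.B (k + 1)) W)

theorem sg_castSucc (i : Fin k) (x : Fin (k + 1) × Bool) : sg i.castSucc x = (_root_.Equiv.swap i.castSucc i.succ x.1, x.2) :=
  congrArg (fun f : Perm (Fin (k + 1) × Bool) => f x) (Hk.Sgn.sgB_castSucc i)

theorem eq_last {j : Fin (k + 1)} (hj : j ∉ Set.range Fin.castSucc) : j = Fin.last k := by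
  induction j using Fin.lastCases with
  | last => rfl
  | cast i => exact absurd ⟨i, rfl⟩ hj

theorem not_lt_last : ¬ ((Fin.last k : Fin (k + 1)) : ℕ) + 1 < k + 1 := by simp

theorem sg_last_fst (x : Fin (k + 1) × Bool) : (sg (Fin.last k) x).1 = x.1 := by
  unfold sg
  rw [dif_neg not_lt_last]
  split_ifs <;> rfl

theorem homB_WJ {w : W} (hw : w ∈ WJ cs (Set.range Fin.castSucc)) (x : Fin (k + 1) × Bool) :
    homB cs w x = (pwB cs w x.1, x.2) := by
  refine Prod.ext (pwB_apply cs w x).symm ?_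
  induction hw using Subgroup.closure_induction generalizing x with
  | mem _ h =>
    obtain ⟨_, ⟨i, rfl⟩, rfl⟩ := h
    rw [homB_simple, sg_castSucc]
  | one => rw [map_one]; rfl
  | mul v w _ _ h1 h2 => rw [map_mul, Perm.mul_apply, h1, h2]
  | inv w _ h1 => rw [map_inv, ← h1 ((homB cs w)⁻¹ x), ← Perm.mul_apply, mul_inv_cancel, Perm.one_apply]

theorem nx_castSucc (i : Fin k) : nx i.castSucc = (i.succ, false) := dif_pos (by simp)

theorem nx_last : nx (Fin.last k) = (Fin.last k, true) := dif_neg not_lt_last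

theorem typeA_B : Lev.TypeA (CoxeterMatrix.B (k + 1)) (Set.range Fin.castSucc) := by
  refine ⟨?_, ?_⟩
  · rintro _ ⟨i, rfl⟩ _ ⟨j, rfl⟩
    simp only [CoxeterMatrix.B, of_apply, Fin.ext_iff, Fin.val_castSucc]
    split_ifs <;> omega
  · rintro i - a - b - c -
    simp only [CoxeterMatrix.B, of_apply, Fin.ext_iff]
    split_ifs <;> omega

end typeB

section model

open Cfsg.Agent.H428.OQ (Line rho rho_inj pr rt pr_c' pr_c_ne conj_nZ dZ_memI dZ_memT sum_pairs card_tr0)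

variable {F : Type} [Field F] [Fintype F] {V : Type} [AddCommGroup V] [Module F V] {H : HForm F V} {k : ℕ}
  {Fr : Frame H (Fin (k + 1))} {Y : Type} [Group Y] [Finite Y]

/-- the sum of a character which is trivial on the subfield over the pairs `(x, c)` -/
theorem sum_chi {q : ℕ} (hF : Fintype.card F = q ^ 2) (χ : MulChar F ℂ) (hχ : ∀ y, y ^ q = y → y ≠ 0 → χ y = 1)
    (hne : χ ≠ 1) {c0 : F} (h0 : c0 ≠ 0) (hc : c0 ^ q = -c0)
    [Fintype {y : F × F // y.1 * y.1 ^ q = -(y.2 + y.2 ^ q)}] :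
    ∑ y : {y : F × F // y.1 * y.1 ^ q = -(y.2 + y.2 ^ q)}, χ (y.1.2 * c0⁻¹) ≠ 0 := by
  classical
  have h2 : ∑ c, χ (c * c0⁻¹) = 0 := (Fintype.sum_equiv (Equiv.mulRight₀ c0⁻¹ (inv_ne_zero h0)) _ _
    (fun c => rfl)).trans (MulChar.sum_eq_zero_of_ne_one hne)
  have h3 : ∑ c ∈ univ.filter (fun c : F => c + c ^ q = 0), χ (c * c0⁻¹) = (q - 1 : ℕ) := by
    have h5 : (0 : F) ∈ univ.filter (fun c : F => c + c ^ q = 0) :=
      mem_filter.2 ⟨mem_univ _, by rw [zero_pow_q hF, add_zero]⟩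
    rw [← add_sum_erase _ _ h5, zero_mul, MulChar.map_zero, zero_add, sum_congr rfl fun c hc' => hχ _ (by
      rw [mul_pow, inv_pow, hc, eq_neg_of_add_eq_zero_right (mem_filter.1 (mem_of_mem_erase hc')).2, inv_neg,
        neg_mul_neg]) (mul_ne_zero (ne_of_mem_erase hc') (inv_ne_zero h0)), sum_const, card_erase_of_mem h5,
      card_tr0 hF h0 hc, nsmul_eq_mul, mul_one]
  have h4 := two_le hF
  have h5 : ∑ y : {y : F × F // y.1 * y.1 ^ q = -(y.2 + y.2 ^ q)}, χ (y.1.2 * c0⁻¹) =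
      (q + 1) * ∑ c, χ (c * c0⁻¹) - q * ∑ c ∈ univ.filter fun c : F => c + c ^ q = 0, χ (c * c0⁻¹) := by
    convert sum_pairs hF (fun c => χ (c * c0⁻¹))
  rw [h5, h2, h3, mul_zero, zero_sub, neg_ne_zero]
  exact mul_ne_zero (Nat.cast_ne_zero.2 (by omega)) (Nat.cast_ne_zero.2 (by omega))

theorem Gn.norm_ne {q e : ℕ} (hF : Fintype.card F = q ^ 2) (hq : Odd q) {x : F} (hx : Gn e x) : x ^ q * x ≠ 1 := by
  intro h
  obtain ⟨c, hc⟩ := (hx.prim.pow_eq_one_iff_dvd _).1 ((pow_succ x q).trans h)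
  obtain ⟨d, rfl⟩ := hq
  refine hx.nd ⟨c * d, ?_⟩
  rw [Nat.card_eq_fintype_card, hF, show (2 * d + 1) ^ 2 = (2 * d + 1 + 1) * (2 * d) + 1 by ring, hc,
    Nat.add_sub_cancel]
  ring

/-- a group with a faithful representation `L` which is modelled on a unitary Witt frame -/
structure UF (M : Model Fr Y) (L : Y →* (V ≃ₗ[F] V)) (q : ℕ) (Δ : Subgroup Fˣ) (p0 : Fr.Adm) : Prop where
  card : Fintype.card F = q ^ 2
  odd : Odd q
  amb : Amb Fr M.I
  inj : Function.Injective L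
  eq : ∀ g : M.I, L (M.φ g) = g
  mem : ∀ y, L y ∈ M.I
  σ : ∀ x, H.σ x = x ^ q
  fix : ∀ g ∈ M.I, (∀ z, g (Fr.b z) = Fr.b z) → g = 1
  c0 : p0.c ≠ 0
  w0 : p0.w = 0
  det : ∀ g ∈ M.I, Mono Fr g id → ∃ δ ∈ Δ, (mx Fr g).det = δ
  adm : ∀ δ ∈ Δ, ∃ p : Fr.Adm, p.c = δ * p0.c
  alt : (Δ = ⊤ ∧ ∃ d, Line Fr q d) ∨ (k ≠ 0 ∧ ∀ δ ∈ Δ, (δ : F) ^ q = δ)

namespace UF

variable {M : Model Fr Y} {L : Y →* (V ≃ₗ[F] V)} {q : ℕ} {Δ : Subgroup Fˣ} {p0 : Fr.Adm} (D : UF M L q Δ p0)
include D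

theorem mem_map {P : Subgroup (V ≃ₗ[F] V)} {y : Y} : y ∈ (P.subgroupOf M.I).map M.φ ↔ L y ∈ P :=
  ⟨fun ⟨g, hg, e⟩ => by rw [← e, D.eq]; exact hg, fun h => ⟨⟨L y, D.mem y⟩, h, D.inj (D.eq _)⟩⟩

theorem mem_T {t : Y} : t ∈ WittModel.T M ↔ Mono Fr (L t) id := D.mem_map.trans (and_iff_right (D.mem t))

theorem exists_T {g : V ≃ₗ[F] V} (hg : g ∈ M.I) (hm : Mono Fr g id) : ∃ t ∈ WittModel.T M, L t = g :=
  ⟨M.φ ⟨g, hg⟩, D.mem_T.2 ((D.eq ⟨g, hg⟩).symm ▸ hm), D.eq _⟩

theorem iso (y : Y) : H.IsIso (L y) := D.amb.iso _ (D.mem y)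

theorem ext {s t : Y} (hs : s ∈ WittModel.T M) (ht : t ∈ WittModel.T M)
    (e : ∀ b, L s (Fr.b (b, true)) = L t (Fr.b (b, true))) : s = t := by
  have h1 : ∀ b, L (t⁻¹ * s) (Fr.b (b, true)) = (1 : F) • Fr.b (b, true) := fun b => by
    rw [map_mul, LinearEquiv.mul_apply, e, ← LinearEquiv.mul_apply, ← map_mul, inv_mul_cancel, map_one, one_smul]
    rfl
  refine (inv_mul_eq_one.1 (D.inj ((D.fix _ (D.mem _) fun ⟨b, c⟩ => ?_).trans (map_one L).symm))).symm
  cases c
  · simpa only [ng, _root_.map_mul, _root_.map_inv, _root_.LinearEquiv.mul_apply, _root_.LinearEquiv.coe_inv, _root_.Bool.not_true, _root_.map_one, _root_.inv_one, _root_.one_smul] using (opp (D.iso _) (D.mem_T.1 (mul_mem (inv_mem ht) hs)) (h1 b)).2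
  · simpa only [_root_.map_mul, _root_.map_inv, _root_.LinearEquiv.mul_apply, _root_.LinearEquiv.coe_inv, _root_.one_smul] using h1 b

theorem exists_two {a b : Fin (k + 1)} (hab : a ≠ b) (x : Fˣ) : ∃ t ∈ WittModel.T M, ∀ c, L t (Fr.b (c, true)) =
    ((Pi.mulSingle a x * Pi.mulSingle b x⁻¹ : Fin (k + 1) → Fˣ) c : F) • Fr.b (c, true) := by
  have h : ((a, true) : Fin (k + 1) × Bool).1 ≠ ((b, false) : Fin (k + 1) × Bool).1 := hab
  obtain ⟨t, ht, e⟩ := D.exists_T (hX_mem M (a, true) (b, false) x) (mono_hX Fr h x.ne_zero)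
  refine ⟨t, ht, fun c => ?_⟩
  rw [e]
  by_cases h1 : c = a
  · simpa [h1, hab] using hX_a Fr h x.ne_zero
  by_cases h2 : c = b
  · simpa [h2, hab.symm, TitsThree.WittFrame.neg] using hX_nb Fr h x.ne_zero
  · simpa [h1, h2] using hX_ne Fr h (z := (c, true)) h1 h2 x

theorem exists_last {δ : Fˣ} (hδ : δ ∈ Δ) : ∃ t ∈ WittModel.T M, ∀ c, L t (Fr.b (c, true)) =
    ((Pi.mulSingle (Fin.last k) δ : Fin (k + 1) → Fˣ) c : F) • Fr.b (c, true) := by
  obtain ⟨r, hr⟩ := D.adm δ hδ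
  have h : r.c ≠ 0 := hr ▸ mul_ne_zero δ.ne_zero D.c0
  refine ⟨_, dZ_memT M not_lt_last D.c0 h, fun c => ?_⟩
  rw [D.eq]
  by_cases h1 : c = Fin.last k
  · rw [h1, Pi.mulSingle_eq_same, dZ_a D.c0 h, hr, mul_inv_cancel_right₀ D.c0]
  · rw [Pi.mulSingle_eq_of_ne h1, Units.val_one, one_smul]
    exact dZ_ne h1

variable {W : Type} [Group W] [Finite W] {cs : CoxeterSystem (CoxeterMatrix.B (k + 1)) W} {p : ℕ} {nw : Fin (k + 1) → Y}
  (hn : ∀ i, L (nw i) = nn Fr p0 i) (R : RGD cs (isCartan (k + 1)) p (WittModel.T M) nw (WittModel.X M))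
include hn

theorem mono_rp {w : W} {g : Y} (hg : Rp cs R.nsys w g) : Mono Fr (L g) (homB cs w) := by
  have h1 : ∀ w : W, ∃ g, Rp cs R.nsys w g ∧ Mono Fr (L g) (homB cs w) := fun w => by
    induction w using cs.simple_induction_left with
    | one => exact ⟨1, rp_one, by rw [map_one, map_one]; exact Mono.one⟩
    | mul_simple_left w i ih =>
      obtain ⟨g, h1, h2⟩ := ih
      refine ⟨_, (rp_simple _ _ i).mul h1, ?_⟩
      rw [map_mul, hn]
      exact ((mono_nn D.c0 i).mul h2).congr fun x => by rw [map_mul, Perm.mul_apply, homB_simple]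
  obtain ⟨g0, h2, h3⟩ := h1 w
  have h4 := h3.mul (D.mem_T.1 (h2.unique hg))
  rwa [← map_mul, mul_inv_cancel_left] at h4

include R in
/-- a character which is fixed by the last reflection is trivial on the norms -/
theorem norm_one {mu : ↥(WittModel.T M) →* ℂˣ} (hmu : Cj (WittModel.T M) mu mu (nw (Fin.last k))) {t : Y}
    (ht : t ∈ WittModel.T M) (h1 : ∀ a, a ≠ Fin.last k → L t (Fr.b (a, true)) = Fr.b (a, true)) {y : F}
    (h2 : L t (Fr.b (Fin.last k, true)) = y • Fr.b (Fin.last k, true)) (hy : y ^ q = y) : mu ⟨t, ht⟩ = 1 := by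
  obtain ⟨x, hx0, hx⟩ := exists_norm_eq_ne D.card hy (opp (D.iso t) (D.mem_T.1 ht) h2).1
  obtain ⟨s, hs, h3⟩ : ∃ s ∈ WittModel.T M, L s (Fr.b (Fin.last k, true)) = x • Fr.b (Fin.last k, true) := by
    rcases D.alt with ⟨h, -⟩ | ⟨h, -⟩
    · obtain ⟨s, hs, e⟩ := D.exists_last (δ := Units.mk0 x hx0) (h ▸ Subgroup.mem_top _)
      exact ⟨s, hs, by simpa using e (Fin.last k)⟩
    · have h0 : Fin.last k ≠ 0 := by simpa using h
      obtain ⟨s, hs, e⟩ := D.exists_two h0 (Units.mk0 x hx0)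
      exact ⟨s, hs, by simpa [h0] using e (Fin.last k)⟩
  have hs' : (nw (Fin.last k))⁻¹ * s * nw (Fin.last k) ∈ WittModel.T M :=
    (Subgroup.mem_normalizer_iff''.1 (R.nsys.norm _) s).1 hs
  have h4 : ∀ z l, L s (Fr.b (sg (Fin.last k) z)) = l • Fr.b (sg (Fin.last k) z) →
      L ((nw (Fin.last k))⁻¹ * s * nw (Fin.last k)) (Fr.b z) = (l : F) • Fr.b z := fun z l e => by
    obtain ⟨c, -, hc⟩ := mono_nn D.c0 (Fin.last k) z
    rw [map_mul, map_mul, map_inv, hn, LinearEquiv.mul_apply, LinearEquiv.mul_apply, hc, map_smul, e, smul_comm, ← hc,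
      map_smul, ← LinearEquiv.mul_apply, inv_mul_cancel]
    rfl
  have h5 : t * ((nw (Fin.last k))⁻¹ * s * nw (Fin.last k)) = s := D.ext (mul_mem ht hs') hs fun b => by
    rw [map_mul, LinearEquiv.mul_apply]
    by_cases hb : b = Fin.last k
    · rw [hb, h4 _ (H.σ x)⁻¹ (by rw [TypeC.sg_last not_lt_last]; exact (opp (D.iso s) (D.mem_T.1 hs) h3).2), map_smul,
        h2, h3, smul_smul, D.σ, ← hx, mul_comm x, inv_mul_cancel_left₀ (pow_ne_zero _ hx0)]
    · rw [h4 _ (mx Fr (L s) b b) (by rw [TypeC.sg_of_ne hb (by simp; omega)]; exact tor_e (D.mem_T.1 hs) b), map_smul,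
        h1 b hb, ← tor_e (D.mem_T.1 hs)]
  have h6 := hmu s hs hs'
  rw [show (⟨s, hs⟩ : WittModel.T M) = ⟨t, ht⟩ * ⟨_, hs'⟩ from Subtype.ext h5.symm, map_mul] at h6
  exact mul_eq_right.1 h6

omit hn in
theorem mem_X_last {x : Y} : x ∈ WittModel.X M (sr (Fin.last k)) ↔ ∃ r, rho M (Fin.last k, true) r = x := by
  refine D.mem_map.trans ?_
  rw [rg_sr, nx_last, PG_self]
  exact ⟨fun ⟨r, e⟩ => ⟨r, D.inj ((D.eq _).trans e.symm)⟩, fun ⟨r, e⟩ => ⟨r, e ▸ D.eq _⟩⟩

theorem n_last : L (nw (Fin.last k)) = nZ Fr (Fin.last k, true) p0 := (hn _).trans (if_neg not_lt_last)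

theorem tx_fix {x : Y} (hx : x ∈ WittModel.X M (sr (Fin.last k))) (hx1 : x ≠ 1) {a : Fin (k + 1)}
    (ha : a ≠ Fin.last k) : L (tx R (Fin.last k) x) (Fr.b (a, true)) = Fr.b (a, true) := by
  obtain ⟨-, u, hu, v, hv, e⟩ := tx_spec R hx hx1
  let S := (MulAction.stabilizer (V ≃ₗ[F] V) (Fr.b (a, true))).comap L
  have h1 : WittModel.X M (sr (Fin.last k)) ≤ S := fun y hy => by
    obtain ⟨r, rfl⟩ := D.mem_X_last.1 hy
    change L (M.φ _) _ = _
    rw [D.eq]
    exact Z_apply_of_ne Fr (by simp [TitsThree.WittFrame.neg]) r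
  have h2 : nw (Fin.last k) ∈ S := by
    change L _ _ = _
    rw [D.n_last hn]
    exact nZ_apply_of_ne Fr (z := (a, true)) ha p0
  have h3 : tx R (Fin.last k) x = u⁻¹ * (nw (Fin.last k) * x * (nw (Fin.last k))⁻¹) * v⁻¹ * (nw (Fin.last k))⁻¹ := by
    rw [e]; group
  change tx R (Fin.last k) x ∈ S
  rw [h3]
  exact mul_mem (mul_mem (mul_mem (inv_mem (h1 hu)) (mul_mem (mul_mem h2 (h1 hx)) (inv_mem h2))) (inv_mem (h1 hv)))
    (inv_mem h2)

include R in
theorem dich (h : ∀ δ ∈ Δ, (δ : F) ^ q = δ) {mu : ↥(WittModel.T M) →* ℂˣ}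
    (hmu : Cj (WittModel.T M) mu mu (nw (Fin.last k))) {t : Y} (ht : t ∈ WittModel.T M)
    (h1 : ∀ a, a ≠ Fin.last k → mx Fr (L t) a a = 1) : mu ⟨t, ht⟩ = 1 := by
  obtain ⟨δ, hδ, e⟩ := D.det _ (D.mem t) (D.mem_T.1 ht)
  rw [mx_diag (tor_e (D.mem_T.1 ht)), det_diagonal, prod_eq_single (Fin.last k) (fun a _ ha => h1 a ha) (by simp)] at e
  exact D.norm_one hn R hmu ht (fun a ha => by rw [tor_e (D.mem_T.1 ht), h1 a ha, one_smul]) (tor_e (D.mem_T.1 ht) _)
    (e ▸ h δ hδ)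

theorem znode {mu : ↥(WittModel.T M) →* ℂˣ} (hmu : Cj (WittModel.T M) mu mu (nw (Fin.last k))) :
    zet R (Fin.last k) mu ≠ 0 := by
  classical
  rcases D.alt with ⟨hΔ, d, hd⟩ | ⟨-, h⟩
  swap
  · exact zet_ne_of_one R fun x hx hx1 => D.dich hn R h hmu _ fun a ha => by
      rw [mx_fix (D.tx_fix hn R hx hx1 ha), one_apply_eq]
  choose c hc ec using fun u : Fˣ => D.exists_last (δ := (u ^ q)⁻¹) (hΔ ▸ Subgroup.mem_top _)
  let ψ : Fˣ →* ℂˣ := MonoidHom.mk' (fun u => mu ⟨c u, hc u⟩) fun u v => by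
    rw [← map_mul]
    refine congrArg mu (Subtype.ext (D.ext (hc _) (mul_mem (hc u) (hc v)) fun b => ?_))
    rw [Subgroup.coe_mul, map_mul, LinearEquiv.mul_apply, ec, ec, map_smul, ec, smul_smul, mul_pow, mul_inv, Pi.mulSingle_mul,
      Pi.mul_apply, Units.val_mul, mul_comm]
  have hr : ∀ r, rho M (Fin.last k, true) r ≠ 1 ↔ r.c ≠ 0 := fun r => not_congr
    ⟨fun e => congrArg Frame.Adm.c (rho_inj M _ (e.trans (map_one _).symm)), fun e => by rw [hd.eq_one D.card e, map_one]⟩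
  have h1 : ∀ r (h : r.c ≠ 0), tx R (Fin.last k) (rho M (Fin.last k, true) r) =
      c (Units.mk0 _ (mul_ne_zero h (inv_ne_zero D.c0))) := fun r h => by
    have h2 := (tx_unique R (D.mem_X_last.2 ⟨r, rfl⟩) ((hr r).2 h) (dZ_memT M not_lt_last D.c0 (pr_c_ne D.c0 h))
      (inv_mem (D.mem_X_last.2 ⟨pr p0 r, rfl⟩)) (inv_mem (D.mem_X_last.2 ⟨rt p0 r, rfl⟩)) (D.inj (by
        simp only [map_mul, map_inv, D.n_last hn, rho, MonoidHom.mk'_apply, D.eq]
        exact conj_nZ hd M D.amb D.c0 D.w0 _ h))).1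
    refine D.ext (tx_mem R _ _) (hc _) fun b => ?_
    rw [ec]
    by_cases hb : b = Fin.last k
    · rw [h2, D.eq, hb, dZ_a D.c0 (pr_c_ne D.c0 h), pr_c' p0 h, Pi.mulSingle_eq_same, D.σ, D.σ]
      have := D.c0
      congr 1
      simp only [Units.val_inv_eq_inv_val, Units.val_pow_eq_pow_val, Units.val_mk0, mul_pow, inv_pow]
      field_simp
    · rw [D.tx_fix hn R (D.mem_X_last.2 ⟨r, rfl⟩) ((hr r).2 h) hb, Pi.mulSingle_eq_of_ne hb, Units.val_one, one_smul]
  by_cases h0 : MulChar.ofUnitHom ψ = 1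
  · refine zet_ne_of_one R fun x hx hx1 => ?_
    obtain ⟨r, rfl⟩ := D.mem_X_last.1 hx
    simp only [h1 r ((hr r).1 hx1)]
    exact Units.ext ((MulChar.ofUnitHom_coe ψ _).symm.trans (h0 ▸ MulChar.one_apply_coe _))
  let _ := Fintype.ofFinite ↥(WittModel.X M (sr (Fin.last k)))
  let E : Fr.Adm ≃ ↥(WittModel.X M (sr (Fin.last k))) := Equiv.ofBijective (fun r => ⟨_, D.mem_X_last.2 ⟨r, rfl⟩⟩)
    ⟨fun r s h => rho_inj M _ (congrArg Subtype.val h), fun x => (D.mem_X_last.1 x.2).imp fun _ => Subtype.ext⟩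
  refine (Fintype.sum_equiv (hd.equiv.trans E) _ _ fun y => ?_).symm.trans_ne
    (sum_chi D.card (MulChar.ofUnitHom ψ) (fun y hy hy0 => ?_) h0 D.c0 (hd.c_pow D.w0))
  · change _ = if rho M _ (hd.equiv y) = 1 then _ else ((mu ⟨tx R _ (rho M _ (hd.equiv y)), tx_mem R _ _⟩ : ℂˣ) : ℂ)
    split_ifs with h
    · rw [← hd.equiv_c, not_not.1 (mt (hr _).2 (not_not.2 h)), zero_mul, MulChar.map_zero]
    · simp only [h1 _ ((hr _).1 h)]
      exact MulChar.ofUnitHom_coe ψ (Units.mk0 _ (mul_ne_zero ((hr _).1 h) (inv_ne_zero D.c0)))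
  · refine (MulChar.ofUnitHom_coe ψ (Units.mk0 y hy0)).trans (congrArg Units.val (D.norm_one hn R hmu (hc _)
      (fun a ha => by rw [ec, Pi.mulSingle_eq_of_ne ha, Units.val_one, one_smul]) (ec _ _) ?_))
    simp [hy]

omit hn in
theorem uni {u : Y} (hu : u ∈ UU cs (isCartan (k + 1)) (WittModel.X M)) {P : Subgroup Y} (hP : ∀ y, y ∈ P ↔ L y ∈ St Fr) :
    u ∈ P ∧ Uni (mx Fr (L u)) :=
  uni_of_gen (ρ := fun y => mx Fr (L y)) (by ext a b; rw [map_one]; exact mx_fix rfl a)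
    (fun g _ g' hg' => by rw [map_mul, mx_mul ((hP _).1 hg')])
    (fun x hx h0 u hu => (uni_rg cs hx h0 (D.mem_map.1 hu)).imp_left (hP u).2) hu

/-- the unipotent radical has no fixed points -/
theorem cv {u d : Y} (hu : ∀ b, L u (Fr.b (b, true)) = Fr.b (b, true)) {w : W} (hw : w ∈ WJ cs (Set.range Fin.castSucc))
    (hd : Rp cs R.nsys w d) (hdu : d * u = u * d) {e : ℕ} {x : F} (hx : Gn e x) {j : Fin (k + 1)}
    (h1 : mx Fr (L d) *ᵥ Pi.single j 1 = x • (Pi.single j 1 : Fin (k + 1) → F))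
    (h2 : ∀ (y : F) v, Gn e y → y ≠ x → mx Fr (L d) *ᵥ v = y • v → v = 0) : L u (Fr.b (j, false)) = Fr.b (j, false) := by
  have hm := D.mono_rp hn R hd
  have h3 : L d (Fr.b (j, true)) = x • Fr.b (j, true) := by
    rw [st_eq (st_mono hm fun b => homB_WJ cs hw (b, true)).1]
    simp [show ∀ c, mx Fr (L d) c j = _ from fun c => (by simpa using congrFun h1 c), Pi.single_apply]
  have h4 : L d (Fr.b (j, false)) = (x ^ q)⁻¹ • Fr.b (j, false) := by
    obtain ⟨l, hl, e1⟩ := hm (j, true)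
    obtain ⟨l', -, e2⟩ := hm (j, false)
    have h5 : homB cs w (j, true) = (j, true) := by
      by_contra hc
      refine not_prop (Fr := Fr) hc (mul_ne_zero (inv_ne_zero hl) hx.ne_zero) ?_
      rw [mul_smul, ← h3, e1, inv_smul_smul₀ hl]
    have h6 := D.iso d (Fr.b (j, true)) (Fr.b (j, false))
    rw [show homB cs w (j, false) = (j, false) from (homB_ng cs w (j, true)).trans (congrArg ng h5)] at e2
    rw [h3, e2, H.smul_left, H.smul_right, ← mul_assoc, Fr.hb, if_pos (by simp), if_pos rfl, mul_one] at h6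
    rw [e2, ← D.σ, ← map_inv₀, ← eq_inv_of_mul_eq_one_right h6, H.σσ]
  set z := L u (Fr.b (j, false)) - Fr.b (j, false) with hz
  have h5 : L d z = (x ^ q)⁻¹ • z := by
    rw [hz, map_sub, ← LinearEquiv.mul_apply, ← map_mul, hdu, map_mul, LinearEquiv.mul_apply, h4, map_smul, smul_sub]
  have h6 : z - ∑ c, cf Fr c z • Fr.b (c, true) ∈ Fr.V0 := D.amb.V0 _ fun ⟨a, s⟩ => by
    cases s
    · change cf Fr a _ = 0
      rw [map_sub, cf_sum, sub_self]
    · have h7 : H.h (∑ c, cf Fr c z • Fr.b (c, true)) (Fr.b (a, true)) = 0 :=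
        sum_induction _ (fun v => H.h v (Fr.b (a, true)) = 0) (fun _ _ h h' => by rw [H.add_left, h, h', add_zero])
          (H.zero_left _) fun c _ => by rw [H.smul_left, Fr.hb_ne (by simp [TitsThree.WittFrame.neg]), mul_zero]
      rw [H.sub_left, h7, sub_zero, hz, H.sub_left, ← D.iso u (Fr.b (j, false)), hu, sub_self]
  have hy : Gn e (x ^ q)⁻¹ := (hx.pow_odd D.odd).inv
  have h7 : (fun c => cf Fr c z) = 0 := h2 _ _ hy
    (fun h => hx.norm_ne D.card D.odd (by rw [← mul_inv_cancel₀ hy.inv.ne_zero, inv_inv, h])) (funext fun a => by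
      have h8 : cf Fr a (L d (z - _)) = 0 := Fr.h0' _
        (D.amb.map_V0 (D.mem d) hm (ρ := ⇑(homB cs w)⁻¹) (fun x => Equiv.apply_symm_apply _ x) h6)
      rw [map_sub, map_sub, cf_map, h5, map_smul, sub_eq_zero] at h8
      exact h8.symm)
  simp only [show ∀ c, cf Fr c z = 0 from congrFun h7, zero_smul, sum_const_zero, sub_zero] at h6
  refine sub_eq_zero.1 (D.amb.aniso z h6 (by_contra fun h => hx.norm_ne D.card D.odd ?_))
  have h8 := D.iso d z z
  rw [h5, H.smul_left, H.smul_right, ← mul_assoc, D.σ, inv_pow, pow_q_pow_q D.card, ← mul_inv] at h8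
  exact inv_eq_one.1 (mul_right_cancel₀ h (h8.trans (one_mul _).symm))

theorem n_castSucc (i : Fin k) : L (nw i.castSucc) = nX Fr (i.castSucc, true) (i.succ, false) 1 := by
  rw [hn, ← nx_castSucc]
  exact if_pos (by simp)

theorem n_mon (i : Fin k) : L (nw i.castSucc) ∈ St Fr ∧ IsMon (_root_.Equiv.swap i.castSucc i.succ) (mx Fr (L (nw i.castSucc))) :=
  st_mono (hn _ ▸ mono_nn D.c0 _) fun b => sg_castSucc i (b, true)

theorem n_fix (i : Fin k) {b : Fin (k + 1)} (h1 : b ≠ i.castSucc) (h2 : b ≠ i.succ) :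
    mx Fr (L (nw i.castSucc)) b b = 1 := by
  rw [D.n_castSucc hn, mx_fix (nX_apply_of_ne Fr i.castSucc_lt_succ.ne (z := (b, true)) h1 h2 1), one_apply_eq]

/-- **the linear datum of a unitary group** -/
noncomputable def ld : LD R F k :=
  let P : Subgroup Y := ⟨(St Fr).comap L, fun {g} hg => inv_eq_pow g ▸ Submonoid.pow_mem _ hg _⟩
  have hT : ∀ t ∈ WittModel.T M, L t ∈ St Fr ∧ IsMon 1 (mx Fr (L t)) := fun t ht => st_mono (D.mem_T.1 ht) fun _ => rfl
  { P := P
    ρ := fun y => mx Fr (L y)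
    ι := Fin.castSucc
    pw := pwB cs
    Δ := Δ
    B_le := sup_le (fun t ht => (hT t ht).1) fun u hu => (D.uni hu (P := P) fun _ => Iff.rfl).1
    n_mem := fun i => (D.n_mon hn i).1
    one := by ext a b; rw [map_one]; exact mx_fix rfl a
    mul := fun g _ g' hg' => by rw [map_mul, mx_mul hg']
    U_tri := fun u hu => (D.uni hu (P := P) fun _ => Iff.rfl).2
    T_diag := fun t ht => (hT t ht).2
    T_inj := fun t ht h => D.ext ht (one_mem _) fun b => by
      rw [tor_e (D.mem_T.1 ht), h, one_apply_eq, one_smul, map_one]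
      rfl
    T_det := fun t ht => D.det _ (D.mem t) (D.mem_T.1 ht)
    T_two := fun a x ha => (D.exists_two ha x).imp fun _ h => ⟨h.1, mx_diag h.2⟩
    T_last := fun δ hδ => (D.exists_last hδ).imp fun _ h => ⟨h.1, mx_diag h.2⟩
    n_mon := fun i => (D.n_mon hn i).2
    n_fix := fun i b => D.n_fix hn i
    n_det := fun i => by
      have h := i.castSucc_lt_succ.ne
      rw [(D.n_mon hn i).2.eq, det_mon, Perm.sign_swap h, prod_eq_mul i.castSucc i.succ h
        (fun c _ hc => by rw [swap_apply_of_ne_of_ne hc.1 hc.2, D.n_fix hn i hc.1 hc.2]) (by simp) (by simp),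
        swap_apply_left, swap_apply_right, D.n_castSucc hn,
        mx_smul ((nX_apply_self Fr h one_ne_zero).trans (neg_smul _ _).symm), mx_smul (nX_apply_neg Fr h one_ne_zero)]
      simp
    X_fix := fun i x hx a b hb => by
      have h1 := D.mem_map.1 hx
      rw [rg_sr, nx_castSucc, PG_ne Fr i.castSucc_lt_succ.ne] at h1
      obtain ⟨t, e⟩ := h1
      rw [e]
      exact mx_fix (X_apply_of_ne Fr i.castSucc_lt_succ.ne (by simp [TitsThree.WittFrame.neg])
        (by simpa [TitsThree.WittFrame.neg] using hb) t) a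
    pw_in := fun i => Equiv.ext fun j => by rw [pwB_apply cs _ (j, true), homB_simple, sg_castSucc]
    pw_out := fun j hj => Equiv.ext fun a => by
      rw [pwB_apply cs _ (a, true), homB_simple, eq_last hj, sg_last_fst]
      rfl
    pw_sq := fun w => pwB_sq cs
    pw_inj := fun w hw h => homB_injective cs (Equiv.ext fun x => by rw [homB_WJ cs hw, h, map_one]; rfl)
    ta := typeA_B
    znode := fun j hj mu hmu => by
      obtain rfl := eq_last hj
      exact D.znode hn R hmu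
    dich := D.alt.imp And.left fun h mu hmu t ht h1 => D.dich hn R h.2 (hmu _ (by simp)) ht h1
    cv := fun u hu h e h1 => D.inj ((D.fix _ (D.mem u) fun ⟨j, s⟩ => by
      have h2 : ∀ b, L u (Fr.b (b, true)) = Fr.b (b, true) := fun b => by
        rw [st_eq (D.uni hu (P := P) fun _ => Iff.rfl).1]
        simp [show mx Fr (L u) = 1 from h, one_apply]
      cases s
      · obtain ⟨w, hw, d, hd, hdu, x, hx, h3, h4⟩ := h1 j
        exact D.cv hn R h2 hw hd hdu hx h3 h4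
      · exact h2 j).trans (map_one L).symm) }

end UF

end model

end Cfsg.Agent.ODD.FA
end

-- part: ODD/FA/SU
section
/-!
# ODD, box FA: the groups `SU_n(q)` (helper35)

* `uf_even`, `uf_odd` : the unitary Witt frames; `exists_su` : the root group datum with `UF`, `GG = ⊤` and `NoFix`;
* `qa_su`; **`boxA_psu : RowA PsuO`**.
-/

set_option autoImplicit false
set_option linter.unusedSectionVars false
set_option maxHeartbeats 400000

open Cfsg

namespace Cfsg.Agent.ODD.FA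

open Equiv Finset Matrix CoxeterSystem Cfsg.Agent.ChevalleyStructure.CoxeterGeom Cfsg.Agent.Tits.Roots
  Cfsg.Agent.Nodes.Reps Cfsg.Agent.Nodes.BNOf Cfsg.Agent.Nodes.Bruhat Cfsg.Agent.Nodes
open Cfsg.Agent.TitsThree.Siegel Cfsg.Agent.TitsThree.WittFrame Cfsg.Agent.TitsThree.WittWeyl
  Cfsg.Agent.TitsThree.FrameCN Cfsg.Agent.LieClassical.HermBasic Cfsg.Agent.TitsThree.SiegelGen
  Cfsg.Agent.TitsThree.WBridge Cfsg.Agent.TitsThree.KSideU Cfsg.Agent.TitsThree.KSideUDesc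
open Cfsg.Agent.Nodes.WittRoot (Amb Mono)
open Cfsg.Agent.Nodes.WittRGD (eq_or_ng nn)
open Cfsg.Agent.Nodes.WittU (amb_U exists_adm)
open Cfsg.Agent.Nodes.TypeC (ng isCartan)
open Cfsg.Agent.H61.SUCross (modelSU)
open Cfsg.Agent.H69.OQ (NoFix nofix_of nofix_tt exists_two_elt exists_torus)
open Cfsg.Agent.H428.OQ (line_psu)

variable {F : Type} [Field F] [Fintype F] {q N k : ℕ} (hF : Fintype.card F = q ^ 2) (hq : Odd q) (hN : 3 ≤ N)
  (W : WFrame (PU hF N) (k + 1)) {p0 : (toFrame W).Adm} (hp0 : p0.c ≠ 0) (hw0 : p0.w = 0)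

include hq hp0 hw0

theorem uf_odd {d : Fin N → F} (hd : hermForm N F q d d = 1) (hV : W.V0 = Submodule.span F {d}) :
    UF (modelSU hF hN W) (_root_.Cfsg.Agent.TitsThree.KSideU.toLin F q N) q ⊤ p0 where
  card := hF
  odd := hq
  amb := amb_U hF W
  inj := toLin_injective
  eq := toLin_ofRange
  mem y := ⟨y, rfl⟩
  σ _ := rfl
  fix _ := H346.PwU.eq_one_odd hF hd hV
  c0 := hp0
  w0 := hw0
  det g hg hm := ⟨Units.mk0 _ ((prod_ne_zero_iff (s := univ)).2 fun b _ => (opp ((amb_U hF W).iso g hg) hm (tor_e hm b)).1),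
    Subgroup.mem_top _, (congrArg det (mx_diag (tor_e hm))).trans det_diagonal⟩
  adm _ _ := (line_psu hF W hd hV).exists_c hF
  alt := Or.inl ⟨rfl, d, line_psu hF W hd hV⟩

theorem uf_even (hk : N = 2 * (k + 1)) (hV : W.V0 = ⊥) :
    UF (modelSU hF hN W) (_root_.Cfsg.Agent.TitsThree.KSideU.toLin F q N) q ((powMonoidHom q).eqLocus (MonoidHom.id Fˣ)) p0 where
  card := hF
  odd := hq
  amb := amb_U hF W
  inj := toLin_injective
  eq := toLin_ofRange
  mem y := ⟨y, rfl⟩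
  σ _ := rfl
  fix _ _ h := WittRGD.Amb.eq_one_of_fix (amb_U hF W) h fun w (hw : w ∈ W.V0) => by
    rw [show w = 0 from (Submodule.mem_bot F).1 (hV ▸ hw), map_zero]
  c0 := hp0
  w0 := hw0
  det g hg hm := by
    have hi := (amb_U hF W).iso g hg
    have h0 : ∀ b, mx (toFrame W) g b b ≠ 0 := fun b => (opp hi hm (tor_e hm b)).1
    let B := basisOfLinearIndependentOfCardEqFinrank (K := F) (b := (toFrame W).b) (Fintype.linearIndependent_iff.2 fun c hc x => by
      have h1 := congrArg (fun v => (HU hF N).h v ((toFrame W).b (ng x))) hc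
      simp only [HU_h, herm_sum_left, herm_smul_left, herm_zero_left] at h1
      exact (mul_eq_zero.1 ((sum_eq_single x (fun y _ hy => mul_eq_zero_of_right _ ((toFrame W).hb_ne fun h =>
        hy ((TypeC.ng_ng y).symm.trans ((congrArg ng h).symm.trans (TypeC.ng_ng x))))) (by simp)).symm.trans
        h1)).resolve_right (((toFrame W).hb_self_neg x).trans_ne ((toFrame W).η_ne _)))
      (by simp [hk, mul_comm])
    have h1 := B.det_comp (g : (Fin N → F) →ₗ[F] (Fin N → F)) B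
    have h2 : (g : (Fin N → F) →ₗ[F] (Fin N → F)) ∘ B = fun x => (if x.2 then mx (toFrame W) g x.1 x.1 else
        (mx (toFrame W) g x.1 x.1 ^ q)⁻¹) • B x := funext fun ⟨b, s⟩ => by
      simp only [B, coe_basisOfLinearIndependentOfCardEqFinrank]
      cases s
      · exact (opp hi hm (tor_e hm b)).2
      · exact tor_e hm b
    obtain ⟨A, rfl⟩ := hg
    rw [h2, AlternatingMap.map_smul_univ, B.det_self, show (toLin F q N A : (Fin N → F) →ₗ[F] (Fin N → F)) =
      Matrix.toLin' A.1.1 from LinearMap.ext fun v => by rw [Matrix.toLin'_apply]; rfl,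
      LinearMap.det_toLin', A.1.2, Fintype.prod_prod_type_right,
      Fintype.prod_bool] at h1
    simp only [if_true, Bool.false_eq_true, if_false, prod_inv_distrib, prod_pow, smul_eq_mul, mul_one] at h1
    refine ⟨Units.mk0 _ ((prod_ne_zero_iff (s := univ)).2 fun b _ => h0 b), Units.ext ?_,
       (congrArg det (mx_diag (tor_e hm))).trans det_diagonal⟩
    exact ((mul_inv_eq_one₀ (pow_ne_zero _ ((prod_ne_zero_iff.2 fun b _ => h0 b :)))).1 h1).symm
  adm δ hδ := ⟨⟨0, δ * p0.c, zero_mem _, by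
    have h1 := p0.ok.2
    rw [ok_iff, hw0] at h1
    rw [ok_iff, mul_pow, show (δ : F) ^ q = δ from congrArg Units.val hδ, ← mul_add, h1, herm_zero_left, neg_zero,
      mul_zero]⟩, rfl⟩
  alt := Or.inr ⟨by omega, fun _ hδ => congrArg Units.val hδ⟩

omit hp0 hw0

theorem nofix_su3 (W : WFrame (PU hF N) 1) {d : Fin N → F} (hd : hermForm N F q d d = 1)
    (hV : W.V0 = Submodule.span F {d}) {G : Type} [Group G] (cs : CoxeterSystem (CoxeterMatrix.B 1) G) :
    NoFix cs (isCartan 1) (WittModel.T (modelSU hF hN W)) (WittModel.X (modelSU hF hN W)) := by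
  have hA := amb_U hF W
  refine nofix_of _ cs hA (fun a b hab => absurd (Subsingleton.elim _ _) hab) fun a p hp => ?_
  obtain ⟨t, j, ht, h0⟩ : ∃ (t : F) (j : ℕ), t ^ 2 ^ j = 1 ∧
      ¬ (t ^ q • (t ^ q / t) • p.w = p.w ∧ t ^ q * (t ^ q) ^ q * p.c = p.c) := by
    by_cases hw : p.w = 0
    · obtain ⟨t, j, ht, h⟩ := exists_two_elt hF hq
      refine ⟨t, j, ht, fun h1 => hp (Frame.Adm.ext hw (by_contra fun h2 => h ?_))⟩
      rw [mul_comm, ← mul_right_cancel₀ h2 (h1.2.trans (one_mul _).symm), pow_q_pow_q hF]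
    · refine ⟨-1, 1, by norm_num, fun h1 => hw ?_⟩
      have h2 : (2 : F) • p.w = 0 := by
        simpa only [hq.neg_one_pow, neg_eq_iff_add_eq_zero, two_smul, _root_.ne_eq, _root_.add_zero, _root_.one_ne_zero, _root_.not_false_eq_true, _root_.div_self, _root_.one_smul, _root_.neg_smul] using h1.1
      exact (smul_eq_zero.1 h2).resolve_left (Ring.two_ne_zero (two_ne_of_odd (hF ▸ hq.pow)))
  have ht0 : t ≠ 0 := by
    rintro rfl
    simp at ht
  obtain ⟨g, hg, h1, h2, -, h4⟩ := exists_torus hF W hd hV a ht0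
  have hm : Mono (toFrame W) g id := fun z => by
    rcases eq_or_ng (Subsingleton.elim z.1 a.1) with rfl | rfl
    · exact ⟨t, ht0, h1⟩
    · exact ⟨_, inv_ne_zero (pow_ne_zero _ ht0), h2⟩
  have key : ∀ (v : Fin N → F) (l : F), l ^ 2 ^ j = 1 → g v = l • v → (g ^ 2 ^ j) v = v := fun v l hl e => by
    have h5 : ∀ i : ℕ, (g ^ i) v = l ^ i • v := fun i => by
      induction i with
      | zero => simp
      | succ i ih => rw [pow_succ, LinearEquiv.mul_apply, e, map_smul, ih, smul_smul, pow_succ']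
    rw [h5, hl, one_smul]
  have h5 : (t ^ q) ^ 2 ^ j = 1 := by rw [← pow_mul, mul_comm, pow_mul, ht, one_pow]
  obtain ⟨r, hr, hr'⟩ := hA.exists_adm hg hm (ρ := id) (fun _ => rfl) p
  refine ⟨g, t, r, hg, hm, ⟨j, WittRGD.Amb.eq_one_of_fix hA (fun z => ?_) fun w hw =>
    key _ _ (by rw [div_pow, h5, ht, div_one]) (h4 w hw)⟩, h1, hr, hr', fun h => h0 ⟨?_, ?_⟩⟩
  · rcases eq_or_ng (Subsingleton.elim z.1 a.1) with rfl | rfl
    · exact key _ _ ht h1
    · exact key _ _ (by rw [inv_pow, h5, inv_one]) h2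
  · rw [← h4 _ p.ok.1, hr]
    exact congrArg Frame.Adm.w h
  · exact (congrArg _ hr').trans (congrArg Frame.Adm.c h)

include hN in
/-- **the root group datum of `SU_N(q)`** -/
theorem exists_su : ∃ (k : ℕ) (W : WFrame (PU hF N) (k + 1)) (p0 : (toFrame W).Adm) (Δ : Subgroup Fˣ),
    UF (modelSU hF hN W) (_root_.Cfsg.Agent.TitsThree.KSideU.toLin F q N) q Δ p0 ∧ NoFix (CoxeterMatrix.B (k + 1)).toCoxeterSystem (isCartan (k + 1))
      (WittModel.T (modelSU hF hN W)) (WittModel.X (modelSU hF hN W)) := by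
  obtain ⟨t, j, ht, h⟩ := exists_two_elt hF hq
  obtain ⟨k, hk⟩ : ∃ k, N = 2 * (k + 1) ∨ N = 2 * (k + 1) + 1 := ⟨N / 2 - 1, by omega⟩
  rcases hk with hk | hk
  · obtain ⟨W, hV⟩ := exists_wframe_even hF hk
    obtain ⟨p0, hp0, hw0⟩ := exists_adm hF W
    exact ⟨k, W, p0, _, uf_even hF hq hN W hp0 hw0 hk hV, nofix_tt _ _ (amb_U hF W) (by omega) ht h⟩
  · obtain ⟨W, d, hd, hV⟩ := exists_wframe_odd hF hk
    obtain ⟨p0, hp0, hw0⟩ := exists_adm hF W
    refine ⟨k, W, p0, _, uf_odd hF hq hN W hp0 hw0 hd hV, ?_⟩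
    rcases k with _ | k
    · exact nofix_su3 hF hq hN W hd hV _
    · exact nofix_tt _ _ (amb_U hF W) (by omega) ht h

include hF hN in
/-- **`SU_N(q)`** -/
theorem qa_su : QA (SU N F q) := by
  obtain ⟨k, W, p0, Δ, D, hnf⟩ := exists_su hF hq hN
  have := TypeC.finite_W (CoxeterMatrix.B (k + 1)).toCoxeterSystem
  have : Fact (ringChar F).Prime := ⟨CharP.char_is_prime F _⟩
  have h2 := two_ne_of_odd (hF ▸ hq.pow)
  exact (D.ld (fun _ => D.eq _) (WittAll.rgdC_model _ (WittAll.AmbT.of_amb D.amb (ringChar F)) D.c0 _)).qa Lev.levq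
    Lev.ratA (AH.main Hk.ho) Fact.out h2 (GG_top (WittModel.G1_eq_top _ k.succ_pos _)) hnf
    (Ring.two_ne_zero h2)

omit hq in
theorem rowO_u43 : RowO Cv.U43 := Alt.rowO_of_allR fun _ _ _ ⟨_, _, _, hF, ⟨e⟩⟩ => (Exc.allR_u43 hF).congr e

omit hq in
/-- **the row of `PSU_n(q)`, `q` odd** -/
theorem boxA_psu : RowA PsuO := Cv.rowA_psu rowO_u43 fun _ _ _ _ _ hq hF hn => qa_su hF hq hn

end Cfsg.Agent.ODD.FA
end

private theorem dce_443e26f45b44 : _root_.True := by
  try have : _root_.True := by simp only [_root_.Cfsg.Agent.H428.OQ.rho.eq_1]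
  try have : _root_.True := by simp only [_root_.Cfsg.Agent.ODD.FA.mx.eq_1]
  try have : _root_.True := by simp only [_root_.Cfsg.Agent.H428.OQ.Line.equiv.congr_simp]
  try have : _root_.True := by simp only [_root_.CoxeterMatrix.B.eq_1]
  exact _root_.True.intro
end
end
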